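import Cfsg.Agent.Cit.TauMain
import Cfsg.Agent.Cit.NilComp

/-!
# (6b)(CV): the common base (core-free world)

`CVW Om U` : `HYP(G,Om)`, all members are 2-groups (`O(C(t)) = 1` and 2-nilpotent), `U K = V_K` is the canonical cyclic subgroup
of order four.  `WW Om U T` = the subgroup generated by the `V_K ≤ T`; `IsA Om U A` : `A = WW Om U S`, `S` Sylow.
`RR Om U A` = the roots: the generators `v` of the `V_K ≤ A`.  `al Om U v a : ZMod 4` : `y a y⁻¹ = a v^(-al v a)`, `y ∈ K \ X_K`.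

WARNING: `al v w = al w v` is false in general (`W(G2)` modulo 4); see bb R18 (helper748, 04:09Z).
-/

set_option autoImplicit false
set_option linter.style.haveILetI false
set_option linter.unusedSectionVars false

namespace Cfsg.Agent.Cit.CV

open Subgroup Cfsg Cit Tau

variable {G : Type*} [Group G]

/-! ### Powers with exponents in `ZMod 4` -/

section pw

variable {v g : G}

/-- `v ^ n`, `n : ZMod 4` -/
def pw (v : G) (n : ZMod 4) : G := v ^ n.val

@[simp] theorem pw_zero : pw v 0 = 1 := by simp [pw]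

@[simp] theorem pw_one : pw v 1 = v := by
  have : (1 : ZMod 4).val = 1 := rfl
  rw [pw, this, pow_one]

theorem pw_two : pw v 2 = v * v := by
  have : (2 : ZMod 4).val = 2 := rfl
  rw [pw, this, pow_two]

theorem pw_add (hv : orderOf v = 4) (m n : ZMod 4) : pw v (m + n) = pw v m * pw v n := by
  rw [pw, pw, pw, ← pow_add, ZMod.val_add]
  have h1 := pow_mod_orderOf v (m.val + n.val)
  rwa [hv] at h1

theorem pw_neg (hv : orderOf v = 4) (n : ZMod 4) : pw v (-n) = (pw v n)⁻¹ :=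
  eq_inv_of_mul_eq_one_left (by rw [← pw_add hv, neg_add_cancel, pw_zero])

theorem pw_mem {H : Subgroup G} (h : v ∈ H) (n : ZMod 4) : pw v n ∈ H := H.pow_mem h _

theorem conj_pw (g v : G) (n : ZMod 4) : g * pw v n * g⁻¹ = pw (g * v * g⁻¹) n := by
  rw [pw, pw, conj_pow]

theorem pw_inj (hv : orderOf v = 4) {m n : ZMod 4} (h : pw v m = pw v n) : m = n := by
  rw [pw, pw, pow_inj_mod, hv, Nat.mod_eq_of_lt (ZMod.val_lt m), Nat.mod_eq_of_lt (ZMod.val_lt n)] at h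
  exact ZMod.val_injective 4 h

theorem pw_inv (hv : orderOf v = 4) (n : ZMod 4) : pw v⁻¹ n = pw v (-n) := by
  rw [pw_neg hv, pw, pw, inv_pow]

theorem pw_neg_one (hv : orderOf v = 4) : pw v (-1) = v⁻¹ := by rw [pw_neg hv, pw_one]

theorem exists_pw [Finite G] (hv : orderOf v = 4) {x : G} (hx : x ∈ zpowers v) : ∃ n, x = pw v n := by
  obtain ⟨k, hk⟩ := (isOfFinOrder_of_finite v).mem_powers_iff_mem_zpowers.mpr hx
  refine ⟨(k : ZMod 4), ?_⟩
  have hk' : v ^ k = x := hk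
  rw [pw, ZMod.val_natCast, ← hk']
  conv_rhs => rw [← hv]
  rw [pow_mod_orderOf]

theorem pw_comm {a : G} (h : a * v = v * a) (n : ZMod 4) : a * pw v n = pw v n * a :=
  (Commute.pow_right (show Commute a v from h) _).eq

theorem pw_pw_comm (m n : ZMod 4) : pw v m * pw v n = pw v n * pw v m :=
  ((Commute.refl v).pow_pow _ _).eq

theorem sq_pw (hv : orderOf v = 4) (n : ZMod 4) : pw v n * pw v n = pw v (2 * n) := by
  rw [← pw_add hv, two_mul]

end pw

/-! ### The world -/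

/-- the core-free world (CV) -/
structure CVW (Om : Set (Subgroup G)) (U : Subgroup G → Subgroup G) : Prop where
  hyp : Hyp Om
  two : ∀ K ∈ Om, IsPGroup 2 K
  vch : VChoice Om U
  eqc : ∀ K ∈ Om, ∀ L ∈ Om, Nat.card K = Nat.card L

/-- the roots in `A` -/
def RR (Om : Set (Subgroup G)) (U : Subgroup G → Subgroup G) (A : Subgroup G) : Set G :=
  {v | v ∈ A ∧ orderOf v = 4 ∧ ∃ K ∈ Om, v ∈ U K}

/-- the subgroup generated by the `V_K ≤ T` -/
def WW (Om : Set (Subgroup G)) (U : Subgroup G → Subgroup G) (T : Subgroup G) : Subgroup G :=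
  closure (RR Om U T)

/-- `A = W(S)` for a Sylow 2-subgroup `S` -/
def IsA (Om : Set (Subgroup G)) (U : Subgroup G → Subgroup G) (A : Subgroup G) : Prop :=
  ∃ S : Sylow 2 G, A = WW Om U S

theorem RR_eq (Om : Set (Subgroup G)) (U : Subgroup G → Subgroup G) (A : Subgroup G) :
    RR Om U A = VChoice.VV Om U ∩ A := by
  ext v
  constructor
  · rintro ⟨h1, h2, h3⟩; exact ⟨⟨h2, h3⟩, h1⟩
  · rintro ⟨⟨h2, h3⟩, h1⟩; exact ⟨h1, h2, h3⟩

variable {Om : Set (Subgroup G)} {U : Subgroup G → Subgroup G} {A K L : Subgroup G} {a b g s v w x y : G}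

theorem RR_mono {S T : Subgroup G} (h : S ≤ T) : RR Om U S ⊆ RR Om U T := fun _ hv => ⟨h hv.1, hv.2⟩

theorem WW_mono {S T : Subgroup G} (h : S ≤ T) : WW Om U S ≤ WW Om U T := closure_mono (RR_mono h)

theorem WW_le (T : Subgroup G) : WW Om U T ≤ T := (closure_le _).mpr fun _ hv => hv.1

/-- the roots of `WW T` are the roots of `T` -/
theorem RR_WW (T : Subgroup G) : RR Om U (WW Om U T) = RR Om U T :=
  Set.Subset.antisymm (RR_mono (WW_le T)) fun _ hv => ⟨subset_closure hv, hv.2⟩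

theorem WW_WW (T : Subgroup G) : WW Om U (WW Om U T) = WW Om U T := by
  rw [WW, RR_WW, ← WW]

namespace CVW

variable [Finite G]

theorem oo (h : CVW Om U) (hK : K ∈ Om) : OO K = ⊥ := OO_eq_bot_of_two (h.two K hK)

theorem mem_OmS_self (_h : CVW Om U) (hK : K ∈ Om) : K ∈ OmS Om K := ⟨hK, by rw [relIndex_self]; omega⟩

theorem U_eq (h : CVW Om U) (hK : K ∈ Om) (hv : v ∈ U K) (hv4 : orderOf v = 4) : U K = zpowers v := by
  apply (Subgroup.eq_of_le_of_card_ge (zpowers_le.2 hv) _).symm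
  rw [Nat.card_zpowers, hv4, h.vch.card K hK, h.oo hK, card_bot]

theorem exists_pw_U (h : CVW Om U) (hK : K ∈ Om) (hv : v ∈ U K) (hv4 : orderOf v = 4) (hx : x ∈ U K) :
    ∃ n, x = pw v n := by
  rw [h.U_eq hK hv hv4] at hx
  exact exists_pw hv4 hx

theorem sq_eq (h : CVW Om U) (hK : K ∈ Om) (hv : v ∈ U K) (hv4 : orderOf v = 4) : v * v = zz K :=
  h.vch.sq_eq h.hyp hK hv hv4

theorem pw_two_eq (h : CVW Om U) (hK : K ∈ Om) (hv : v ∈ U K) (hv4 : orderOf v = 4) : pw v 2 = zz K := by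
  rw [pw_two, h.sq_eq hK hv hv4]

theorem eq_or_inv (h : CVW Om U) (hK : K ∈ Om) (hv : v ∈ U K) (hv4 : orderOf v = 4) (hw : w ∈ U K)
    (hw4 : orderOf w = 4) : w = v ∨ w = v⁻¹ :=
  eq_or_eq_inv_of_four hv4 hw4 (by rw [← h.U_eq hK hv hv4]; exact hw)

theorem mem_XX_iff (h : CVW Om U) (hK : K ∈ Om) (hv : v ∈ U K) (hv4 : orderOf v = 4) (hx : x ∈ K) :
    x ∈ XX U K ↔ x * v = v * x :=
  mem_XX_T h.hyp h.vch (h.two K hK) hK hv (h.vch.le K hK hv) hv4 hx hx

/-- coordinates: `c` generates `XX U K`, `c ^ 2 ^ n` generates `U K` -/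
theorem exists_coord (h : CVW Om U) (hK : K ∈ Om) : ∃ c y n, GQ K c y (zz K) n ∧ c ^ 2 ^ n ∈ U K ∧
    orderOf (c ^ 2 ^ n) = 4 ∧ c ∈ XX U K ∧ y ∉ XX U K ∧ ∀ x ∈ XX U K, ∃ i : ℕ, x = c ^ i := by
  obtain ⟨c, y, n, hc, hcU⟩ := Tau.exists_coord h.hyp h.vch (h.two K hK) (h.mem_OmS_self hK)
  have hc' := hc
  rw [inf_idem] at hc'
  have hw : c ^ 2 ^ n * c ^ 2 ^ n = zz K := by rw [← pow_add, ← two_mul, ← pow_succ', hc.z_eq]
  have hw4 : orderOf (c ^ 2 ^ n) = 4 := GQ.orderOf_of_sq hw hc.z_mul hc.z_ne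
  refine ⟨c, y, n, hc', hcU, hw4, ?_, v_not_mem_XX h.hyp h.vch (h.two K hK) (h.mem_OmS_self hK) hc hcU, ?_⟩
  · rw [mem_XX_coord h.hyp h.vch (h.two K hK) (h.mem_OmS_self hK) hc hcU hc.c_mem]
    exact ⟨1, by simp⟩
  · intro x hx
    exact (mem_XX_coord h.hyp h.vch (h.two K hK) (h.mem_OmS_self hK) hc hcU ⟨XX_le K hx, XX_le K hx⟩).mp hx

theorem exists_y (h : CVW Om U) (hK : K ∈ Om) : ∃ y ∈ K, y ∉ XX U K := by
  obtain ⟨c, y, n, hc, -, -, -, hy, -⟩ := h.exists_coord hK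
  exact ⟨y, hc.v_mem, hy⟩

theorem exists_v (h : CVW Om U) (hK : K ∈ Om) : ∃ v ∈ U K, orderOf v = 4 := h.vch.ex K hK

/-- elements of `K` outside `XX U K` -/
theorem y_facts (h : CVW Om U) (hK : K ∈ Om) (hy : y ∈ K) (hyX : y ∉ XX U K) :
    y * y = zz K ∧ orderOf y = 4 ∧ ∀ x ∈ XX U K, y * x * y⁻¹ = x⁻¹ := by
  obtain ⟨c, v, n, hc, hcU, hw4, hcX, hvX, hcov⟩ := h.exists_coord hK
  rcases hc.cov y hy with ⟨i, rfl⟩ | ⟨i, rfl⟩
  · exact absurd ((XX U K).pow_mem hcX i) hyX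
  · refine ⟨hc.sq_out i, hc.orderOf_out i, fun x hx => ?_⟩
    obtain ⟨j, rfl⟩ := hcov x hx
    calc v * c ^ i * c ^ j * (v * c ^ i)⁻¹ = v * (c ^ i * c ^ j * (c ^ i)⁻¹) * v⁻¹ := by group
      _ = v * c ^ j * v⁻¹ := by rw [((Commute.refl c).pow_pow i j).eq, mul_inv_cancel_right]
      _ = (c ^ j)⁻¹ := by rw [hc.conj_pow]; group

theorem U_le_XX (h : CVW Om U) (hK : K ∈ Om) : U K ≤ XX U K := by
  obtain ⟨v, hv, hv4⟩ := h.exists_v hK
  intro x hx
  obtain ⟨n, rfl⟩ := h.exists_pw_U hK hv hv4 hx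
  rw [h.mem_XX_iff hK hv hv4 (h.vch.le K hK hx)]
  exact (pw_comm rfl n).symm

theorem y_inv (h : CVW Om U) (hK : K ∈ Om) (hy : y ∈ K) (hyX : y ∉ XX U K) (hv : v ∈ U K) :
    y * v * y⁻¹ = v⁻¹ := (h.y_facts hK hy hyX).2.2 v (h.U_le_XX hK hv)

/-- an element of order four lies in at most one `U K` -/
theorem eq_of_mem (h : CVW Om U) (hK : K ∈ Om) (hL : L ∈ Om) (hv : v ∈ U K) (hvL : v ∈ U L)
    (hv4 : orderOf v = 4) : K = L := by
  by_contra hne
  have hz : zz K = zz L := by rw [← h.sq_eq hK hv hv4, h.sq_eq hL hvL hv4]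
  obtain ⟨y, hy, hyX⟩ := h.exists_y hK
  rcases h.hyp.h2 K hK L hL hz with h1 | h1
  · exact hne h1
  · have h2 : y * v * y⁻¹ * v⁻¹ ∈ OO K := (h1 (commutator_mem_commutator hy (h.vch.le L hL hvL))).1
    rw [h.oo hK, mem_bot, h.y_inv hK hy hyX hv] at h2
    have h3 : v * v = 1 := by
      have : v⁻¹ * v⁻¹ = (v * v)⁻¹ := by group
      rw [this, inv_eq_one] at h2
      exact h2
    rw [h.sq_eq hK hv hv4] at h3
    exact h.hyp.zz_ne hK h3

/-- members over the same involution commute -/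
theorem comm_of_zz_eq (h : CVW Om U) (hK : K ∈ Om) (hL : L ∈ Om) (hz : zz K = zz L) (hne : K ≠ L)
    (ha : a ∈ K) (hb : b ∈ L) : a * b = b * a := by
  rcases h.hyp.h2 K hK L hL hz with h1 | h1
  · exact absurd h1 hne
  · have h2 : a * b * a⁻¹ * b⁻¹ ∈ OO K := (h1 (commutator_mem_commutator ha hb)).1
    rwa [h.oo hK, mem_bot, mul_inv_eq_one, mul_inv_eq_iff_eq_mul] at h2

/-- `g` normalising `U K` normalises `K` -/
theorem norm_of_norm_U (h : CVW Om U) (hK : K ∈ Om) (hv : v ∈ U K) (hv4 : orderOf v = 4)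
    (hg : g * v * g⁻¹ ∈ U K) : g ∈ normalizer (K : Set G) := by
  rw [mem_normalizer_iff_cj]
  exact h.eq_of_mem (h.hyp.conj K hK g) hK (h.vch.conj_mem hK hv g) hg (orderOf_conj_four hv4 g)

/-- `(H3)` -/
theorem norm_h3 (h : CVW Om U) (hK : K ∈ Om) (hL : L ∈ Om) (hy : y ∈ K) (h4 : 4 ≤ orderOf y)
    (hc : y * zz L = zz L * y) : y ∈ normalizer (L : Set G) :=
  h.hyp.norm_four (h.two K hK) hK hL hy hy h4 hc

/-- `g` normalising `K` -/
theorem conj_or (h : CVW Om U) (hK : K ∈ Om) (hg : g ∈ normalizer (K : Set G)) (hv : v ∈ U K) (hv4 : orderOf v = 4) :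
    g * v * g⁻¹ = v ∨ g * v * g⁻¹ = v⁻¹ :=
  h.eq_or_inv hK hv hv4 ((mem_normalizer_iff.mp (h.vch.le_normalizer hK hg) v).mp hv) (orderOf_conj_four hv4 g)

/-! ### `A = W(S)` -/

theorem comm (h : CVW Om U) (hA : IsA Om U A) (ha : a ∈ A) (hb : b ∈ A) : a * b = b * a := by
  obtain ⟨S, rfl⟩ := hA
  have h1 := h.vch.closure_comm h.hyp S.isPGroup'
  rw [← RR_eq] at h1
  exact h1 a ha b hb

theorem RR_cj (h : CVW Om U) (g : G) {T : Subgroup G} : v ∈ RR Om U T ↔ g * v * g⁻¹ ∈ RR Om U (cj g T) := by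
  have key : ∀ {g v : G} {T : Subgroup G}, v ∈ RR Om U T → g * v * g⁻¹ ∈ RR Om U (cj g T) := by
    rintro g v T ⟨h1, h2, K, hK, hvK⟩
    exact ⟨conj_mem_cj h1, orderOf_conj_four h2 g, cj g K, h.hyp.conj K hK g, h.vch.conj_mem hK hvK g⟩
  refine ⟨key, fun hh => ?_⟩
  have h1 := key (g := g⁻¹) hh
  rw [cj_inv_cj] at h1
  have h2 : g⁻¹ * (g * v * g⁻¹) * g⁻¹⁻¹ = v := by group
  rwa [h2] at h1

theorem WW_cj (h : CVW Om U) (g : G) (T : Subgroup G) : WW Om U (cj g T) = cj g (WW Om U T) := by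
  have key : ∀ (g : G) (T : Subgroup G), cj g (WW Om U T) ≤ WW Om U (cj g T) := by
    intro g T
    have h1 : WW Om U T ≤ cj g⁻¹ (WW Om U (cj g T)) := by
      rw [WW, closure_le]
      intro v hv
      have h2 := conj_mem_cj (g := g⁻¹) (K := WW Om U (cj g T)) (subset_closure ((h.RR_cj g).mp hv))
      have h3 : g⁻¹ * (g * v * g⁻¹) * g⁻¹⁻¹ = v := by group
      rwa [h3] at h2
    have h2 := cj_mono g h1
    rwa [cj_cj_inv] at h2
  refine le_antisymm ?_ (key g T)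
  have h1 := cj_mono g (key g⁻¹ (cj g T))
  rwa [cj_cj_inv, cj_inv_cj] at h1

theorem isA_cj (h : CVW Om U) (hA : IsA Om U A) (g : G) : IsA Om U (cj g A) := by
  haveI : Fact (Nat.Prime 2) := ⟨Nat.prime_two⟩
  obtain ⟨S, rfl⟩ := hA
  refine ⟨g • S, ?_⟩
  have h1 : ((g • S : Sylow 2 G) : Subgroup G) = cj g S := by
    ext x
    rw [mem_cj, Sylow.coe_subgroup_smul, Subgroup.mem_pointwise_smul_iff_inv_smul_mem]
    simp [MulAut.smul_def]
  rw [h1, h.WW_cj]

theorem isA_two (hA : IsA Om U A) : IsPGroup 2 A := by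
  obtain ⟨S, rfl⟩ := hA
  exact S.isPGroup'.to_le (WW_le _)

theorem WW_self (hA : IsA Om U A) : WW Om U A = A := by
  obtain ⟨S, rfl⟩ := hA
  exact WW_WW _

theorem isA_conj (hA : IsA Om U A) (h : CVW Om U) {B : Subgroup G} (hB : IsA Om U B) : ∃ g, B = cj g A := by
  haveI : Fact (Nat.Prime 2) := ⟨Nat.prime_two⟩
  obtain ⟨S, rfl⟩ := hA
  obtain ⟨T, rfl⟩ := hB
  obtain ⟨g, hg⟩ := exists_le_cj S T.isPGroup'
  refine ⟨g, ?_⟩
  have h1 : (T : Subgroup G) = cj g S := by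
    apply Subgroup.eq_of_le_of_card_ge hg
    rw [card_cj]
    exact (Sylow.card_eq_multiplicity S).trans_le (Sylow.card_eq_multiplicity T).ge
  rw [h1, h.WW_cj]

/-- weak closure -/
theorem WW_eq (h : CVW Om U) (hA : IsA Om U A) {T : Subgroup G} (hT : IsPGroup 2 T) (hAT : A ≤ T) :
    WW Om U T = A := by
  obtain ⟨S, rfl⟩ := hA
  obtain ⟨g, hg⟩ := exists_le_cj S hT
  have h1 : WW Om U (S : Subgroup G) ≤ WW Om U T := by
    have := WW_mono (Om := Om) (U := U) hAT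
    rwa [WW_WW] at this
  have h2 : WW Om U T ≤ cj g (WW Om U (S : Subgroup G)) := by
    rw [← h.WW_cj]
    exact WW_mono hg
  refine (Subgroup.eq_of_le_of_card_ge h1 ?_).symm
  rw [← card_cj g (WW Om U (S : Subgroup G))]
  exact Nat.le_of_dvd Nat.card_pos (card_dvd_of_le h2)

theorem normalizer_le (h : CVW Om U) (T : Subgroup G) :
    normalizer (T : Set G) ≤ normalizer (WW Om U T : Set G) := by
  intro g hg
  rw [mem_normalizer_iff_cj, ← h.WW_cj, mem_normalizer_iff_cj.mp hg]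

theorem le_norm (h : CVW Om U) (hA : IsA Om U A) {T : Subgroup G} (hT : IsPGroup 2 T) (hAT : A ≤ T) :
    T ≤ normalizer (A : Set G) := by
  rw [← h.WW_eq hA hT hAT]
  exact le_normalizer.trans (h.normalizer_le T)

theorem sylow_norm (h : CVW Om U) (S : Sylow 2 G) : normalizer (S : Set G) ≤ normalizer (WW Om U (S : Subgroup G) : Set G) :=
  h.normalizer_le _

theorem pow_four (h : CVW Om U) (hA : IsA Om U A) (ha : a ∈ A) : a ^ 4 = 1 := by
  have key : ∀ a ∈ closure (RR Om U A), a ∈ A ∧ a ^ 4 = 1 := by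
    intro a ha
    induction ha using closure_induction with
    | mem v hv => exact ⟨hv.1, by rw [← hv.2.1]; exact pow_orderOf_eq_one v⟩
    | one => exact ⟨A.one_mem, one_pow 4⟩
    | mul x y _ _ hx hy =>
      refine ⟨A.mul_mem hx.1 hy.1, ?_⟩
      rw [(show Commute x y from h.comm hA hx.1 hy.1).mul_pow, hx.2, hy.2, one_mul]
    | inv x _ hx => exact ⟨A.inv_mem hx.1, by rw [inv_pow, hx.2, inv_one]⟩
  have h2 : closure (RR Om U A) = A := WW_self hA
  exact (key a (by rw [h2]; exact ha)).2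

theorem mem_U_of_pow_four (h : CVW Om U) (hK : K ∈ Om) (hx : x ∈ XX U K) (h4 : x ^ 4 = 1) : x ∈ U K := by
  obtain ⟨c, y, n, hc, hcU, hw4, hcX, hyX, hcov⟩ := h.exists_coord hK
  obtain ⟨i, rfl⟩ := hcov x hx
  rw [← pow_mul] at h4
  have h1 := orderOf_dvd_of_pow_eq_one h4
  rw [hc.ord, pow_add] at h1
  have h2 : 2 ^ n ∣ i := Nat.dvd_of_mul_dvd_mul_right (by norm_num : 0 < 2 ^ 2) h1
  obtain ⟨j, rfl⟩ := h2
  rw [pow_mul]
  exact (U K).pow_mem hcU j

section root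

variable (h : CVW Om U) (hA : IsA Om U A) (hK : K ∈ Om) (hv : v ∈ U K) (hv4 : orderOf v = 4) (hvA : v ∈ A)
include h hA hK hv hv4 hvA

theorem U_le_A : U K ≤ A := by
  rw [h.U_eq hK hv hv4, zpowers_le]
  exact hvA

theorem zz_mem_A : zz K ∈ A := by
  rw [← h.sq_eq hK hv hv4]
  exact A.mul_mem hvA hvA

theorem A_le_norm : A ≤ normalizer (K : Set G) := by
  have hz := h.zz_mem_A hA hK hv hv4 hvA
  have h1 : closure (RR Om U A) ≤ normalizer (K : Set G) := by
    rw [closure_le]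
    rintro w ⟨hwA, hw4, L, hL, hwL⟩
    exact h.norm_h3 hL hK (h.vch.le L hL hwL) (by rw [hw4]) (h.comm hA hwA hz)
  have h2 : closure (RR Om U A) = A := WW_self hA
  rwa [h2] at h1

theorem K_le_norm : K ≤ normalizer (A : Set G) := by
  have h1 := h.A_le_norm hA hK hv hv4 hvA
  have h2 : IsPGroup 2 (A ⊔ K : Subgroup G) := (isA_two hA).to_sup_of_normal_right' (h.two K hK) h1
  exact le_sup_right.trans (h.le_norm hA h2 le_sup_left)

theorem inf_le_U (hxA : x ∈ A ∧ x ∈ XX U K) : x ∈ U K :=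
  h.mem_U_of_pow_four hK hxA.2 (h.pow_four hA hxA.1)

theorem inf_le_U' (hxA : x ∈ A) (hxK : x ∈ K) : x ∈ U K :=
  h.inf_le_U hA hK hv hv4 hvA ⟨hxA, (h.mem_XX_iff hK hv hv4 hxK).mpr (h.comm hA hxA hvA)⟩

/-- `X_K` centralises `A` -/
theorem XX_comm (hx : x ∈ XX U K) (ha : a ∈ A) : x * a = a * x := by
  have hAK := h.A_le_norm hA hK hv hv4 hvA
  have hKA := h.K_le_norm hA hK hv hv4 hvA
  obtain ⟨c, y, n, hc, hcU, hw4, hcX, hyX, hcov⟩ := h.exists_coord hK
  set u := c ^ 2 ^ n with hu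
  have huA : u ∈ A := h.U_le_A hA hK hv hv4 hvA hcU
  have hcK : c ∈ K := hc.c_mem
  have hcu : c * u = u * c := ((Commute.refl c).pow_right _).eq
  -- it is enough to show that `c` commutes with the roots
  have key : ∀ w ∈ RR Om U A, c * w = w * c := by
    rintro w ⟨hwA, hw4', L, hL, hwL⟩
    rcases Nat.eq_zero_or_pos n with hn | hn
    · subst hn
      rw [pow_zero, pow_one] at hu
      rw [← hu]
      exact h.comm hA huA hwA
    have hcAK : c * w * c⁻¹ * w⁻¹ ∈ U K := by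
      refine h.inf_le_U hA hK hv hv4 hvA ?_
      refine ⟨A.mul_mem ((mem_normalizer_iff.mp (hKA hcK) w).mp hwA) (A.inv_mem hwA), ?_⟩
      have h1 : w * c⁻¹ * w⁻¹ ∈ XX U K :=
        (mem_normalizer_iff.mp (le_normalizer_XX h.vch hK (hAK hwA)) _).mp ((XX U K).inv_mem hcX)
      have h2 := (XX U K).mul_mem hcX h1
      have h3 : c * (w * c⁻¹ * w⁻¹) = c * w * c⁻¹ * w⁻¹ := by group
      rwa [h3] at h2
    obtain ⟨j, hj⟩ := h.exists_pw_U hK hcU hw4 hcAK
    have h1 : c * w * c⁻¹ = pw u j * w := mul_inv_eq_iff_eq_mul.mp hj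
    have huw : ∀ j, pw u j * w = w * pw u j := fun j => (pw_comm (h.comm hA hwA huA) j).symm
    have hww : w * w = zz L := h.sq_eq hL hwL hw4'
    have hcz : c * zz L * c⁻¹ = pw u (2 * j) * zz L := by
      have h2 : c * (w * w) * c⁻¹ = (c * w * c⁻¹) * (c * w * c⁻¹) := by group
      rw [← hww, h2, h1, mul_assoc, ← mul_assoc w, ← huw, mul_assoc, ← mul_assoc (pw u j), sq_pw hw4]
    have hcord : 4 ≤ orderOf c := by
      rw [hc.ord, pow_add]
      have : 1 ≤ 2 ^ n := Nat.one_le_two_pow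
      omega
    have hu2 : pw u 2 = zz K := h.pw_two_eq hK hcU hw4
    -- an element of `K` normalising `L`
    have fin : ∀ t : G, t ∈ K → t ∈ normalizer (L : Set G) → ∀ i : ZMod 4, t * w * t⁻¹ = pw u i * w → i = 0 ∨
        (i = 2 ∧ zz K = zz L) := by
      intro t htK htL i hi
      rcases h.conj_or hL htL hwL hw4' with h2 | h2
      · left
        rw [hi] at h2
        have h3 : pw u i = pw u 0 := by rw [pw_zero]; exact mul_eq_right.mp h2
        exact pw_inj hw4 h3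
      · right
        rw [hi] at h2
        have h3 : pw u i = zz L := by
          rw [eq_mul_inv_of_mul_eq h2, ← mul_inv_rev, hww, h.hyp.zz_inv hL]
        have h4 : pw u (2 * i) = pw u 0 := by
          rw [← sq_pw hw4, h3, h.hyp.zz_mul hL, pw_zero]
        have h5 := pw_inj hw4 h4
        have h6 : i ≠ 0 := by
          rintro rfl
          rw [pw_zero] at h3
          exact h.hyp.zz_ne hL h3.symm
        have h7 : ∀ i : ZMod 4, 2 * i = 0 → i ≠ 0 → i = 2 := by decide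
        have h8 := h7 i h5 h6
        subst h8
        exact ⟨rfl, by rw [← hu2, h3]⟩
    have done : zz K = zz L → c * w = w * c := by
      intro hz
      by_cases hKL : K = L
      · subst hKL
        exact (h.mem_XX_iff hK hwL hw4' hcK).mp hcX
      · exact h.comm_of_zz_eq hK hL hz hKL hcK (h.vch.le L hL hwL)
    have hj4 : ∀ j : ZMod 4, 2 * j = 0 ∨ 2 * j = 2 := by decide
    rcases hj4 j with h2 | h2
    · have h3 : c ∈ normalizer (L : Set G) := by
        apply h.norm_h3 hK hL hcK hcord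
        rw [h2, pw_zero, one_mul] at hcz
        exact mul_inv_eq_iff_eq_mul.mp hcz
      rcases fin c hcK h3 j h1 with h4 | ⟨-, h4⟩
      · subst h4
        rw [pw_zero, one_mul] at h1
        exact mul_inv_eq_iff_eq_mul.mp h1
      · exact done h4
    · exfalso
      rw [h2, hu2] at hcz
      -- `c²` normalises `L`
      have hcc : c * c * w * (c * c)⁻¹ = pw u 2 * w := by
        calc c * c * w * (c * c)⁻¹ = c * (c * w * c⁻¹) * c⁻¹ := by group
          _ = c * (pw u j * w) * c⁻¹ := by rw [h1]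
          _ = (c * pw u j * c⁻¹) * (c * w * c⁻¹) := by group
          _ = pw u j * (pw u j * w) := by rw [h1, pw_comm hcu, mul_inv_cancel_right]
          _ = pw u 2 * w := by rw [← mul_assoc, sq_pw hw4, h2]
      have hccz : c * c * zz L = zz L * (c * c) := by
        have h3 : c * (c * zz L * c⁻¹) * c⁻¹ = zz L := by
          rw [hcz]
          have h4 : c * zz K = zz K * c := h.hyp.comm_zz hK (le_normalizer hcK)
          calc c * (zz K * zz L) * c⁻¹ = (c * zz K) * c⁻¹ * (c * zz L * c⁻¹) := by group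
            _ = zz K * (zz K * zz L) := by rw [h4, mul_inv_cancel_right, hcz]
            _ = zz L := by rw [← mul_assoc, h.hyp.zz_mul hK, one_mul]
        have h5 : c * c * zz L * (c * c)⁻¹ = zz L := by
          calc c * c * zz L * (c * c)⁻¹ = c * (c * zz L * c⁻¹) * c⁻¹ := by group
            _ = zz L := h3
        exact mul_inv_eq_iff_eq_mul.mp h5
      have hccord : 4 ≤ orderOf (c * c) := by
        have h3 : orderOf (c ^ 2) = 2 ^ (n + 1) := by
          rw [orderOf_pow_of_dvd (by norm_num) (by rw [hc.ord]; exact dvd_pow_self 2 (by omega)), hc.ord]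
          rw [show 2 ^ (n + 2) = 2 ^ (n + 1) * 2 by ring]
          exact Nat.mul_div_cancel _ (by norm_num)
        rw [← pow_two, h3, pow_succ]
        obtain ⟨m, rfl⟩ : ∃ m, n = m + 1 := ⟨n - 1, by omega⟩
        rw [pow_succ]
        have : 1 ≤ 2 ^ m := Nat.one_le_two_pow
        omega
      have hccN : c * c ∈ normalizer (L : Set G) := h.norm_h3 hK hL (K.mul_mem hcK hcK) hccord hccz
      rcases fin (c * c) (K.mul_mem hcK hcK) hccN 2 hcc with h4 | ⟨-, h4⟩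
      · exact absurd h4 (by decide)
      · rw [h4] at hcz
        have h5 : c * zz L = zz L * c := by rw [← h4]; exact h.hyp.comm_zz hK (le_normalizer hcK)
        rw [h5, mul_inv_cancel_right, h.hyp.zz_mul hL] at hcz
        exact h.hyp.zz_ne hL hcz
  have h1 : closure (RR Om U A) ≤ centralizer {c} := by
    rw [closure_le]
    intro w hw
    exact mem_centralizer_singleton_iff.mpr (key w hw).symm
  have h2 : closure (RR Om U A) = A := WW_self hA
  rw [h2] at h1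
  obtain ⟨i, rfl⟩ := hcov x hx
  have h3 : Commute c a := (mem_centralizer_singleton_iff.mp (h1 ha)).symm
  exact (h3.pow_left i).eq

/-- `y a y⁻¹ = a v^(-n)` -/
theorem exists_al (hy : y ∈ K) (ha : a ∈ A) : ∃ n : ZMod 4, y * a * y⁻¹ = a * pw v (-n) := by
  have hAK := h.A_le_norm hA hK hv hv4 hvA
  have hKA := h.K_le_norm hA hK hv hv4 hvA
  have h1 : a⁻¹ * (y * a * y⁻¹) ∈ A := A.mul_mem (A.inv_mem ha) ((mem_normalizer_iff.mp (hKA hy) a).mp ha)
  have h2 : a⁻¹ * (y * a * y⁻¹) ∈ K := by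
    have h3 := K.mul_mem ((mem_normalizer_iff.mp (hAK (A.inv_mem ha)) y).mp hy) (K.inv_mem hy)
    have h4 : a⁻¹ * y * a⁻¹⁻¹ * y⁻¹ = a⁻¹ * (y * a * y⁻¹) := by group
    rwa [h4] at h3
  obtain ⟨n, hn⟩ := h.exists_pw_U hK hv hv4 (h.inf_le_U' hA hK hv hv4 hvA h1 h2)
  refine ⟨-n, ?_⟩
  rw [neg_neg, ← hn]; group

end root

end CVW

/-! ### The functions `al` -/

open Classical in
/-- `y a y⁻¹ = a v^(-al v a)` for `v ∈ U K`, `y ∈ K \ XX U K` -/
noncomputable def al (Om : Set (Subgroup G)) (U : Subgroup G → Subgroup G) (v a : G) : ZMod 4 :=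
  if h : ∃ n : ZMod 4, ∃ K ∈ Om, v ∈ U K ∧ ∃ y ∈ K, y ∉ XX U K ∧ y * a * y⁻¹ = a * pw v (-n) then h.choose else 0

namespace CVW

variable [Finite G]

theorem al_eq (h : CVW Om U) (hA : IsA Om U A) (hK : K ∈ Om) (hv : v ∈ U K) (hv4 : orderOf v = 4) (hvA : v ∈ A)
    (hy : y ∈ K) (hyX : y ∉ XX U K) (ha : a ∈ A) {n : ZMod 4} (hn : y * a * y⁻¹ = a * pw v (-n)) :
    al Om U v a = n := by
  have hex : ∃ n : ZMod 4, ∃ K ∈ Om, v ∈ U K ∧ ∃ y ∈ K, y ∉ XX U K ∧ y * a * y⁻¹ = a * pw v (-n) :=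
    ⟨n, K, hK, hv, y, hy, hyX, hn⟩
  rw [al, dif_pos hex]
  obtain ⟨L, hL, hvL, y', hy', hy'X, hn'⟩ := hex.choose_spec
  have hKL := h.eq_of_mem hK hL hv hvL hv4
  subst hKL
  have h1 := inv_mul_mem_XX h.vch hK hy hy' hyX hy'X
  have h2 := h.XX_comm hA hK hv hv4 hvA h1 ha
  have h3 : y' * a * y'⁻¹ = y * a * y⁻¹ := by
    calc y' * a * y'⁻¹ = y * (y⁻¹ * y' * a) * y'⁻¹ := by group
      _ = y * a * y⁻¹ := by rw [h2]; group
  rw [h3, hn] at hn'
  have h4 := pw_inj hv4 (mul_left_cancel hn')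
  exact (neg_injective h4).symm

theorem al_spec (h : CVW Om U) (hA : IsA Om U A) (hK : K ∈ Om) (hv : v ∈ U K) (hv4 : orderOf v = 4) (hvA : v ∈ A)
    (hy : y ∈ K) (hyX : y ∉ XX U K) (ha : a ∈ A) : y * a * y⁻¹ = a * pw v (-al Om U v a) := by
  obtain ⟨n, hn⟩ := h.exists_al hA hK hv hv4 hvA hy ha
  rw [h.al_eq hA hK hv hv4 hvA hy hyX ha hn]
  exact hn

theorem al_mul (h : CVW Om U) (hA : IsA Om U A) (hv : v ∈ RR Om U A) (ha : a ∈ A) (hb : b ∈ A) :
    al Om U v (a * b) = al Om U v a + al Om U v b := by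
  obtain ⟨hvA, hv4, K, hK, hvK⟩ := hv
  obtain ⟨y, hy, hyX⟩ := h.exists_y hK
  refine h.al_eq hA hK hvK hv4 hvA hy hyX (A.mul_mem ha hb) ?_
  have h1 := h.al_spec hA hK hvK hv4 hvA hy hyX ha
  have h2 := h.al_spec hA hK hvK hv4 hvA hy hyX hb
  have h3 : y * (a * b) * y⁻¹ = (y * a * y⁻¹) * (y * b * y⁻¹) := by group
  rw [h3, h1, h2, neg_add, pw_add hv4]
  have h4 := pw_comm (h.comm hA hb hvA) (-al Om U v a)
  calc a * pw v (-al Om U v a) * (b * pw v (-al Om U v b)) = a * (pw v (-al Om U v a) * b) * pw v (-al Om U v b) := by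
        group
    _ = _ := by rw [← h4]; group

theorem al_neg (h : CVW Om U) (hA : IsA Om U A) (hv : v ∈ RR Om U A) (ha : a ∈ A) :
    al Om U v⁻¹ a = -al Om U v a := by
  obtain ⟨hvA, hv4, K, hK, hvK⟩ := hv
  obtain ⟨y, hy, hyX⟩ := h.exists_y hK
  refine h.al_eq hA hK ((U K).inv_mem hvK) (by rw [orderOf_inv, hv4]) (A.inv_mem hvA) hy hyX ha ?_
  rw [h.al_spec hA hK hvK hv4 hvA hy hyX ha, pw_inv hv4, neg_neg]

theorem al_self (h : CVW Om U) (hA : IsA Om U A) (hv : v ∈ RR Om U A) : al Om U v v = 2 := by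
  obtain ⟨hvA, hv4, K, hK, hvK⟩ := hv
  obtain ⟨y, hy, hyX⟩ := h.exists_y hK
  refine h.al_eq hA hK hvK hv4 hvA hy hyX hvA ?_
  rw [h.y_inv hK hy hyX hvK]
  have h1 : pw v (1 + -2) = pw v 1 * pw v (-2) := pw_add hv4 _ _
  rw [pw_one] at h1
  rw [← h1, ← pw_neg_one hv4]
  congr 1

end CVW

end Cfsg.Agent.Cit.CV
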