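import Cfsg.Agent.Cit.Nil.CV.Root

/-!
# S1309 (CV): the cyclic parts `X_K = XX U K`

Helper 542, on top of helper748's `CVW`.
`xx_comm` : (X1) `[X_K, X_L] = 1`.  `y_xx`, `y_xx_odd` : (X2) `x_L^{y_K} = x_L x_K^odd` for linked `K`, `L`.
`inv_xx` : `s = zz N` inverting `V_K` inverts `X_K`, and `y_K^s = x_K^odd y_K` (`inv_y`).
`zz_comm` : `z_N` centralises `V_K` iff `z_K` centralises `V_N`.
`cent_xx` : an element of `C(A)` centralising `X_K` centralises `X_L`, `L` linked to `K`.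
-/

set_option autoImplicit false
set_option linter.style.haveILetI false
set_option linter.unusedSectionVars false

namespace Cfsg.Agent.Cit.Nil.CV.XLevel

open Subgroup Cfsg Cit Tau Cit.CV

variable {G : Type*} [Group G] [Finite G] {Om : Set (Subgroup G)} {U : Subgroup G → Subgroup G}
  {A K L M N : Subgroup G} {a b g s t v w x x' y : G}

/-- different involutions: trivial intersection -/
theorem zz_eq_of_mem (h : CVW Om U) (hK : K ∈ Om) (hL : L ∈ Om) (h1 : t ∈ K) (h2 : t ∈ L) (h3 : t ≠ 1) :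
    zz K = zz L := by
  haveI : Fact (Nat.Prime 2) := ⟨Nat.prime_two⟩
  have h4 : IsPGroup 2 (K ⊓ L : Subgroup G) := (h.two K hK).to_le inf_le_left
  obtain ⟨k, hk⟩ := IsPGroup.iff_card.1 h4
  have h5 : 2 ∣ Nat.card (K ⊓ L : Subgroup G) := by
    rw [hk]
    apply dvd_pow_self
    rintro rfl
    rw [pow_zero, card_eq_one] at hk
    have h6 : t ∈ K ⊓ L := ⟨h1, h2⟩
    rw [hk, mem_bot] at h6
    exact h3 h6
  obtain ⟨r, hr⟩ := exists_prime_orderOf_dvd_card' 2 h5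
  have hr' : orderOf (r : G) = 2 := by rw [Subgroup.orderOf_coe, hr]
  rw [← h.hyp.uniq K hK _ r.2.1 hr', ← h.hyp.uniq L hL _ r.2.2 hr']

/-- `X_K` is abelian -/
theorem xx_comm_self (h : CVW Om U) (hK : K ∈ Om) (hx : x ∈ XX U K) (hx' : x' ∈ XX U K) : x * x' = x' * x := by
  obtain ⟨c, y, n, hc, hcU, hu4, hcX, hyX, hcov⟩ := h.exists_coord hK
  obtain ⟨i, rfl⟩ := hcov x hx
  obtain ⟨j, rfl⟩ := hcov x' hx'
  exact ((Commute.refl c).pow_pow i j).eq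

/-- the elements of `X_K` centralise `A` -/
theorem xx_A (h : CVW Om U) (hA : IsA Om U A) (hK : K ∈ Om) (hvK : v ∈ U K) (hv : v ∈ RR Om U A)
    (hx : x ∈ XX U K) (ha : a ∈ A) : x * a = a * x := h.XX_comm hA hK hvK hv.2.1 hv.1 hx ha

/-- an element centralising `A` normalises the members over `A` -/
theorem norm_of_cent (h : CVW Om U) (hK : K ∈ Om) (hvK : v ∈ U K) (hv : v ∈ RR Om U A)
    (hg : ∀ a ∈ A, g * a = a * g) : g ∈ normalizer (K : Set G) :=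
  h.norm_of_comm hK hvK hv.2.1 (hg v hv.1)

/-- **(X1)** -/
theorem xx_comm (h : CVW Om U) (hA : IsA Om U A) (hK : K ∈ Om) (hvK : v ∈ U K) (hv : v ∈ RR Om U A)
    (hL : L ∈ Om) (hwL : w ∈ U L) (hw : w ∈ RR Om U A) (hx : x ∈ XX U K) (hx' : x' ∈ XX U L) :
    x * x' = x' * x := by
  by_cases hz : zz K = zz L
  · by_cases hKL : K = L
    · subst hKL
      exact xx_comm_self h hK hx hx'
    · exact h.comm_of_zz_eq hK hL hz hKL (XX_le K hx) (XX_le L hx')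
  · have hxL : x ∈ normalizer (L : Set G) := norm_of_cent h hL hwL hw (fun a ha => xx_A h hA hK hvK hv hx ha)
    have hxK : x' ∈ normalizer (K : Set G) := norm_of_cent h hK hvK hv (fun a ha => xx_A h hA hL hwL hw hx' ha)
    have h1 : x * x' * x⁻¹ * x'⁻¹ ∈ L :=
      L.mul_mem ((mem_normalizer_iff.mp hxL x').mp (XX_le L hx')) (L.inv_mem (XX_le L hx'))
    have h2 : x * x' * x⁻¹ * x'⁻¹ ∈ K := by
      have h3 := K.mul_mem (XX_le K hx) ((mem_normalizer_iff.mp hxK x⁻¹).mp (K.inv_mem (XX_le K hx)))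
      have h4 : x * (x' * x⁻¹ * x'⁻¹) = x * x' * x⁻¹ * x'⁻¹ := by group
      rwa [h4] at h3
    by_contra hne
    apply hz
    refine zz_eq_of_mem h hK hL h2 h1 ?_
    intro h5
    rw [mul_inv_eq_one, mul_inv_eq_iff_eq_mul] at h5
    exact hne h5

/-- the elements of `C(A) ∩ K` -/
theorem mem_xx_of_cent (h : CVW Om U) (hK : K ∈ Om) (hvK : v ∈ U K) (hv : v ∈ RR Om U A) (hx : x ∈ K)
    (hc : ∀ a ∈ A, x * a = a * x) : x ∈ XX U K :=
  (h.mem_XX_iff hK hvK hv.2.1 hx).mpr (hc v hv.1)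

/-- `N(A)` acts on `C(A)` -/
theorem cent_conj (hg : g ∈ normalizer (A : Set G)) (hx : ∀ a ∈ A, x * a = a * x) :
    ∀ a ∈ A, (g * x * g⁻¹) * a = a * (g * x * g⁻¹) := by
  intro a ha
  have h1 : g⁻¹ * a * g ∈ A := by
    have := (mem_normalizer_iff.mp (inv_mem hg) a).mp ha
    rwa [inv_inv] at this
  calc g * x * g⁻¹ * a = g * (x * (g⁻¹ * a * g)) * g⁻¹ := by group
    _ = g * ((g⁻¹ * a * g) * x) * g⁻¹ := by rw [hx _ h1]
    _ = a * (g * x * g⁻¹) := by group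

theorem cent_mul (hx : ∀ a ∈ A, x * a = a * x) (hy : ∀ a ∈ A, y * a = a * y) :
    ∀ a ∈ A, (x * y) * a = a * (x * y) := by
  intro a ha
  rw [mul_assoc, hy a ha, ← mul_assoc, hx a ha, mul_assoc]

theorem cent_inv (hx : ∀ a ∈ A, x * a = a * x) : ∀ a ∈ A, x⁻¹ * a = a * x⁻¹ := by
  intro a ha
  rw [inv_mul_eq_iff_eq_mul, ← mul_assoc, hx a ha, mul_inv_cancel_right]

/-- **(X2)**: `y x' y⁻¹ = θ x'`, `θ ∈ X_K` -/
theorem y_xx (h : CVW Om U) (hA : IsA Om U A) (hK : K ∈ Om) (hvK : v ∈ U K) (hv : v ∈ RR Om U A)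
    (hL : L ∈ Om) (hwL : w ∈ U L) (hw : w ∈ RR Om U A) (hy : y ∈ K) (hx' : x' ∈ XX U L) :
    y * x' * y⁻¹ * x'⁻¹ ∈ XX U K := by
  have hxA : ∀ a ∈ A, x' * a = a * x' := fun a ha => xx_A h hA hL hwL hw hx' ha
  have hyA := h.K_le_norm hA hK hvK hv.2.1 hv.1 hy
  have hxK := norm_of_cent h hK hvK hv hxA
  refine mem_xx_of_cent h hK hvK hv ?_ (cent_mul (cent_conj hyA hxA) (cent_inv hxA))
  have h3 := K.mul_mem hy ((mem_normalizer_iff.mp hxK y⁻¹).mp (K.inv_mem hy))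
  have h4 : y * (x' * y⁻¹ * x'⁻¹) = y * x' * y⁻¹ * x'⁻¹ := by group
  rwa [h4] at h3

/-- **(X2)**: `θ` is odd iff `x'` is -/
theorem y_xx_odd (h : CVW Om U) (hA : IsA Om U A) (hK : K ∈ Om) (hvK : v ∈ U K) (hv : v ∈ RR Om U A)
    (hL : L ∈ Om) (hwL : w ∈ U L) (hw : w ∈ RR Om U A) (h0 : al Om U v w ≠ 0) (h2 : al Om U v w ≠ 2)
    (hy : y ∈ K) (hyX : y ∉ XX U K) (hx' : x' ∈ XX U L) :
    W2 U K (y * x' * y⁻¹ * x'⁻¹) ↔ W2 U L x' := by
  have hxA : ∀ a ∈ A, x' * a = a * x' := fun a ha => xx_A h hA hL hwL hw hx' ha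
  have hxK := norm_of_cent h hK hvK hv hxA
  rw [← h.ev_XX hA hL hwL hw hK hvK hv h0 h2 hx', h.ev_iff hK hxK hy hyX,
    ← h.W2_conj hK (inv_mem (le_normalizer hy))]
  have h1 : y⁻¹ * (y * x' * y⁻¹ * x'⁻¹) * y⁻¹⁻¹ = (x' * y * x'⁻¹)⁻¹ * y := by group
  rw [h1]

/-- an odd element generates `X_K` -/
theorem gen_of_odd (h : CVW Om U) (hK : K ∈ Om) (hx : x ∈ XX U K) (hodd : ¬ W2 U K x) (hx' : x' ∈ XX U K) :
    ∃ i : ℤ, x' = x ^ i := by
  obtain ⟨c, y, n, hc, hcU, hu4, hcX, hyX, hcov⟩ := h.exists_coord hK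
  obtain ⟨j, rfl⟩ := hcov x hx
  have hj : Odd j := by
    by_contra hj
    rw [Nat.not_odd_iff_even] at hj
    obtain ⟨k, rfl⟩ := hj
    exact hodd ((h.W2_iff hK).mpr ⟨c ^ k, (XX U K).pow_mem hcX k, by rw [pow_add]⟩)
  have hco : Nat.Coprime (orderOf c) j := by
    rw [hc.ord]
    exact Nat.Coprime.pow_left _ (Nat.coprime_two_left.2 hj)
  have h1 : zpowers (c ^ j) = zpowers c := by
    apply eq_of_le_of_card_ge (zpowers_le.2 (pow_mem (mem_zpowers c) j))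
    rw [Nat.card_zpowers, Nat.card_zpowers, Nat.Coprime.orderOf_pow hco]
  obtain ⟨i, rfl⟩ := hcov x' hx'
  have h2 : c ^ i ∈ zpowers (c ^ j) := by rw [h1]; exact pow_mem (mem_zpowers c) i
  obtain ⟨k, hk⟩ := h2
  exact ⟨k, hk.symm⟩

theorem exists_odd (h : CVW Om U) (hK : K ∈ Om) : ∃ x ∈ XX U K, ¬ W2 U K x := by
  obtain ⟨c, y, n, hc, hcU, hu4, hcX, hyX, hcov⟩ := h.exists_coord hK
  refine ⟨c, hcX, fun h1 => ?_⟩
  obtain ⟨k, hk, hck⟩ := (h.W2_iff hK).mp h1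
  obtain ⟨i, rfl⟩ := hcov k hk
  rw [← pow_add] at hck
  have h2 : c ^ (((i + i : ℕ) : ℤ) - 1) = 1 := by
    rw [zpow_sub, zpow_natCast, ← hck, zpow_one, mul_inv_cancel]
  have h3 := orderOf_dvd_iff_zpow_eq_one.2 h2
  rw [hc.ord, pow_succ] at h3
  push_cast at h3
  obtain ⟨m, hm⟩ := h3
  have : (2 : ℤ) ∣ 1 := ⟨(i : ℤ) - 2 ^ (n + 1) * m, by linarith⟩
  norm_num at this

/-- the order of an odd element depends only on the class -/
theorem odd_order (h : CVW Om U) (hK : K ∈ Om) (hL : L ∈ Om) (hx : x ∈ XX U K) (hodd : ¬ W2 U K x)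
    (hx' : x' ∈ XX U L) {i : ℤ} (hi : x ^ i = 1) : x' ^ i = 1 := by
  obtain ⟨c, y, n, hc, hcU, hu4, hcX, hyX, hcov⟩ := h.exists_coord hK
  obtain ⟨c', y', n', hc', hcU', hu4', hcX', hyX', hcov'⟩ := h.exists_coord hL
  have hnn : n = n' := by
    have h4 := h.eqc K hK L hL
    rw [hc.card, hc'.card] at h4
    have := Nat.pow_right_injective (le_refl 2) h4
    simp only [Nat.add_right_cancel_iff] at this
    exact this
  subst hnn
  obtain ⟨k, hk⟩ := gen_of_odd h hK hx hodd hcX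
  obtain ⟨j, rfl⟩ := hcov' x' hx'
  have h1 : c ^ i = 1 := by rw [hk, ← zpow_mul, mul_comm, zpow_mul, hi, one_zpow]
  have h2 : c' ^ i = 1 := by
    rw [← orderOf_dvd_iff_zpow_eq_one, hc'.ord, ← hc.ord, orderOf_dvd_iff_zpow_eq_one]
    exact h1
  rw [← zpow_natCast, ← zpow_mul, mul_comm, zpow_mul, h2, one_zpow]

/-- `s = zz N` inverting `V_K`: the parity -/
theorem inv_y (h : CVW Om U) (hN : N ∈ Om) (hK : K ∈ Om) (hv : v ∈ U K) (hv4 : orderOf v = 4)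
    (hsv : zz N * v * (zz N)⁻¹ = v⁻¹) (hy : y ∈ K) (hyX : y ∉ XX U K) :
    (zz N * y * (zz N)⁻¹)⁻¹ * y ∈ XX U K ∧ ¬ W2 U K ((zz N * y * (zz N)⁻¹)⁻¹ * y) := by
  have hsK : zz N ∈ normalizer (K : Set G) :=
    h.norm_of_norm_U hK hv hv4 (by rw [hsv]; exact (U K).inv_mem hv)
  refine ⟨h.dif_mem hK hsK hy hyX, ?_⟩
  rw [← h.ev_iff hK hsK hy hyX, h.ev_zz hN hK hsK hv hv4, hsv]
  intro hh
  have h3 : v ^ 2 = 1 := by rw [pow_two]; nth_rw 1 [← hh]; exact inv_mul_cancel v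
  have h4 := orderOf_dvd_of_pow_eq_one h3
  rw [hv4] at h4
  exact absurd (Nat.le_of_dvd (by norm_num) h4) (by norm_num)

/-- **(X3)**: `s = zz N` inverting `V_K` inverts `X_K` -/
theorem inv_xx (h : CVW Om U) (hN : N ∈ Om) (hK : K ∈ Om) (hv : v ∈ U K) (hv4 : orderOf v = 4)
    (hsv : zz N * v * (zz N)⁻¹ = v⁻¹) (hx : x ∈ XX U K) : zz N * x * (zz N)⁻¹ = x⁻¹ := by
  obtain ⟨y, hy, hyX⟩ := h.exists_y hK
  obtain ⟨hd, hodd⟩ := inv_y h hN hK hv hv4 hsv hy hyX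
  obtain ⟨d, hdd⟩ : ∃ d, d = (zz N * y * (zz N)⁻¹)⁻¹ * y := ⟨_, rfl⟩
  rw [← hdd] at hd hodd
  have hzi := h.hyp.zz_inv hN
  have hzz := h.hyp.zz_mul hN
  have h1 : zz N * y * (zz N)⁻¹ = y * d⁻¹ := by rw [hdd]; group
  have h2 : y = (y * d⁻¹) * (zz N * d * (zz N)⁻¹)⁻¹ := by
    calc y = (zz N * zz N) * y * (zz N * zz N)⁻¹ := by rw [hzz]; group
      _ = zz N * (zz N * y * (zz N)⁻¹) * (zz N)⁻¹ := by group
      _ = zz N * (y * d⁻¹) * (zz N)⁻¹ := by rw [h1]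
      _ = (zz N * y * (zz N)⁻¹) * (zz N * d * (zz N)⁻¹)⁻¹ := by group
      _ = _ := by rw [h1]
  have h3 : zz N * d * (zz N)⁻¹ = d⁻¹ := by
    have h4 : d⁻¹ * (zz N * d * (zz N)⁻¹)⁻¹ = 1 := by
      have h5 : y * (d⁻¹ * (zz N * d * (zz N)⁻¹)⁻¹) = y := by rw [← mul_assoc, ← h2]
      exact mul_eq_left.mp h5
    exact (mul_inv_eq_one.1 h4).symm
  obtain ⟨i, rfl⟩ := gen_of_odd h hK hd hodd hx
  rw [← conj_zpow, h3, inv_zpow]

/-- **(X4)**: `z_N` centralises `V_K` implies `z_K` centralises `V_N` -/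
theorem zz_comm (h : CVW Om U) (hN : N ∈ Om) (hK : K ∈ Om) (hv : v ∈ U K) (hv4 : orderOf v = 4)
    (hw : w ∈ U N) (hw4 : orderOf w = 4) (hc : zz N * v = v * zz N) : zz K * w = w * zz K := by
  have h1 : v ∈ normalizer (N : Set G) :=
    h.norm_h3 hK hN (h.vch.le K hK hv) (by rw [hv4]) hc.symm
  have h2 := h.conj_or hN h1 hw hw4
  rw [← h.sq_eq hK hv hv4]
  have h3 : v * v * w * (v * v)⁻¹ = w := by
    calc v * v * w * (v * v)⁻¹ = v * (v * w * v⁻¹) * v⁻¹ := by group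
      _ = w := by
        rcases h2 with h2 | h2
        · rw [h2, h2]
        · rw [h2]
          have : v * w⁻¹ * v⁻¹ = (v * w * v⁻¹)⁻¹ := by group
          rw [this, h2, inv_inv]
  exact mul_inv_eq_iff_eq_mul.mp h3

/-- the cyclic parts of linked members intersect trivially -/
theorem zz_ne_of_linked (h : CVW Om U) (hA : IsA Om U A) (hK : K ∈ Om) (hvK : v ∈ U K) (hv : v ∈ RR Om U A)
    (hL : L ∈ Om) (hwL : w ∈ U L) (hw : w ∈ RR Om U A) (h0 : al Om U v w ≠ 0) (h2 : al Om U v w ≠ 2) :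
    zz K ≠ zz L := by
  intro hz
  by_cases hKL : K = L
  · subst hKL
    apply h2
    rcases h.eq_or_inv hK hvK hv.2.1 hwL hw.2.1 with h3 | h3
    · rw [h3, h.al_self hA hv]
    · rw [h3, h.al_inv hA hv hv.1, h.al_self hA hv]; decide
  · apply h0
    obtain ⟨y, hy, hyX⟩ := h.exists_y hK
    refine h.al_eq hA hK hvK hv.2.1 hv.1 hy hyX hw.1 ?_
    rw [h.comm_of_zz_eq hK hL hz hKL hy (h.vch.le L hL hwL), mul_inv_cancel_right, neg_zero, pw_zero, mul_one]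

/-- **(X5)**: an element of `C(A)` centralising `X_K` centralises `X_L`, `L` linked to `K` -/
theorem cent_xx (h : CVW Om U) (hA : IsA Om U A) (hK : K ∈ Om) (hvK : v ∈ U K) (hv : v ∈ RR Om U A)
    (hL : L ∈ Om) (hwL : w ∈ U L) (hw : w ∈ RR Om U A) (h0 : al Om U v w ≠ 0) (h2 : al Om U v w ≠ 2)
    (hgA : ∀ a ∈ A, g * a = a * g) (hgK : ∀ x ∈ XX U K, g * x = x * g) (hx' : x' ∈ XX U L) :
    g * x' = x' * g := by
  obtain ⟨c, hcX, hcodd⟩ := exists_odd h hL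
  obtain ⟨y, hy, hyX⟩ := h.exists_y hK
  have hyA := h.K_le_norm hA hK hvK hv.2.1 hv.1 hy
  have hgL := norm_of_cent h hL hwL hw hgA
  have hθX := y_xx h hA hK hvK hv hL hwL hw hy hcX
  have hθodd := y_xx_odd h hA hK hvK hv hL hwL hw h0 h2 hy hyX hcX
  obtain ⟨θ, hθ⟩ : ∃ θ, θ = y * c * y⁻¹ * c⁻¹ := ⟨_, rfl⟩
  rw [← hθ] at hθX hθodd
  have hyc : y * c * y⁻¹ = θ * c := by rw [hθ]; group
  have hθc : Commute θ c := xx_comm h hA hK hvK hv hL hwL hw hθX hcX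
  -- `g` normalises `M = L^y`
  have hgM : y⁻¹ * g * y ∈ normalizer (L : Set G) := by
    have h3 := cent_conj (inv_mem hyA) hgA
    rw [inv_inv] at h3
    exact norm_of_cent h hL hwL hw h3
  have h3 : (y⁻¹ * g * y) * c * (y⁻¹ * g * y)⁻¹ ∈ XX U L :=
    (mem_normalizer_iff.mp (le_normalizer_XX h.vch hL hgM) c).mp hcX
  obtain ⟨ν, hν⟩ := gen_of_odd h hL hcX hcodd h3
  have h4 : g * c * g⁻¹ ∈ XX U L := (mem_normalizer_iff.mp (le_normalizer_XX h.vch hL hgL) c).mp hcX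
  obtain ⟨μ, hμ⟩ := gen_of_odd h hL hcX hcodd h4
  have h5 : g * (θ * c) * g⁻¹ = (θ * c) ^ ν := by
    calc g * (θ * c) * g⁻¹ = g * (y * c * y⁻¹) * g⁻¹ := by rw [hyc]
      _ = y * ((y⁻¹ * g * y) * c * (y⁻¹ * g * y)⁻¹) * y⁻¹ := by group
      _ = (y * c * y⁻¹) ^ ν := by rw [hν, conj_zpow]
      _ = _ := by rw [hyc]
  have h6 : g * (θ * c) * g⁻¹ = θ * c ^ μ := by
    calc g * (θ * c) * g⁻¹ = (g * θ * g⁻¹) * (g * c * g⁻¹) := by group
      _ = _ := by rw [hμ, hgK θ hθX, mul_inv_cancel_right]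
  rw [h6, hθc.mul_zpow] at h5
  have h7 : θ ^ (ν - 1) = c ^ (μ - ν) := by
    have h8 : θ * c ^ μ * (c ^ ν)⁻¹ = θ ^ ν := by rw [h5]; group
    rw [zpow_sub_one, ← h8, zpow_sub]
    have h9 : θ * c ^ μ * (c ^ ν)⁻¹ = c ^ μ * (c ^ ν)⁻¹ * θ := by
      rw [mul_assoc, ← zpow_neg, ← zpow_add, (hθc.zpow_right _).eq]
    rw [h9, mul_inv_cancel_right]
  have h8 : θ ^ (ν - 1) = 1 := by
    by_contra hne
    exact zz_ne_of_linked h hA hK hvK hv hL hwL hw h0 h2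
      (zz_eq_of_mem h hK hL (K.zpow_mem (XX_le K hθX) _) (by rw [h7]; exact L.zpow_mem (XX_le L hcX) _) hne)
  have h9 : c ^ (μ - ν) = 1 := by rw [← h7, h8]
  have h10 : c ^ (ν - 1) = 1 := odd_order h hK hL hθX (fun hh => hcodd (hθodd.mp hh)) hcX h8
  have h11 : c ^ μ = c := by
    have : c ^ μ = c ^ (μ - ν) * c ^ (ν - 1) * c := by
      rw [← zpow_add, ← zpow_add_one]; congr 1; ring
    rw [this, h9, h10, one_mul, one_mul]
  have h12 : Commute g c := by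
    rw [h11] at hμ
    exact mul_inv_eq_iff_eq_mul.mp hμ
  obtain ⟨i, rfl⟩ := gen_of_odd h hL hcX hcodd hx'
  exact (h12.zpow_right i).eq

end Cfsg.Agent.Cit.Nil.CV.XLevel
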