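import Cfsg.Agent.Cit.Nil.CV.SecOne
import Cfsg.Agent.Cit.Nil.CV.XLevel

/-!
# (6b)(CV): blocks of `C(e)` without orthogonal members (`IndCV`)

`OneBlk Om U A e BB` : `BB` is a set of members in `C(e)`, invariant under the elements of `C(e)` which normalise a member of
`BB`, closed under members with a symmetric bond, without orthogonal members; for every `K ∈ BB` with `U K ≤ A` there is
`N ∈ BB` with `zz N ∈ N(A)`, `zz N ∉ A`.

* `lTwo_of` : no root of `A` in `BB` is linked to `v`: the output `LTwo` (`unlinked`: then no root over `e` is linked to `v`);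
* `lThree_of` : otherwise the output `LThree`.
-/

set_option autoImplicit false
set_option linter.style.haveILetI false
set_option linter.unusedSectionVars false

namespace Cfsg.Agent.Cit.CV

open Subgroup Cfsg Cit Tau

/-- a block of `C(e)` without orthogonal members -/
structure PreBlk {G : Type*} [Group G] (Om : Set (Subgroup G)) (e : G) (BB : Set (Subgroup G)) : Prop where
  sub : ∀ K ∈ BB, K ∈ Om ∧ K ≤ centralizer {e}
  cj : ∀ K ∈ BB, ∀ g, g * e = e * g → Cit.cj g K ∈ BB → ∀ N ∈ BB, Cit.cj g N ∈ BB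
  lk : ∀ K ∈ BB, ∀ L ∈ Om, L ≤ centralizer {e} → (∃ y ∈ L, ∃ x ∈ Cit.cj y K, Cit.cj x L = K) → L ∈ BB
  one : ∀ K ∈ BB, ∀ L ∈ BB, (∀ x ∈ K, ∀ y ∈ L, x * y = y * x) → K = L

/-- a block of `C(e)` without orthogonal members, with involutions of `N(A)` outside `A` -/
structure OneBlk {G : Type*} [Group G] (Om : Set (Subgroup G)) (U : Subgroup G → Subgroup G) (A : Subgroup G) (e : G)
    (BB : Set (Subgroup G)) : Prop where
  sub : ∀ K ∈ BB, K ∈ Om ∧ K ≤ centralizer {e}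
  cj : ∀ K ∈ BB, ∀ g, g * e = e * g → Cit.cj g K ∈ BB → ∀ N ∈ BB, Cit.cj g N ∈ BB
  lk : ∀ K ∈ BB, ∀ L ∈ Om, L ≤ centralizer {e} → (∃ y ∈ L, ∃ x ∈ Cit.cj y K, Cit.cj x L = K) → L ∈ BB
  one : ∀ K ∈ BB, ∀ L ∈ BB, (∀ x ∈ K, ∀ y ∈ L, x * y = y * x) → K = L
  ex : ∀ K ∈ BB, U K ≤ A → ∃ N ∈ BB, zz N ∈ normalizer (A : Set G) ∧ zz N ∉ A

theorem OneBlk.toPreBlk {G : Type*} [Group G] {Om : Set (Subgroup G)} {U : Subgroup G → Subgroup G} {A : Subgroup G}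
    {e : G} {BB : Set (Subgroup G)} (b : OneBlk Om U A e BB) : PreBlk Om e BB := ⟨b.sub, b.cj, b.lk, b.one⟩

variable {G : Type*} [Group G] {Om BB : Set (Subgroup G)} {U : Subgroup G → Subgroup G} {A B K L M N P T : Subgroup G}
  {a c d e f g s t u v w x y v₁ v₂ v₃ : G}

/-- the roots of `A` in `BB` -/
def RB (Om : Set (Subgroup G)) (U : Subgroup G → Subgroup G) (A : Subgroup G) (BB : Set (Subgroup G)) : Set G :=
  {v | v ∈ RR Om U A ∧ ∃ K ∈ BB, v ∈ U K}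

/-- the stabiliser of `BB` in `C(e)` -/
def YY (e : G) (BB : Set (Subgroup G)) : Subgroup G where
  carrier := {x | x * e = e * x ∧ ∀ N, Cit.cj x N ∈ BB ↔ N ∈ BB}
  one_mem' := ⟨by rw [one_mul, mul_one], fun N => by rw [cj_one]⟩
  mul_mem' := by
    rintro x y ⟨h1, h2⟩ ⟨h3, h4⟩
    refine ⟨?_, fun N => ?_⟩
    · rw [mul_assoc, h3, ← mul_assoc, h1, mul_assoc]
    · rw [cj_mul, h2, h4]
  inv_mem' := by
    rintro x ⟨h1, h2⟩
    refine ⟨?_, fun N => ?_⟩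
    · calc x⁻¹ * e = x⁻¹ * (e * x) * x⁻¹ := by group
        _ = e * x⁻¹ := by rw [← h1]; group
    · rw [← h2, cj_cj_inv]

namespace CVW

variable [Finite G]

theorem two_zpowers (hv4 : orderOf v = 4) : IsPGroup 2 (zpowers v) := by
  apply IsPGroup.of_card (n := 2)
  rw [Nat.card_zpowers, hv4]
  norm_num

/-- a root of `K` normalising `N`: both lie in a common weak closure -/
theorem exists_common (h : CVW Om U) (hK : K ∈ Om) (hN : N ∈ Om) (hv : v ∈ U K) (hv4 : orderOf v = 4) (hw : w ∈ U N)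
    (hw4 : orderOf w = 4) (hn : v ∈ normalizer (N : Set G)) : ∃ B, IsA Om U B ∧ v ∈ RR Om U B ∧ w ∈ RR Om U B := by
  haveI : Fact (Nat.Prime 2) := ⟨Nat.prime_two⟩
  have h1 : IsPGroup 2 (zpowers v ⊔ N : Subgroup G) :=
    (two_zpowers hv4).to_sup_of_normal_right' (h.two N hN) (zpowers_le.2 hn)
  obtain ⟨S, hS⟩ := h1.exists_le_sylow
  refine ⟨WW Om U S, ⟨S, rfl⟩, ?_, ?_⟩
  · rw [RR_WW]
    exact ⟨hS (mem_sup_left (mem_zpowers v)), hv4, K, hK, hv⟩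
  · rw [RR_WW]
    exact ⟨hS (mem_sup_right (h.vch.le N hN hw)), hw4, N, hN, hw⟩

theorem comm_of_norm (h : CVW Om U) (hK : K ∈ Om) (hN : N ∈ Om) (hv : v ∈ U K) (hv4 : orderOf v = 4) (hw : w ∈ U N)
    (hw4 : orderOf w = 4) (hn : v ∈ normalizer (N : Set G)) : v * w = w * v := by
  obtain ⟨B, hB, hvB, hwB⟩ := h.exists_common hK hN hv hv4 hw hw4 hn
  exact h.comm hB hvB.1 hwB.1

/-- **(B3)** `s = zz N` inverting `V_K`: `s x`, `x ∈ X_K`, is conjugate to `s` under `K` -/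
theorem exists_cj_mul (h : CVW Om U) (hK : K ∈ Om) (hN : N ∈ Om) (hv : v ∈ U K) (hv4 : orderOf v = 4)
    (hinv : zz N * v * (zz N)⁻¹ = v⁻¹) (hx : x ∈ XX U K) : ∃ k ∈ K, zz (Cit.cj k N) = zz N * x := by
  obtain ⟨y, hy, hyX⟩ := h.exists_y hK
  obtain ⟨hd, hodd⟩ := Cit.Nil.CV.XLevel.inv_y h hN hK hv hv4 hinv hy hyX
  obtain ⟨d, hdd⟩ : ∃ d, d = (zz N * y * (zz N)⁻¹)⁻¹ * y := ⟨_, rfl⟩
  rw [← hdd] at hd hodd
  obtain ⟨i, rfl⟩ := Cit.Nil.CV.XLevel.gen_of_odd h hK hd hodd hx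
  have hs2 := h.hyp.zz_mul hN
  have hsi := h.hyp.zz_inv hN
  have hdi : zz N * d * (zz N)⁻¹ = d⁻¹ := Cit.Nil.CV.XLevel.inv_xx h hN hK hv hv4 hinv hd
  have hdj : ∀ j : ℤ, zz N * d ^ j = d ^ (-j) * zz N := by
    intro j
    rw [← mul_inv_eq_iff_eq_mul, ← conj_zpow, hdi, inv_zpow, zpow_neg]
  have hds : y⁻¹ * zz N * y = zz N * d := by
    rw [hdd, hsi]
    calc y⁻¹ * zz N * y = (zz N * zz N) * y⁻¹ * zz N * y := by rw [hs2, one_mul]
      _ = zz N * (zz N * y * zz N)⁻¹ * y := by rw [mul_inv_rev, mul_inv_rev, hsi]; group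
      _ = _ := by group
  have hdK : ∀ j : ℤ, d ^ j ∈ K := fun j => K.zpow_mem (XX_le K hd) j
  rcases Int.even_or_odd' i with ⟨j, rfl | rfl⟩
  · refine ⟨d ^ (-j), hdK _, ?_⟩
    rw [h.hyp.zz_cj hN, ← hdj j, mul_assoc, ← zpow_neg, neg_neg, ← zpow_add, two_mul]
  · refine ⟨d ^ (-j) * y⁻¹, K.mul_mem (hdK _) (K.inv_mem hy), ?_⟩
    symm
    rw [h.hyp.zz_cj hN]
    calc zz N * d ^ (2 * j + 1) = (zz N * d ^ j) * d * d ^ j := by
          rw [mul_assoc, mul_assoc, ← zpow_one_add, ← zpow_add]; congr 2; ring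
      _ = d ^ (-j) * (zz N * d) * d ^ j := by rw [hdj]; group
      _ = d ^ (-j) * (y⁻¹ * zz N * y) * d ^ j := by rw [hds]
      _ = _ := by rw [zpow_neg]; group

/-- a member in `C(e)` -/
theorem le_cent_iff (h : CVW Om U) (hA : IsA Om U A) (hK : K ∈ Om) (hvK : v ∈ U K) (hv4 : orderOf v = 4) (hvA : v ∈ A)
    (he : e ∈ A) : K ≤ centralizer {e} ↔ al Om U v e = 0 := by
  constructor
  · intro hh
    obtain ⟨y, hy, hyX⟩ := h.exists_y hK
    refine h.al_eq hA hK hvK hv4 hvA hy hyX he ?_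
    rw [neg_zero, pw_zero, mul_one, mem_centralizer_singleton_iff.1 (hh hy), mul_inv_cancel_right]
  · intro hh y hy
    rw [mem_centralizer_singleton_iff]
    by_cases hyX : y ∈ XX U K
    · exact h.XX_comm hA hK hvK hv4 hvA hyX he
    · have h1 := h.al_spec hA hK hvK hv4 hvA hy hyX he
      rw [hh, neg_zero, pw_zero, mul_one] at h1
      exact mul_inv_eq_iff_eq_mul.1 h1

end CVW

namespace PreBlk

variable [Finite G] (b : PreBlk Om e BB) (h : CVW Om U)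
include b

theorem comm_e (hK : K ∈ BB) (hx : x ∈ K) : x * e = e * x :=
  mem_centralizer_singleton_iff.1 ((b.sub K hK).2 hx)

theorem cj_mem (hK : K ∈ BB) (hx : x ∈ K) (hN : N ∈ BB) : Cit.cj x N ∈ BB :=
  b.cj K hK x (b.comm_e hK hx) (by rwa [mem_normalizer_iff_cj.1 (le_normalizer hx)]) N hN

include h

theorem zz_inj (hK : K ∈ BB) (hL : L ∈ BB) (hz : zz K = zz L) : K = L := by
  by_contra hne
  exact hne (b.one K hK L hL fun x hx y hy => h.comm_of_zz_eq (b.sub K hK).1 (b.sub L hL).1 hz hne hx hy)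

/-- an element of the stabiliser commuting with `zz N` normalises `N` -/
theorem norm_zz (hN : N ∈ BB) (hg : Cit.cj g N ∈ BB) (hc : g * zz N = zz N * g) : g ∈ normalizer (N : Set G) := by
  rw [mem_normalizer_iff_cj]
  refine b.zz_inj h hg hN ?_
  rw [h.hyp.zz_cj (b.sub N hN).1, hc, mul_inv_cancel_right]

theorem norm_zz' (hK : K ∈ BB) (hx : x ∈ K) (hN : N ∈ BB) (hc : x * zz N = zz N * x) : x ∈ normalizer (N : Set G) :=
  b.norm_zz h hN (b.cj_mem hK hx hN) hc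

/-- different members with roots in a common weak closure are linked -/
theorem lk_of (hB : IsA Om U B) (hK : K ∈ BB) (hN : N ∈ BB) (hne : K ≠ N) (hv : v ∈ RR Om U B) (hvK : v ∈ U K)
    (hw : w ∈ RR Om U B) (hwN : w ∈ U N) : Lk Om U v w := by
  refine ⟨fun h0 => ?_, fun h2 => ?_⟩
  · have h1 := h.comm_of_al_zero hB (b.sub K hK).1 hvK hv.2.1 hv.1 (b.sub N hN).1 hwN hw.2.1 hw.1 h0
    exact hne (b.one K hK N hN h1.2)
  · rcases h.al_two hB hv hw h2 with rfl | rfl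
    · exact hne (h.eq_of_mem (b.sub K hK).1 (b.sub N hN).1 hvK hwN hv.2.1)
    · exact hne (h.eq_of_mem (b.sub K hK).1 (b.sub N hN).1 ((U K).inv_mem hvK) hwN hw.2.1)

/-- the third member -/
theorem third (hN : N ∈ BB) (hM : M ∈ BB) (hne : N ≠ M) (hw : w ∈ U N) (hw4 : orderOf w = 4)
    (hn : w ∈ normalizer (M : Set G)) : ∃ P ∈ BB, zz P = zz M * zz N := by
  have hNO := (b.sub N hN).1
  have hMO := (b.sub M hM).1
  obtain ⟨u, hu, hu4⟩ := h.exists_v hMO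
  obtain ⟨B, hB, hwB, huB⟩ := h.exists_common hNO hMO hw hw4 hu hu4 hn
  obtain ⟨y, hy, hyX⟩ := h.exists_y hNO
  refine ⟨Cit.cj y M, b.cj_mem hN hy hM, ?_⟩
  have h1 := h.rf_eq hB hNO hw hw4 hwB.1 hy hyX huB.1
  have h2 := h.sq_rf hB hwB huB (b.lk_of h hB hN hM hne hwB hw huB hu)
  rw [h.hyp.zz_cj hMO, ← h.sq_eq hMO hu hu4, ← h.sq_eq hNO hw hw4, ← h2, ← h1]
  group

/-- `A` acts on `BB` -/
theorem cj_A (hA : IsA Om U A) (he : e ∈ A) (hK : K ∈ BB) (hv : v ∈ U K) (hv4 : orderOf v = 4) (hvA : v ∈ A)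
    (ha : a ∈ A) (hN : N ∈ BB) : Cit.cj a N ∈ BB :=
  b.cj K hK a (h.comm hA ha he)
    (by rwa [mem_normalizer_iff_cj.1 (h.A_le_norm hA (b.sub K hK).1 hv hv4 hvA ha)]) N hN

theorem A_le_YY (hA : IsA Om U A) (he : e ∈ A) (hK : K ∈ BB) (hv : v ∈ U K) (hv4 : orderOf v = 4) (hvA : v ∈ A) :
    A ≤ YY e BB := by
  intro a ha
  refine ⟨h.comm hA ha he, fun N => ⟨fun hN => ?_, fun hN => b.cj_A h hA he hK hv hv4 hvA ha hN⟩⟩
  have h1 := b.cj_A h hA he hK hv hv4 hvA (A.inv_mem ha) hN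
  rwa [cj_inv_cj] at h1

omit h in
theorem mem_YY (hK : K ∈ BB) (hx : x ∈ K) : x ∈ YY e BB := by
  refine ⟨b.comm_e hK hx, fun N => ⟨fun hN => ?_, fun hN => b.cj_mem hK hx hN⟩⟩
  have h1 := b.cj_mem hK (K.inv_mem hx) hN
  rwa [cj_inv_cj] at h1

/-- `zz P ∈ A` implies `U P ≤ A` -/
theorem mem_A_of_zz (hA : IsA Om U A) (he : e ∈ A) (hK : K ∈ BB) (hv : v ∈ U K) (hv4 : orderOf v = 4) (hvA : v ∈ A)
    (hP : P ∈ BB) (hz : zz P ∈ A) (hu : u ∈ U P) (hu4 : orderOf u = 4) : u ∈ RB Om U A BB := by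
  have hPO := (b.sub P hP).1
  have hn : A ≤ normalizer (P : Set G) := fun a ha =>
    b.norm_zz h hP (b.cj_A h hA he hK hv hv4 hvA ha hP) (h.comm hA ha hz)
  have h1 : IsPGroup 2 (A ⊔ P : Subgroup G) := (CVW.isA_two hA).to_sup_of_normal_right' (h.two P hPO) hn
  have h2 := h.WW_eq hA h1 le_sup_left
  have h3 : u ∈ RR Om U (A ⊔ P) := ⟨mem_sup_right (h.vch.le P hPO hu), hu4, P, hPO, hu⟩
  rw [← RR_WW, h2] at h3
  exact ⟨h3, P, hP, hu⟩

/-- `zz N ∉ A` does not centralise all roots of `A` in `BB` -/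
theorem no_cent (hA : IsA Om U A) (he : e ∈ A) (hK : K ∈ BB) (hv : v ∈ U K) (hv4 : orderOf v = 4) (hvA : v ∈ A)
    (hN : N ∈ BB) (hzA : zz N ∉ A) : ∃ u ∈ RB Om U A BB, zz N * u ≠ u * zz N := by
  by_contra hcon
  push Not at hcon
  apply hzA
  have hNO := (b.sub N hN).1
  obtain ⟨w, hw, hw4⟩ := h.exists_v hNO
  have hcw : ∀ u ∈ RB Om U A BB, u * w = w * u := by
    rintro u ⟨hu, L, hL, huL⟩
    refine h.comm_of_norm (b.sub L hL).1 hNO huL hu.2.1 hw hw4 ?_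
    exact b.norm_zz' h hL (h.vch.le L (b.sub L hL).1 huL) hN (hcon u ⟨hu, L, hL, huL⟩).symm
  -- the 2-group
  obtain ⟨T, hT⟩ : ∃ T, T = A ⊓ centralizer {w} ⊔ zpowers w := ⟨_, rfl⟩
  have hT2 : IsPGroup 2 T := by
    rw [hT]
    refine ((CVW.isA_two hA).to_le inf_le_left).to_sup_of_normal_right' (CVW.two_zpowers hw4) ?_
    intro x hx
    refine (centralizer_le_normalizer _) ?_
    intro y hy
    obtain ⟨i, rfl⟩ := mem_zpowers_iff.1 hy
    exact (Commute.zpow_right (mem_centralizer_singleton_iff.1 hx.2 : Commute x w) i).symm.eq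
  have hwY : w ∈ YY e BB := b.mem_YY hN (h.vch.le N hNO hw)
  have hAY := b.A_le_YY h hA he hK hv hv4 hvA
  have hTY : T ≤ YY e BB := by
    rw [hT]
    exact sup_le (inf_le_left.trans hAY) (zpowers_le.2 hwY)
  obtain ⟨S, hS, hAS⟩ := exists_syl_ge (CVW.isA_two hA) hAY
  obtain ⟨S', hS', hTS⟩ := exists_syl_ge hT2 hTY
  obtain ⟨g, hg, hgS⟩ := hS.exists_conj hS'
  have hB := h.isA_cj hA g
  have hWS : WW Om U S' = Cit.cj g A := h.WW_eq hB hS'.2.1 (by rw [← hgS]; exact cj_mono g hAS)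
  have hsub : RB Om U A BB ⊆ RB Om U (Cit.cj g A) BB := by
    rintro u ⟨hu, L, hL, huL⟩
    refine ⟨?_, L, hL, huL⟩
    have h1 : u ∈ T := by
      rw [hT]
      exact mem_sup_left ⟨hu.1, mem_centralizer_singleton_iff.2 (hcw u ⟨hu, L, hL, huL⟩)⟩
    rw [← hWS, RR_WW]
    exact ⟨hTS h1, hu.2⟩
  have hwB : w ∈ RB Om U (Cit.cj g A) BB := by
    refine ⟨?_, N, hN, hw⟩
    rw [← hWS, RR_WW]
    exact ⟨hTS (by rw [hT]; exact mem_sup_right (mem_zpowers w)), hw4, N, hNO, hw⟩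
  have himg : RB Om U (Cit.cj g A) BB = (fun x => g * x * g⁻¹) '' RB Om U A BB := by
    ext x
    constructor
    · rintro ⟨hx, L, hL, hxL⟩
      refine ⟨g⁻¹ * x * g, ⟨?_, Cit.cj g⁻¹ L, ?_, ?_⟩, by group⟩
      · rw [h.RR_cj g]
        have h1 : g * (g⁻¹ * x * g) * g⁻¹ = x := by group
        rwa [h1]
      · rw [← hg.2, cj_cj_inv]; exact hL
      · have h1 := h.vch.conj_mem (b.sub L hL).1 hxL g⁻¹
        rwa [inv_inv] at h1
    · rintro ⟨u, ⟨hu, L, hL, huL⟩, rfl⟩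
      exact ⟨(h.RR_cj g).1 hu, Cit.cj g L, (hg.2 L).2 hL, h.vch.conj_mem (b.sub L hL).1 huL g⟩
  have heq : RB Om U A BB = RB Om U (Cit.cj g A) BB := by
    refine Set.eq_of_subset_of_ncard_le hsub ?_ (Set.toFinite _)
    rw [himg]
    exact Set.ncard_image_le (Set.toFinite _)
  rw [← heq] at hwB
  rw [← h.sq_eq hNO hw hw4]
  exact A.mul_mem hwB.1.1 hwB.1.1

/-- (eps), the commuting case -/
theorem alpha (hN : N ∈ BB) (hM : M ∈ BB) (hw : w ∈ U N) (hw4 : orderOf w = 4) (hg1 : g ≠ 1) (hgw : g * w = w * g)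
    (hz : zz M = g * zz N) : ∃ P ∈ BB, zz P = g := by
  have hNO := (b.sub N hN).1
  have hws : w * zz N = zz N * w := h.hyp.comm_zz hNO (le_normalizer (h.vch.le N hNO hw))
  have hne : N ≠ M := by
    intro hh
    rw [← hh] at hz
    exact hg1 (mul_eq_right.1 hz.symm)
  obtain ⟨P, hP, hzP⟩ := b.third h hN hM hne hw hw4 (b.norm_zz' h hN (h.vch.le N hNO hw) hM (by
    rw [hz, ← mul_assoc, ← hgw, mul_assoc, hws, mul_assoc]))
  refine ⟨P, hP, ?_⟩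
  rw [hzP, hz, mul_assoc, h.hyp.zz_mul hNO, mul_one]

/-- two roots of `A` in `BB` which are not linked -/
theorem rb_class (hA : IsA Om U A) (hv : v ∈ RB Om U A BB) (hw : w ∈ RB Om U A BB) (hl : ¬ Lk Om U v w) :
    w = v ∨ w = v⁻¹ := by
  obtain ⟨hv, K, hK, hvK⟩ := hv
  obtain ⟨hw, L, hL, hwL⟩ := hw
  by_cases h0 : al Om U v w = 0
  · have h1 := h.comm_of_al_zero hA (b.sub K hK).1 hvK hv.2.1 hv.1 (b.sub L hL).1 hwL hw.2.1 hw.1 h0
    exact (h1.1 (b.one K hK L hL h1.2)).elim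
  by_cases h2 : al Om U v w = 2
  · exact h.al_two hA hv hw h2
  exact (hl ⟨h0, h2⟩).elim

omit b in
theorem RB_conj (hs : ∀ K ∈ BB, K ∈ Om) (hg : g ∈ normalizer (A : Set G)) (hgY : ∀ K ∈ BB, Cit.cj g K ∈ BB)
    (hv : v ∈ RB Om U A BB) : g * v * g⁻¹ ∈ RB Om U A BB := by
  obtain ⟨hv, K, hK, hvK⟩ := hv
  exact ⟨h.RR_conj hg hv, Cit.cj g K, hgY K hK, h.vch.conj_mem (hs K hK) hvK g⟩

omit b h in
theorem ne_inv_of_four (hv4 : orderOf v = 4) : v ≠ v⁻¹ := by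
  intro hh
  have h3 : v ^ 2 = 1 := by rw [pow_two]; nth_rw 2 [hh]; exact mul_inv_cancel v
  have h4 := orderOf_dvd_of_pow_eq_one h3
  rw [hv4] at h4
  exact absurd (Nat.le_of_dvd (by norm_num) h4) (by norm_num)

/-- a root over `e` with a symmetric bond to `BB` lies in `BB` -/
theorem lk' (hA : IsA Om U A) (hK : K ∈ BB) (hL : L ∈ Om) (hLe : L ≤ centralizer {e}) (hv : v ∈ RR Om U A)
    (hvK : v ∈ U K) (hw : w ∈ RR Om U A) (hwL : w ∈ U L) (hl : Lk Om U v w) (hs : al Om U w v = al Om U v w) :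
    L ∈ BB := by
  have hKO := (b.sub K hK).1
  obtain ⟨y, hy, hyX⟩ := h.exists_y hL
  obtain ⟨v', hv'⟩ : ∃ v', v' = y * v * y⁻¹ := ⟨_, rfl⟩
  have h1 : v' = rf Om U w v := by rw [hv', h.rf_eq hA hL hwL hw.2.1 hw.1 hy hyX hv.1]
  have hv'R : v' ∈ RR Om U A := by rw [h1]; exact h.rf_mem hA hw hv
  have hv'M : v' ∈ U (Cit.cj y K) := by rw [hv']; exact h.vch.conj_mem hKO hvK y
  have hM := h.hyp.conj K hKO y
  obtain ⟨x, hx, hxX⟩ := h.exists_y hM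
  have h2 : x * w * x⁻¹ = rf Om U v' w := h.rf_eq hA hM hv'M hv'R.2.1 hv'R.1 hx hxX hw.1
  obtain ⟨i, hi⟩ : ∃ i, i = al Om U v w := ⟨_, rfl⟩
  have hii : i * i = 1 := by
    rw [lk_iff] at hl
    rw [hi]
    rcases hl with hl | hl <;> rw [hl] <;> decide
  have h3 : al Om U v' w = -i := by
    rw [h1, h.al_rf' hA hw hv hw.1, h.al_self hA hw, ← hi]; ring
  have hv4 := hv.2.1
  have hw4 := hw.2.1
  have hcm : Commute v (pw w (-i)) := h.comm hA hv.1 (pw_mem hw.1 _)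
  have h4 : pw v' i = pw v i * pw w (-1) := by
    rw [h1, rf, hs, ← hi, pw, hcm.mul_pow, ← pw, ← pw]
    congr 1
    have h5 : pw (pw w (-i)) i = pw w (-i * i) := by
      rw [pw, pw, ← pow_mul, pw, pow_inj_mod, hw4, ZMod.val_mul]
      exact (Nat.mod_mod _ _).symm
    rw [h5, neg_mul, hii]
  have h6 : x * w * x⁻¹ = pw v i := by
    rw [h2, rf, h3, neg_neg, h4, pw_neg_one hw4, h.comm hA (pw_mem hv.1 _) (A.inv_mem hw.1), mul_inv_cancel_left]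
  refine b.lk K hK L hL hLe ⟨y, hy, x, hx, ?_⟩
  refine h.eq_of_mem (h.hyp.conj L hL x) hKO (v := pw v i) ?_ (pw_mem hvK i) ?_
  · rw [← h6]; exact h.vch.conj_mem hL hwL x
  · rw [← h6]; exact orderOf_conj_four hw4 x

/-- an asymmetric bond `v`, `w`: the reflected root lies in `BB` and is linked to `v` -/
theorem g2_mem (hA : IsA Om U A) (he : e ∈ A) (hv : v ∈ RB Om U A BB) (hw : w ∈ RR Om U A) (hwe : al Om U w e = 0)
    (hl : Lk Om U v w) (hg : al Om U w v = -al Om U v w) : rf Om U w v ∈ RB Om U A BB ∧ al Om U v (rf Om U w v) = -1 := by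
  obtain ⟨hv, K, hK, hvK⟩ := hv
  have hKO := (b.sub K hK).1
  obtain ⟨L, hL, hwL, y, hy, hyX, hyA, hyy, hrf⟩ := h.exists_root hA hw
  have hve := (h.le_cent_iff hA hKO hvK hv.2.1 hv.1 he).1 (b.sub K hK).2
  have hv'R : rf Om U w v ∈ RR Om U A := h.rf_mem hA hw hv
  have hv'M : rf Om U w v ∈ U (Cit.cj y K) := by rw [← hrf v hv.1]; exact h.vch.conj_mem hKO hvK y
  have h1 : al Om U v (rf Om U w v) = -1 := by
    rw [h.al_rf_left hA hw hv hv.1, h.al_self hA hv, hg]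
    rw [lk_iff] at hl
    rcases hl with hl | hl <;> rw [hl] <;> decide
  have h2 : al Om U (rf Om U w v) v = -1 := by
    rw [h.al_rf' hA hw hv hv.1, h.al_self hA hv, hg]
    rw [lk_iff] at hl
    rcases hl with hl | hl <;> rw [hl] <;> decide
  have h3 : al Om U (rf Om U w v) e = 0 := by
    rw [h.al_rf' hA hw hv he, hve, hwe, zero_mul, sub_zero]
  have h4 := (h.le_cent_iff hA (h.hyp.conj K hKO y) hv'M hv'R.2.1 hv'R.1 he).2 h3
  exact ⟨⟨hv'R, _, b.lk' h hA hK (h.hyp.conj K hKO y) h4 hv hvK hv'R hv'M ((lk_iff _ _).2 (Or.inr h1))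
    (by rw [h1, h2]), hv'M⟩, h1⟩

/-- no asymmetric bonds in `BB` -/
theorem symm_bond (hA : IsA Om U A) (hv : v ∈ RB Om U A BB) (hw : w ∈ RB Om U A BB) (hl : Lk Om U v w) :
    al Om U w v = al Om U v w := by
  rcases h.al_odd_symm hA hv.1 hw.1 hl.1 hl.2 with h1 | hg
  · exact h1
  exfalso
  obtain ⟨m, hm⟩ : ∃ m, m = rf Om U v w := ⟨_, rfl⟩
  obtain ⟨t, ht⟩ : ∃ t, t = rf Om U w m := ⟨_, rfl⟩
  have hmB : m ∈ RB Om U A BB := by
    obtain ⟨K, hK, hvK⟩ := hv.2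
    obtain ⟨y, hy, hyX⟩ := h.exists_y (b.sub K hK).1
    have h1 := h.rf_eq hA (b.sub K hK).1 hvK hv.1.2.1 hv.1.1 hy hyX hw.1.1
    rw [hm, ← h1]
    exact PreBlk.RB_conj h (fun K hK => (b.sub K hK).1)
      (h.K_le_norm hA (b.sub K hK).1 hvK hv.1.2.1 hv.1.1 hy) (fun L hL => b.cj_mem hK hy hL) hw
  have htB : t ∈ RB Om U A BB := by
    obtain ⟨K, hK, hwK⟩ := hw.2
    obtain ⟨y, hy, hyX⟩ := h.exists_y (b.sub K hK).1
    have h1 := h.rf_eq hA (b.sub K hK).1 hwK hw.1.2.1 hw.1.1 hy hyX hmB.1.1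
    rw [ht, ← h1]
    exact PreBlk.RB_conj h (fun K hK => (b.sub K hK).1)
      (h.K_le_norm hA (b.sub K hK).1 hwK hw.1.2.1 hw.1.1 hy) (fun L hL => b.cj_mem hK hy hL) hmB
  have hv := hv
  obtain ⟨⟨hvR, K, hK, hvK⟩, hwR⟩ := And.intro hv hw.1
  have hv4 := hvR.2.1
  -- values
  have h1 : al Om U w m = -1 := by
    rw [hm, h.al_rf_left hA hvR hwR hwR.1, h.al_self hA hwR, hg]
    rw [lk_iff] at hl
    rcases hl with hl | hl <;> rw [hl] <;> decide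
  have h2 : t = w * w * pw v (-al Om U v w) := by
    rw [ht, rf, h1, neg_neg, pw_one, hm, rf]
    calc w * pw v (-al Om U v w) * w = w * (pw v (-al Om U v w) * w) := by group
      _ = w * w * pw v (-al Om U v w) := by rw [h.comm hA (pw_mem hvR.1 _) hwR.1]; group
  have hodd : -al Om U v w = 1 ∨ -al Om U v w = -1 := by
    rw [lk_iff] at hl
    rcases hl with hl | hl <;> rw [hl] <;> decide
  have hww4 : w * w * (w * w) = 1 := by
    have h3 : w ^ 4 = 1 := by rw [← hwR.2.1]; exact pow_orderOf_eq_one w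
    have h4 : w * w * (w * w) = w ^ 4 := by simp [pow_succ, mul_assoc]
    rw [h4, h3]
  have hsqt : t * t = v * v := by
    rw [h2]
    have h3 := h.comm hA (pw_mem hvR.1 (-al Om U v w)) (A.mul_mem hwR.1 hwR.1)
    calc w * w * pw v (-al Om U v w) * (w * w * pw v (-al Om U v w)) =
          w * w * (pw v (-al Om U v w) * (w * w)) * pw v (-al Om U v w) := by group
      _ = (w * w * (w * w)) * (pw v (-al Om U v w) * pw v (-al Om U v w)) := by rw [h3]; group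
      _ = v * v := by rw [hww4, one_mul, CVW.pw_odd_sq hvR hodd]
  have hsq := h.sq_ne hA hvR hwR hl
  have hne : ∀ i : ZMod 4, (i = 1 ∨ i = -1) → t ≠ pw v i := by
    intro i hi hh
    rw [h2] at hh
    have h3 : w * w = pw v (i - -al Om U v w) := by
      rw [sub_eq_add_neg, pw_add hv4, pw_neg hv4 (-al Om U v w)]
      exact eq_mul_inv_of_mul_eq hh
    have h4 : ∀ i j : ZMod 4, (i = 1 ∨ i = -1) → (j = 1 ∨ j = -1) → i - j = 0 ∨ i - j = 2 := by decide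
    rcases h4 i _ hi hodd with h5 | h5
    · rw [h5, pw_zero] at h3
      exact CVW.sq_ne_one hwR h3
    · rw [h5, pw_two] at h3
      exact hsq h3.symm
  obtain ⟨htR, T, hT, htT⟩ := htB
  have hTK : T = K := b.zz_inj h hT hK (by
    rw [← h.sq_eq (b.sub T hT).1 htT htR.2.1, hsqt, h.sq_eq (b.sub K hK).1 hvK hv4])
  rw [hTK] at htT
  rcases h.eq_or_inv (b.sub K hK).1 hvK hv4 htT htR.2.1 with h3 | h3
  · exact hne 1 (Or.inl rfl) (by rw [h3, pw_one])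
  · exact hne (-1) (Or.inr rfl) (by rw [h3, pw_neg_one hv4])

/-- if no root of `A` in `BB` is linked to `v`, no root of `A` over `e` is linked to `v` -/
theorem unlinked (hA : IsA Om U A) (he : e ∈ A) (hv : v ∈ RB Om U A BB) (hall : ∀ u ∈ RB Om U A BB, ¬ Lk Om U v u)
    (hw : w ∈ RR Om U A) (hwe : al Om U w e = 0) : ¬ Lk Om U v w := by
  intro hl
  rcases h.al_odd_symm hA hv.1 hw hl.1 hl.2 with h1 | hg
  · obtain ⟨K, hK, hvK⟩ := hv.2
    obtain ⟨L, hL, hwL, -⟩ := h.exists_root hA hw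
    have hLe := (h.le_cent_iff hA hL hwL hw.2.1 hw.1 he).2 hwe
    exact hall w ⟨hw, L, b.lk' h hA hK hL hLe hv.1 hvK hw hwL hl h1, hwL⟩ hl
  · obtain ⟨h1, h2⟩ := b.g2_mem h hA he hv hw hwe hl hg
    exact hall _ h1 ((lk_iff _ _).2 (Or.inr h2))

/-! ### No linked roots -/

section AOne

variable (hA : IsA Om U A) (he : e ∈ A) (hK : K ∈ BB) (hv : v ∈ U K) (hv4 : orderOf v = 4) (hvA : v ∈ A)
  (hall : ∀ u ∈ RB Om U A BB, ¬ Lk Om U v u)
include hA he hK hv hv4 hvA hall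

omit he in
theorem a1_eq (hu : u ∈ RB Om U A BB) : u = v ∨ u = v⁻¹ :=
  b.rb_class h hA ⟨⟨hvA, hv4, K, (b.sub K hK).1, hv⟩, K, hK, hv⟩ hu (hall u hu)

theorem a1_zz (hP : P ∈ BB) (hz : zz P ∈ A) : P = K := by
  obtain ⟨u, hu, hu4⟩ := h.exists_v (b.sub P hP).1
  have h1 := b.mem_A_of_zz h hA he hK hv hv4 hvA hP hz hu hu4
  rcases b.a1_eq h hA hK hv hv4 hvA hall h1 with rfl | rfl
  · exact h.eq_of_mem (b.sub P hP).1 (b.sub K hK).1 hu hv hv4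
  · exact h.eq_of_mem (b.sub P hP).1 (b.sub K hK).1 hu ((U K).inv_mem hv) hu4

/-- (eps) -/
theorem a1_invol (hN : N ∈ BB) (hsv : zz N * v * (zz N)⁻¹ = v⁻¹) (hgA : g ∈ A) (hg1 : g ≠ 1)
    (hgs : g * zz N = zz N * g) (hM : M ∈ BB) (hz : zz M = g * zz N) : g = zz K := by
  have hKO := (b.sub K hK).1
  have hNO := (b.sub N hN).1
  have hMO := (b.sub M hM).1
  have hsi := h.hyp.zz_inv hNO
  obtain ⟨w, hw, hw4⟩ := h.exists_v hNO
  have hwN := h.vch.le N hNO hw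
  have hgN : g ∈ normalizer (N : Set G) := by
    have h1 : zz M ∈ normalizer (N : Set G) :=
      b.norm_zz' h hM (h.hyp.zz_mem hMO) hN (by rw [hz, ← mul_assoc, ← hgs])
    have h2 : g = zz M * (zz N)⁻¹ := by rw [hz, mul_inv_cancel_right]
    rw [h2]
    exact mul_mem h1 (inv_mem (le_normalizer (h.hyp.zz_mem hNO)))
  rcases h.conj_or hNO hgN hw hw4 with hgw | hgw
  · obtain ⟨P, hP, hzP⟩ := b.alpha h hN hM hw hw4 hg1 (mul_inv_eq_iff_eq_mul.1 hgw) hz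
    rw [← hzP, b.a1_zz h hA he hK hv hv4 hvA hall hP (by rw [hzP]; exact hgA)]
  · have hKv := h.sq_eq hKO hv hv4
    have hKs : zz N * zz K * (zz N)⁻¹ = zz K := by
      calc zz N * zz K * (zz N)⁻¹ = (zz N * v * (zz N)⁻¹) * (zz N * v * (zz N)⁻¹) := by rw [← hKv]; group
        _ = (v * v)⁻¹ := by rw [hsv, mul_inv_rev]
        _ = zz K := by rw [hKv, h.hyp.zz_inv hKO]
    have hKs' : zz K * zz N = zz N * zz K := (mul_inv_eq_iff_eq_mul.1 hKs).symm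
    have hKA : zz K ∈ A := h.zz_mem_A hA hKO hv hv4 hvA
    have hKw : zz K * w * (zz K)⁻¹ = w⁻¹ := by
      refine (h.conj_or hNO (b.norm_zz' h hK (h.hyp.zz_mem hKO) hN hKs') hw hw4).resolve_left fun hh => ?_
      have h1 : w ∈ normalizer (K : Set G) := b.norm_zz' h hN hwN hK (mul_inv_eq_iff_eq_mul.1 hh).symm
      have h2 := h.comm_of_norm hNO hKO hw hw4 hv hv4 h1
      have h3 : zz N * v = v * zz N := by
        rw [← h.sq_eq hNO hw hw4, mul_assoc, h2, ← mul_assoc, h2, mul_assoc]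
      rw [h3, mul_inv_cancel_right] at hsv
      exact ne_inv_of_four hv4 hsv
    have hKg : zz K * g = g * zz K := h.comm hA hKA hgA
    by_contra hne
    have hg' : g * zz K ≠ 1 := fun hh => hne (by rw [eq_inv_of_mul_eq_one_left hh, h.hyp.zz_inv hKO])
    have hgw' : g * zz K * w = w * (g * zz K) := by
      have h1 : zz K * w = w⁻¹ * zz K := mul_inv_eq_iff_eq_mul.1 hKw
      have h2 : g * w⁻¹ = w * g := by
        have h3 : g * w⁻¹ * g⁻¹ = w := by rw [← conj_inv, hgw, inv_inv]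
        exact mul_inv_eq_iff_eq_mul.1 h3
      rw [mul_assoc, h1, ← mul_assoc, h2, mul_assoc]
    have hz' : zz (Cit.cj v M) = g * zz K * zz N := by
      have h1 : zz N * v⁻¹ = v * zz N := by
        have h3 : zz N * v⁻¹ * (zz N)⁻¹ = v := by rw [← conj_inv, hsv, inv_inv]
        exact mul_inv_eq_iff_eq_mul.1 h3
      rw [h.hyp.zz_cj hMO, hz, ← hKv]
      calc v * (g * zz N) * v⁻¹ = (v * g) * (zz N * v⁻¹) := by group
        _ = g * (v * v) * zz N := by rw [h1, h.comm hA hvA hgA]; group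
    obtain ⟨P, hP, hzP⟩ := b.alpha h hN (b.cj_mem hK (h.vch.le K hKO hv) hM) hw hw4 hg' hgw' hz'
    have h3 := b.a1_zz h hA he hK hv hv4 hvA hall hP (by rw [hzP]; exact A.mul_mem hgA hKA)
    rw [h3] at hzP
    exact hg1 (right_eq_mul.1 hzP)

/-- `f` inverted by `s`, `f s = z_M` -/
theorem a1_f (hN : N ∈ BB) (hsv : zz N * v * (zz N)⁻¹ = v⁻¹) (hfA : f ∈ A) (hf0 : al Om U v f = 0)
    (hfs : zz N * f * (zz N)⁻¹ = f⁻¹) (hM : M ∈ BB) (hz : zz M = f * zz N) : f ∈ zpowers v := by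
  have hKO := (b.sub K hK).1
  have hNO := (b.sub N hN).1
  have hMO := (b.sub M hM).1
  have hvR : v ∈ RR Om U A := ⟨hvA, hv4, K, hKO, hv⟩
  have hKv := h.sq_eq hKO hv hv4
  have hf4 := h.pow_four hA hfA
  have hcomm : ∀ {x}, zz N * x * (zz N)⁻¹ = x⁻¹ → x * x = 1 → x * zz N = zz N * x := by
    intro x h1 h2
    rw [inv_eq_of_mul_eq_one_left h2] at h1
    exact (mul_inv_eq_iff_eq_mul.1 h1).symm
  by_cases hf2 : f * f = 1
  · by_cases hf1 : f = 1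
    · rw [hf1]; exact one_mem _
    · rw [b.a1_invol h hA he hK hv hv4 hvA hall hN hsv hfA hf1 (hcomm hfs hf2) hM hz, ← hKv]
      exact mul_mem (mem_zpowers v) (mem_zpowers v)
  · exfalso
    have hff : f * f * (f * f) = 1 := by
      have h4 : f * f * (f * f) = f ^ 4 := by simp [pow_succ, mul_assoc]
      rw [h4, hf4]
    have hs1 : zz N * (f * f) * (zz N)⁻¹ = (f * f)⁻¹ := by
      calc zz N * (f * f) * (zz N)⁻¹ = (zz N * f * (zz N)⁻¹) * (zz N * f * (zz N)⁻¹) := by group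
        _ = (f * f)⁻¹ := by rw [hfs, mul_inv_rev]
    have hsf : zz N * f⁻¹ = f * zz N := by
      have h3 : zz N * f⁻¹ * (zz N)⁻¹ = f := by rw [← conj_inv, hfs, inv_inv]
      exact mul_inv_eq_iff_eq_mul.1 h3
    have hz2 : zz (Cit.cj f N) = f * f * zz N := by
      rw [h.hyp.zz_cj hNO, mul_assoc, hsf, mul_assoc]
    have h1 := b.a1_invol h hA he hK hv hv4 hvA hall hN hsv (A.mul_mem hfA hfA) hf2 (hcomm hs1 hff)
      (b.cj_A h hA he hK hv hv4 hvA hfA hN) hz2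
    -- `f v`
    have hfv := h.comm hA hfA hvA
    have hb1 : f * v ≠ 1 := by
      intro hh
      rw [eq_inv_of_mul_eq_one_left hh, h.al_inv hA hvR hvA, h.al_self hA hvR] at hf0
      exact absurd hf0 (by decide)
    have hb2 : f * v * (f * v) = 1 := by
      calc f * v * (f * v) = f * (v * f) * v := by group
        _ = (f * f) * (v * v) := by rw [← hfv]; group
        _ = 1 := by rw [h1, hKv, h.hyp.zz_mul hKO]
    have hbs : zz N * (f * v) * (zz N)⁻¹ = (f * v)⁻¹ := by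
      calc zz N * (f * v) * (zz N)⁻¹ = (zz N * f * (zz N)⁻¹) * (zz N * v * (zz N)⁻¹) := by group
        _ = (v * f)⁻¹ := by rw [hfs, hsv, mul_inv_rev]
        _ = (f * v)⁻¹ := by rw [hfv]
    have hMv : zz M * v * (zz M)⁻¹ = v⁻¹ := by
      calc zz M * v * (zz M)⁻¹ = f * (zz N * v * (zz N)⁻¹) * f⁻¹ := by rw [hz]; group
        _ = v⁻¹ := by rw [hsv, h.comm hA hfA (A.inv_mem hvA), mul_inv_cancel_right]
    obtain ⟨k, hk, hzk⟩ := h.exists_cj_mul hKO hMO hv hv4 hMv ((XX U K).inv_mem (h.U_le_XX hKO hv))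
    have hzb : zz (Cit.cj k M) = f * v * zz N := by
      have h3 : zz N * v⁻¹ = v * zz N := by
        have h4 : zz N * v⁻¹ * (zz N)⁻¹ = v := by rw [← conj_inv, hsv, inv_inv]
        exact mul_inv_eq_iff_eq_mul.1 h4
      rw [hzk, hz, mul_assoc, h3, mul_assoc]
    have h2 := b.a1_invol h hA he hK hv hv4 hvA hall hN hsv (A.mul_mem hfA hvA) hb1 (hcomm hbs hb2)
      (b.cj_mem hK hk hM) hzb
    rw [← hKv] at h2
    rw [mul_right_cancel h2, h.al_self hA hvR] at hf0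
    exact absurd hf0 (by decide)

end AOne

end PreBlk

namespace OneBlk

variable [Finite G] (b : OneBlk Om U A e BB) (h : CVW Om U)
include b h

section AOne

variable (hA : IsA Om U A) (he : e ∈ A) (hK : K ∈ BB) (hv : v ∈ U K) (hv4 : orderOf v = 4) (hvA : v ∈ A)
  (hall : ∀ u ∈ RB Om U A BB, ¬ Lk Om U v u)
include hA he hK hv hv4 hvA hall

/-- **no linked roots**: the clause `ex` of `LTwo` -/
theorem lTwo_ex : ∃ N ∈ Om, zz N ∈ normalizer (A : Set G) ∧ zz N * e = e * zz N ∧ zz N * v * (zz N)⁻¹ = v⁻¹ ∧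
    ∀ a ∈ A, a⁻¹ * (zz N * a * (zz N)⁻¹) ∈ zpowers v := by
  have hKO := (b.sub K hK).1
  have hvR : v ∈ RR Om U A := ⟨hvA, hv4, K, hKO, hv⟩
  have hvB : v ∈ RB Om U A BB := ⟨hvR, K, hK, hv⟩
  obtain ⟨N, hN, hsA, hsnA⟩ := b.ex K hK (h.U_le_A hA hKO hv hv4 hvA)
  have hNO := (b.sub N hN).1
  have hss := h.hyp.zz_mul hNO
  have hsv : zz N * v * (zz N)⁻¹ = v⁻¹ := by
    have h1 := PreBlk.RB_conj h (fun K hK => (b.sub K hK).1) hsA
      (fun L hL => b.toPreBlk.cj_mem hN (h.hyp.zz_mem hNO) hL) hvB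
    refine (b.toPreBlk.a1_eq h hA hK hv hv4 hvA hall h1).resolve_left fun hh => ?_
    obtain ⟨u, hu, hus⟩ := b.toPreBlk.no_cent h hA he hK hv hv4 hvA hN hsnA
    have h2 : zz N * v = v * zz N := mul_inv_eq_iff_eq_mul.1 hh
    rcases b.toPreBlk.a1_eq h hA hK hv hv4 hvA hall hu with rfl | rfl
    · exact hus h2
    · exact hus ((show Commute (zz N) v from h2).inv_right).eq
  refine ⟨N, hNO, hsA, b.toPreBlk.comm_e hN (h.hyp.zz_mem hNO), hsv, fun a ha => ?_⟩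
  obtain ⟨a', ha'⟩ : ∃ a', a' = zz N * a * (zz N)⁻¹ := ⟨_, rfl⟩
  have ha'A : a' ∈ A := by rw [ha']; exact (mem_normalizer_iff.mp hsA a).mp ha
  rw [← ha']
  obtain ⟨c, hc⟩ : ∃ c, c = a⁻¹ * a' := ⟨_, rfl⟩
  have hcA : c ∈ A := by rw [hc]; exact A.mul_mem (A.inv_mem ha) ha'A
  rw [← hc]
  have hb0A := pw_mem hvA (-al Om U v a)
  obtain ⟨b0, hb0⟩ : ∃ b0, b0 = pw v (-al Om U v a) := ⟨_, rfl⟩
  rw [← hb0] at hb0A
  have hcs : zz (Cit.cj a⁻¹ N) = c * zz N := by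
    rw [h.hyp.zz_cj hNO, hc, ha', inv_inv]
    group
  have hsb : zz N * b0 * (zz N)⁻¹ = b0⁻¹ := by
    rw [hb0, conj_pw, hsv, pw_inv hv4, pw_neg hv4]
  have hsc : zz N * c * (zz N)⁻¹ = c⁻¹ := by
    calc zz N * c * (zz N)⁻¹ = (zz N * a * (zz N)⁻¹)⁻¹ * ((zz N * zz N) * a * (zz N * zz N)⁻¹) := by
          rw [hc, ha']; group
      _ = c⁻¹ := by rw [← ha', hss, hc]; group
  have hcb := h.comm hA hcA hb0A
  have hfs : zz N * (c * b0⁻¹) * (zz N)⁻¹ = (c * b0⁻¹)⁻¹ := by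
    calc zz N * (c * b0⁻¹) * (zz N)⁻¹ = (zz N * c * (zz N)⁻¹) * (zz N * b0 * (zz N)⁻¹)⁻¹ := by group
      _ = c⁻¹ * b0 := by rw [hsc, hsb, inv_inv]
      _ = (b0⁻¹ * c)⁻¹ := by group
      _ = (c * b0⁻¹)⁻¹ := by rw [h.comm hA (A.inv_mem hb0A) hcA]
  have hf0 : al Om U v (c * b0⁻¹) = 0 := by
    rw [h.al_mul hA hvR hcA (A.inv_mem hb0A), h.al_inv hA hvR hb0A, hb0, h.al_pw hA hvR hvA, h.al_self hA hvR, hc,
      h.al_mul hA hvR (A.inv_mem ha) ha'A, h.al_inv hA hvR ha, ha', h.al_inverted hA hsA hvR hsv ha]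
    ring
  have hN'B := b.toPreBlk.cj_A h hA he hK hv hv4 hvA (A.inv_mem ha) hN
  have hN'v : zz (Cit.cj a⁻¹ N) * v * (zz (Cit.cj a⁻¹ N))⁻¹ = v⁻¹ := by
    calc zz (Cit.cj a⁻¹ N) * v * (zz (Cit.cj a⁻¹ N))⁻¹ = c * (zz N * v * (zz N)⁻¹) * c⁻¹ := by rw [hcs]; group
      _ = v⁻¹ := by rw [hsv, h.comm hA hcA (A.inv_mem hvA), mul_inv_cancel_right]
  obtain ⟨k, hk, hzk⟩ := h.exists_cj_mul hKO (b.sub _ hN'B).1 hv hv4 hN'v
    (show b0 ∈ XX U K by rw [hb0]; exact pw_mem (h.U_le_XX hKO hv) _)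
  have hz : zz (Cit.cj k (Cit.cj a⁻¹ N)) = c * b0⁻¹ * zz N := by
    have h3 : zz N * b0 = b0⁻¹ * zz N := mul_inv_eq_iff_eq_mul.1 hsb
    rw [hzk, hcs, mul_assoc, h3, mul_assoc]
  have h1 := b.toPreBlk.a1_f h hA he hK hv hv4 hvA hall hN hsv (A.mul_mem hcA (A.inv_mem hb0A)) hf0 hfs
    (b.toPreBlk.cj_mem hK hk hN'B) hz
  have h2 : c = c * b0⁻¹ * b0 := by group
  rw [h2]
  exact mul_mem h1 (by rw [hb0]; exact pw_mem (mem_zpowers v) _)

theorem lTwo_of (un : ∀ L ∈ Om, L ≤ centralizer {e} → zz L = zz K → L = K) : LTwo Om U A e v := by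
  refine ⟨b.lTwo_ex h hA he hK hv hv4 hvA hall, ?_⟩
  rintro w ⟨hwA, hw4, L, hL, hwL⟩ hw0 hww
  have h1 : L = K := un L hL ((h.le_cent_iff hA hL hwL hw4 hwA he).2 hw0)
    (by rw [← h.sq_eq hL hwL hw4, hww, h.sq_eq (b.sub K hK).1 hv hv4])
  rw [h1] at hwL
  exact h.eq_or_inv (b.sub K hK).1 hv hv4 hwL hw4

end AOne

end OneBlk

/-! ### Linked roots -/

/-- three linked roots of `A` in `BB` -/
structure ATwo (Om : Set (Subgroup G)) (U : Subgroup G → Subgroup G) (A : Subgroup G) (BB : Set (Subgroup G))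
    (v₁ v₂ v₃ : G) : Prop where
  m1 : v₁ ∈ RB Om U A BB
  m2 : v₂ ∈ RB Om U A BB
  m3 : v₃ ∈ RB Om U A BB
  prod : v₁ * v₂ * v₃ = 1
  a12 : al Om U v₁ v₂ = -1
  a21 : al Om U v₂ v₁ = -1
  a13 : al Om U v₁ v₃ = -1
  a31 : al Om U v₃ v₁ = -1
  a23 : al Om U v₂ v₃ = -1
  a32 : al Om U v₃ v₂ = -1

/-- `zz N`, `N ∈ BB`, normalises `A`, is not in `A`, fixes `v₁` and exchanges `v₂`, `v₃` -/
def SN (A : Subgroup G) (BB : Set (Subgroup G)) (v₁ v₂ v₃ : G) : Prop := ∃ N ∈ BB, zz N ∈ normalizer (A : Set G) ∧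
  zz N ∉ A ∧ zz N * v₁ * (zz N)⁻¹ = v₁ ∧ zz N * v₂ * (zz N)⁻¹ = v₃ ∧ zz N * v₃ * (zz N)⁻¹ = v₂

theorem RB_inv [Finite G] (hv : v ∈ RB Om U A BB) : v⁻¹ ∈ RB Om U A BB := by
  obtain ⟨hv, K, hK, hvK⟩ := hv
  exact ⟨CVW.RR_inv hv, K, hK, (U K).inv_mem hvK⟩

namespace ATwo

variable [Finite G] (q : ATwo Om U A BB v₁ v₂ v₃) (h : CVW Om U) (hA : IsA Om U A)
include q h hA

theorem rot : ATwo Om U A BB v₂ v₃ v₁ where
  m1 := q.m2
  m2 := q.m3
  m3 := q.m1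
  prod := by
    rw [← q.prod, h.comm hA (A.mul_mem q.m2.1.1 q.m3.1.1) q.m1.1.1, mul_assoc]
  a12 := q.a23
  a21 := q.a32
  a13 := q.a21
  a31 := q.a12
  a23 := q.a31
  a32 := q.a13

theorem three_inv : v₃⁻¹ = v₂ * v₁ := by
  have h1 := q.prod
  rw [h.comm hA q.m1.1.1 q.m2.1.1] at h1
  rw [eq_inv_of_mul_eq_one_right h1, inv_inv]

theorem rf_eq : rf Om U v₁ v₂ = v₃⁻¹ := by
  rw [rf, q.a12, neg_neg, pw_one, q.three_inv h hA]

/-- the three functions have sum zero -/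
theorem sum (ha : a ∈ A) : al Om U v₁ a + al Om U v₂ a + al Om U v₃ a = 0 := by
  have h2 := h.al_rf' hA q.m1.1 q.m2.1 ha
  rw [q.rf_eq h hA, h.al_neg hA q.m3.1 ha, q.a21] at h2
  linear_combination -h2

theorem ne12 : v₂ ≠ v₁ ∧ v₂ ≠ v₁⁻¹ := by
  have h1 := q.a12
  constructor
  · rintro rfl
    rw [h.al_self hA q.m1.1] at h1
    exact absurd h1 (by decide)
  · intro hh
    rw [hh, h.al_inv hA q.m1.1 q.m1.1.1, h.al_self hA q.m1.1] at h1
    exact absurd h1 (by decide)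

/-- the roots of `A` in `BB` -/
theorem cls (b : PreBlk Om e BB) (hu : u ∈ RB Om U A BB) :
    u = v₁ ∨ u = v₁⁻¹ ∨ u = v₂ ∨ u = v₂⁻¹ ∨ u = v₃ ∨ u = v₃⁻¹ := by
  by_cases h1 : Lk Om U v₁ u
  · by_cases h2 : Lk Om U v₂ u
    · by_cases h3 : Lk Om U v₃ u
      · exfalso
        have h4 := q.sum h hA hu.1.1
        rw [lk_iff] at h1 h2 h3
        rcases h1 with h1 | h1 <;> rcases h2 with h2 | h2 <;> rcases h3 with h3 | h3 <;> rw [h1, h2, h3] at h4 <;>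
          revert h4 <;> decide
      · have := b.rb_class h hA q.m3 hu h3
        tauto
    · have := b.rb_class h hA q.m2 hu h2
      tauto
  · have := b.rb_class h hA q.m1 hu h1
    tauto

/-- `s` inverts no root -/
theorem not_inv (b : PreBlk Om e BB) (hN : N ∈ BB) (hsA : zz N ∈ normalizer (A : Set G)) :
    zz N * v₁ * (zz N)⁻¹ ≠ v₁⁻¹ := by
  intro hs
  have hNO := (b.sub N hN).1
  have h12 : Lk Om U v₁ v₂ := (lk_iff _ _).mpr (Or.inr q.a12)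
  obtain ⟨i1, i2, i3, i4⟩ := h.inverted hA hNO hsA q.m1.1 q.m2.1 h12.1 h12.2 hs
  rw [q.rf_eq h hA] at i3 i4
  rw [inv_inv] at i4
  have h2 := PreBlk.RB_conj h (fun K hK => (b.sub K hK).1) hsA
      (fun L hL => b.cj_mem hN (h.hyp.zz_mem hNO) hL) q.m2
  have h3 := q.ne12 h hA
  rcases q.cls h hA b h2 with h4 | h4 | h4 | h4 | h4 | h4
  · rw [← inv_inv v₁, ← hs, conj_inv] at h4
    exact h3.2 (conj_injective h4)
  · rw [← hs] at h4
    exact h3.1 (conj_injective h4)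
  · exact i1 h4
  · exact i2 h4
  · exact i4 h4
  · exact i3 h4

/-- `s` fixes one of the three roots and exchanges the other two -/
theorem act (b : PreBlk Om e BB) (he : e ∈ A) (hN : N ∈ BB) (hsA : zz N ∈ normalizer (A : Set G))
    (hsnA : zz N ∉ A) :
    (zz N * v₁ * (zz N)⁻¹ = v₁ ∧ zz N * v₂ * (zz N)⁻¹ = v₃ ∧ zz N * v₃ * (zz N)⁻¹ = v₂) ∨
    (zz N * v₂ * (zz N)⁻¹ = v₂ ∧ zz N * v₃ * (zz N)⁻¹ = v₁ ∧ zz N * v₁ * (zz N)⁻¹ = v₃) ∨
    (zz N * v₃ * (zz N)⁻¹ = v₃ ∧ zz N * v₁ * (zz N)⁻¹ = v₂ ∧ zz N * v₂ * (zz N)⁻¹ = v₁) := by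
  have hNO := (b.sub N hN).1
  have q2 := q.rot h hA
  have q3 := q2.rot h hA
  have n1 := q.not_inv h hA b hN hsA
  have n2 := q2.not_inv h hA b hN hsA
  have n3 := q3.not_inv h hA b hN hsA
  have hcj : ∀ {x y}, zz N * x * (zz N)⁻¹ = y → zz N * y * (zz N)⁻¹ = x := by
    rintro x y rfl
    calc zz N * (zz N * x * (zz N)⁻¹) * (zz N)⁻¹ = (zz N * zz N) * x * (zz N * zz N)⁻¹ := by group
      _ = x := by rw [h.hyp.zz_mul hNO]; group
  have hpr : ∀ {x y z}, x * y * z = 1 → zz N * x * (zz N)⁻¹ * (zz N * y * (zz N)⁻¹) * (zz N * z * (zz N)⁻¹) = 1 := by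
    intro x y z h1
    calc zz N * x * (zz N)⁻¹ * (zz N * y * (zz N)⁻¹) * (zz N * z * (zz N)⁻¹) = zz N * (x * y * z) * (zz N)⁻¹ := by group
      _ = 1 := by rw [h1]; group
  have p1 := hpr q.prod
  have e3 := q.three_inv h hA
  have e1 := q2.three_inv h hA
  have e2 := q3.three_inv h hA
  have hinv : ∀ {x y}, zz N * x⁻¹ * (zz N)⁻¹ = y → zz N * x * (zz N)⁻¹ = y⁻¹ := by
    intro x y h1
    rw [← h1, ← conj_inv, inv_inv]
  -- the image of `v₁`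
  have h1 := PreBlk.RB_conj h (fun K hK => (b.sub K hK).1) hsA
      (fun L hL => b.cj_mem hN (h.hyp.zz_mem hNO) hL) q.m1
  rcases q.cls h hA b h1 with h4 | h4 | h4 | h4 | h4 | h4
  · -- `v₁` is fixed
    have h2 := PreBlk.RB_conj h (fun K hK => (b.sub K hK).1) hsA
      (fun L hL => b.cj_mem hN (h.hyp.zz_mem hNO) hL) q.m2
    rcases q.cls h hA b h2 with h5 | h5 | h5 | h5 | h5 | h5
    · exact ((q.ne12 h hA).1 (conj_injective (h5.trans h4.symm))).elim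
    · refine ((q.ne12 h hA).2 (conj_injective (h5.trans ?_))).elim
      show v₁⁻¹ = zz N * v₁⁻¹ * (zz N)⁻¹
      rw [← conj_inv, h4]
    · exfalso
      have h6 : zz N * v₃ * (zz N)⁻¹ = v₃ := by
        rw [h4, h5] at p1
        have h7 := q.prod
        exact mul_left_cancel (p1.trans h7.symm)
      obtain ⟨K, hK, hvK⟩ := q.m1.2
      obtain ⟨u, hu, hus⟩ := b.no_cent h hA he hK hvK q.m1.1.2.1 q.m1.1.1 hN hsnA
      have hc : ∀ {x}, zz N * x * (zz N)⁻¹ = x → zz N * x = x * zz N := mul_inv_eq_iff_eq_mul.1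
      have hc' : ∀ {x}, zz N * x * (zz N)⁻¹ = x → zz N * x⁻¹ = x⁻¹ * zz N := fun {x} h1 =>
        (show Commute (zz N) x from hc h1).inv_right.eq
      rcases q.cls h hA b hu with rfl | rfl | rfl | rfl | rfl | rfl
      · exact hus (hc h4)
      · exact hus (hc' h4)
      · exact hus (hc h5)
      · exact hus (hc' h5)
      · exact hus (hc h6)
      · exact hus (hc' h6)
    · exact (n2 h5).elim
    · exact Or.inl ⟨h4, h5, hcj h5⟩
    · exfalso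
      have h6 := hinv (hcj h5)
      rw [h4, h5, h6, mul_assoc, ← mul_inv_rev, h.comm hA q.m2.1.1 q.m3.1.1, ← e1, inv_inv] at p1
      exact CVW.sq_ne_one q.m1.1 p1
  · exact (n1 h4).elim
  · have h5 := hcj h4
    refine Or.inr (Or.inr ⟨?_, h4, h5⟩)
    rw [h4, h5, ← e3] at p1
    exact (eq_of_inv_mul_eq_one p1).symm
  · exfalso
    have h5 := hinv (hcj h4)
    rw [h4, h5, ← mul_inv_rev, h.comm hA q.m1.1.1 q.m2.1.1, ← e3, inv_inv] at p1
    exact n3 (eq_inv_of_mul_eq_one_right p1)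
  · have h5 := hcj h4
    refine Or.inr (Or.inl ⟨?_, h5, h4⟩)
    rw [h4, h5] at p1
    have h6 : zz N * v₂ * (zz N)⁻¹ = v₃⁻¹ * v₁⁻¹ := by
      rw [← mul_one v₃⁻¹, ← p1]; group
    rw [h6, ← mul_inv_rev, ← e2, inv_inv]
  · exfalso
    have h5 := hinv (hcj h4)
    rw [h4, h5] at p1
    have h6 : zz N * v₂ * (zz N)⁻¹ = v₃ * v₁ := by
      rw [← mul_one v₃, ← p1]; group
    rw [h.comm hA q.m3.1.1 q.m1.1.1, ← e2] at h6
    exact n2 h6

/-- the conjugate under the member of `v₃` -/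
theorem rotN (b : PreBlk Om e BB) (hn : SN A BB v₁ v₂ v₃) : SN A BB v₂ v₃ v₁ := by
  obtain ⟨N, hN, hs, hsn, h1, h2, h3⟩ := hn
  obtain ⟨K, hK, hvK⟩ := q.m3.2
  have hKO := (b.sub K hK).1
  have hNO := (b.sub N hN).1
  have hvR := q.m3.1
  obtain ⟨y, hy, hyX⟩ := h.exists_y hKO
  have hyA := h.K_le_norm hA hKO hvK hvR.2.1 hvR.1 hy
  have hrf := fun a (ha : a ∈ A) => h.rf_eq hA hKO hvK hvR.2.1 hvR.1 hy hyX ha
  have q2 := q.rot h hA
  have q3 := q2.rot h hA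
  have y3 : y * v₃ * y⁻¹ = v₃⁻¹ := h.y_inv hKO hy hyX hvK
  have y1 : y * v₁ * y⁻¹ = v₂⁻¹ := by
    rw [hrf v₁ q.m1.1.1, rf, q.a31, neg_neg, pw_one, ← q3.three_inv h hA]
  have y2 : y * v₂ * y⁻¹ = v₁⁻¹ := by
    rw [hrf v₂ q.m2.1.1, rf, q.a32, neg_neg, pw_one, h.comm hA q.m2.1.1 q.m3.1.1, ← q2.three_inv h hA]
  have i1 : y * v₁⁻¹ * y⁻¹ = v₂ := by rw [← conj_inv, y1, inv_inv]
  have i2 : y * v₂⁻¹ * y⁻¹ = v₁ := by rw [← conj_inv, y2, inv_inv]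
  have i3 : y * v₃⁻¹ * y⁻¹ = v₃ := by rw [← conj_inv, y3, inv_inv]
  have j1 : zz N * v₁⁻¹ * (zz N)⁻¹ = v₁⁻¹ := by rw [← conj_inv, h1]
  have j2 : zz N * v₂⁻¹ * (zz N)⁻¹ = v₃⁻¹ := by rw [← conj_inv, h2]
  have j3 : zz N * v₃⁻¹ * (zz N)⁻¹ = v₂⁻¹ := by rw [← conj_inv, h3]
  have hcj : ∀ {x z}, zz N * x * (zz N)⁻¹ = z →
      y * zz N * y⁻¹ * (y * x * y⁻¹) * (y * zz N * y⁻¹)⁻¹ = y * z * y⁻¹ := by
    rintro x z rfl
    group
  refine ⟨Cit.cj y N, b.cj_mem hK hy hN, ?_, ?_, ?_, ?_, ?_⟩ <;> rw [h.hyp.zz_cj hNO]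
  · exact mul_mem (mul_mem hyA hs) (inv_mem hyA)
  · intro hh
    exact hsn ((mem_normalizer_iff.mp hyA _).mpr hh)
  · have := hcj j1
    rwa [i1] at this
  · have := hcj j3
    rwa [i3, i2] at this
  · have := hcj j2
    rwa [i2, i3] at this

/-- the exchanging elements -/
theorem exists_SN (b : OneBlk Om U A e BB) (he : e ∈ A) : SN A BB v₁ v₂ v₃ ∧ SN A BB v₂ v₃ v₁ ∧ SN A BB v₃ v₁ v₂ := by
  have q2 := q.rot h hA
  have q3 := q2.rot h hA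
  obtain ⟨K, hK, hvK⟩ := q.m1.2
  obtain ⟨N, hN, hsA, hsnA⟩ := b.ex K hK (h.U_le_A hA (b.sub K hK).1 hvK q.m1.1.2.1 q.m1.1.1)
  rcases q.act h hA b.toPreBlk he hN hsA hsnA with h1 | h1 | h1
  · have s1 : SN A BB v₁ v₂ v₃ := ⟨N, hN, hsA, hsnA, h1⟩
    have s2 := q.rotN h hA b.toPreBlk s1
    exact ⟨s1, s2, q2.rotN h hA b.toPreBlk s2⟩
  · have s2 : SN A BB v₂ v₃ v₁ := ⟨N, hN, hsA, hsnA, h1⟩
    have s3 := q2.rotN h hA b.toPreBlk s2
    exact ⟨q3.rotN h hA b.toPreBlk s3, s2, s3⟩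
  · have s3 : SN A BB v₃ v₁ v₂ := ⟨N, hN, hsA, hsnA, h1⟩
    have s1 := q3.rotN h hA b.toPreBlk s3
    exact ⟨s1, q.rotN h hA b.toPreBlk s1, s3⟩

omit q in
/-- no asymmetric bond: the reflection in `u` would exchange `x`, `y` -/
theorem g2_kill (b : PreBlk Om e BB) (hx : x ∈ RR Om U A) (hu : u ∈ RR Om U A) (hl : Lk Om U u x)
    (hr : rf Om U u x = y)
    (hs : ∃ N ∈ BB, zz N ∈ normalizer (A : Set G) ∧ zz N * x * (zz N)⁻¹ = y ∧ zz N * y * (zz N)⁻¹ = x) : False := by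
  obtain ⟨N, hN, hsA, h1, h2⟩ := hs
  have hu4 := hu.2.1
  have h3 : pw u (-al Om U u x) = x⁻¹ * y := by rw [← hr, rf]; group
  have hcm : x * y = y * x := by
    rw [← hr]
    exact h.comm hA hx.1 (CVW.rf_mem_A hu hx.1)
  have h4 : zz N * pw u (-al Om U u x) * (zz N)⁻¹ = (pw u (-al Om U u x))⁻¹ := by
    calc zz N * pw u (-al Om U u x) * (zz N)⁻¹ = (zz N * x * (zz N)⁻¹)⁻¹ * (zz N * y * (zz N)⁻¹) := by rw [h3]; group
      _ = (x⁻¹ * y)⁻¹ := by rw [h1, h2]; group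
      _ = _ := by rw [h3]
  have h5 : zz N * u * (zz N)⁻¹ = u⁻¹ := by
    have h6 : u = pw u (-al Om U u x) ∨ u = (pw u (-al Om U u x))⁻¹ := by
      have h7 := (lk_iff _ _).1 hl
      rcases h7 with h7 | h7 <;> rw [h7]
      · right; rw [pw_neg_one hu4, inv_inv]
      · left; rw [neg_neg, pw_one]
    rcases h6 with h6 | h6
    · rw [← h6] at h4
      exact h4
    · have h7 : pw u (-al Om U u x) = u⁻¹ := by rw [h6, inv_inv, ← h6]
      rw [h7, ← conj_inv, inv_inv, inv_eq_iff_eq_inv] at h4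
      exact h4
  exact (h.inverted hA (b.sub N hN).1 hsA hu hx hl.1 hl.2 h5).2.2.1 (by rw [h1, hr])

/-- roots over `e` -/
theorem cl (b : OneBlk Om U A e BB) (he : e ∈ A) (hu : u ∈ RR Om U A) (hu0 : al Om U u e = 0) :
    (u = v₁ ∨ u = v₁⁻¹ ∨ u = v₂ ∨ u = v₂⁻¹ ∨ u = v₃ ∨ u = v₃⁻¹) ∨
    (al Om U v₁ u = 0 ∧ al Om U v₂ u = 0 ∧ al Om U v₃ u = 0) := by
  obtain ⟨L, hL, huL, -⟩ := h.exists_root hA hu
  have hLe := (h.le_cent_iff hA hL huL hu.2.1 hu.1 he).2 hu0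
  have q2 := q.rot h hA
  have q3 := q2.rot h hA
  obtain ⟨s1, s2, s3⟩ := q.exists_SN h hA b he
  have key : ∀ {v₁ v₂ v₃}, ATwo Om U A BB v₁ v₂ v₃ → SN A BB v₂ v₃ v₁ → SN A BB v₃ v₁ v₂ → al Om U v₁ u ≠ 0 →
      u ∈ RB Om U A BB := by
    clear q q2 q3 s1 s2 s3
    intro v₁ v₂ v₃ q s2 s3 hne
    obtain ⟨hv, K, hK, hvK⟩ := q.m1
    by_cases h2 : al Om U v₁ u = 2
    · rcases h.al_two hA hv hu h2 with rfl | rfl
      · exact q.m1
      · exact RB_inv q.m1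
    have hl : Lk Om U v₁ u := ⟨hne, h2⟩
    rcases h.al_odd_symm hA hv hu hne h2 with h3 | h3
    · exact ⟨hu, L, b.toPreBlk.lk' h hA hK hL hLe hv hvK hu huL hl h3, huL⟩
    · exfalso
      obtain ⟨h4, h5⟩ := b.toPreBlk.g2_mem h hA he q.m1 hu hu0 hl h3
      have hl' := h.lk_symm hA hv hu hl
      rcases q.cls h hA b.toPreBlk h4 with h6 | h6 | h6 | h6 | h6 | h6
      · rw [h6, h.al_self hA hv] at h5; exact absurd h5 (by decide)
      · rw [h6, h.al_inv hA hv hv.1, h.al_self hA hv] at h5; exact absurd h5 (by decide)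
      · obtain ⟨N, hN, hsA, -, -, t1, t2⟩ := s3
        exact ATwo.g2_kill h hA b.toPreBlk hv hu hl' h6 ⟨N, hN, hsA, t1, t2⟩
      · rw [h6, h.al_inv hA hv q.m2.1.1, q.a12] at h5; exact absurd h5 (by decide)
      · obtain ⟨N, hN, hsA, -, -, t1, t2⟩ := s2
        exact ATwo.g2_kill h hA b.toPreBlk hv hu hl' h6 ⟨N, hN, hsA, t2, t1⟩
      · rw [h6, h.al_inv hA hv q.m3.1.1, q.a13] at h5; exact absurd h5 (by decide)
  by_cases h1 : al Om U v₁ u = 0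
  · by_cases h2 : al Om U v₂ u = 0
    · by_cases h3 : al Om U v₃ u = 0
      · exact Or.inr ⟨h1, h2, h3⟩
      · exact Or.inl (q.cls h hA b.toPreBlk (key q3 s1 s2 h3))
    · exact Or.inl (q.cls h hA b.toPreBlk (key q2 s3 s1 h2))
  · exact Or.inl (q.cls h hA b.toPreBlk (key q s2 s3 h1))

/-- no involution in `C_A(K₁ K₂ K₃)` commuting with `s` and moving `s` in its class in `BB` -/
theorem no_invol (b : PreBlk Om e BB) (he : e ∈ A) (hN : N ∈ BB) (hsnA : zz N ∉ A)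
    (s1 : zz N * v₁ = v₁ * zz N) (hgA : g ∈ A) (hg1 : g ≠ 1) (hgs : g * zz N = zz N * g) (hM : M ∈ BB)
    (hz : zz M = g * zz N) (g1 : al Om U v₁ g = 0) (g2 : al Om U v₂ g = 0) (g3 : al Om U v₃ g = 0) : False := by
  have hNO := (b.sub N hN).1
  have hMO := (b.sub M hM).1
  obtain ⟨K, hK, hvK⟩ := q.m1.2
  have hKO := (b.sub K hK).1
  have hvR := q.m1.1
  have hv4 := hvR.2.1
  obtain ⟨w, hw, hw4⟩ := h.exists_v hNO
  have hwN := h.vch.le N hNO hw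
  have hgN : g ∈ normalizer (N : Set G) := by
    have h1 : zz M ∈ normalizer (N : Set G) :=
      b.norm_zz' h hM (h.hyp.zz_mem hMO) hN (by rw [hz, ← mul_assoc, ← hgs])
    have h2 : g = zz M * (zz N)⁻¹ := by rw [hz, mul_inv_cancel_right]
    rw [h2]
    exact mul_mem h1 (inv_mem (le_normalizer (h.hyp.zz_mem hNO)))
  rcases h.conj_or hNO hgN hw hw4 with hgw | hgw
  · obtain ⟨P, hP, hzP⟩ := b.alpha h hN hM hw hw4 hg1 (mul_inv_eq_iff_eq_mul.1 hgw) hz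
    obtain ⟨u, hu, hu4⟩ := h.exists_v (b.sub P hP).1
    have h1 := b.mem_A_of_zz h hA he hK hvK hv4 hvR.1 hP (by rw [hzP]; exact hgA) hu hu4
    have h2 : u * u = g := by rw [← hzP, h.sq_eq (b.sub P hP).1 hu hu4]
    rcases q.cls h hA b h1 with h3 | h3 | h3 | h3 | h3 | h3
    · rw [← h2, h3, h.al_sq hA q.m2.1 q.m1.1.1, q.a21] at g2; exact absurd g2 (by decide)
    · rw [← h2, h3, CVW.sq_inv q.m1.1, h.al_sq hA q.m2.1 q.m1.1.1, q.a21] at g2; exact absurd g2 (by decide)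
    · rw [← h2, h3, h.al_sq hA q.m3.1 q.m2.1.1, q.a32] at g3; exact absurd g3 (by decide)
    · rw [← h2, h3, CVW.sq_inv q.m2.1, h.al_sq hA q.m3.1 q.m2.1.1, q.a32] at g3; exact absurd g3 (by decide)
    · rw [← h2, h3, h.al_sq hA q.m1.1 q.m3.1.1, q.a13] at g1; exact absurd g1 (by decide)
    · rw [← h2, h3, CVW.sq_inv q.m3.1, h.al_sq hA q.m1.1 q.m3.1.1, q.a13] at g1; exact absurd g1 (by decide)
  · have hn : v₁ ∈ normalizer (N : Set G) := b.norm_zz' h hK (h.vch.le K hKO hvK) hN s1.symm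
    obtain ⟨B, hB, hvB, hwB⟩ := h.exists_common hKO hNO hvK hv4 hw hw4 hn
    have hne : K ≠ N := by
      rintro rfl
      exact hsnA (h.zz_mem_A hA hKO hvK hv4 hvR.1)
    have hlk := b.lk_of h hB hK hN hne hvB hvK hwB hw
    obtain ⟨y, hy, hyX⟩ := h.exists_y hKO
    have hyw := h.rf_eq hB hKO hvK hv4 hvB.1 hy hyX hwB.1
    have hgK := (h.le_cent_iff hA hKO hvK hv4 hvR.1 hgA).2 g1
    have hyg : y * g = g * y := mem_centralizer_singleton_iff.1 (hgK hy)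
    have hpg := pw_comm (h.comm hA hgA hvR.1) (-al Om U v₁ w)
    have hpw := pw_comm (h.comm hB hwB.1 hvB.1) (-al Om U v₁ w)
    rw [rf] at hyw
    obtain ⟨i, hi⟩ : ∃ i, i = -al Om U v₁ w := ⟨_, rfl⟩
    rw [← hi] at hyw hpg hpw
    have h5 : g * (y * w * y⁻¹) * g⁻¹ = (y * w * y⁻¹)⁻¹ := by
      have h6 : y⁻¹ * g⁻¹ = g⁻¹ * y⁻¹ := by rw [← mul_inv_rev, ← mul_inv_rev, hyg]
      calc g * (y * w * y⁻¹) * g⁻¹ = (g * y) * w * (y⁻¹ * g⁻¹) := by group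
        _ = y * (g * w * g⁻¹) * y⁻¹ := by rw [← hyg, h6]; group
        _ = (y * w * y⁻¹)⁻¹ := by rw [hgw]; group
    have h7 : g * (w * pw v₁ i) * g⁻¹ = w⁻¹ * pw v₁ i := by
      calc g * (w * pw v₁ i) * g⁻¹ = (g * w * g⁻¹) * (g * pw v₁ i) * g⁻¹ := by group
        _ = w⁻¹ * pw v₁ i := by rw [hgw, hpg]; group
    rw [hyw, h7, hpw, mul_inv_rev, mul_right_inj, ← pw_neg hv4] at h5
    have h8 := pw_inj hv4 h5
    rw [lk_iff] at hlk
    rw [hi] at h8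
    rcases hlk with hlk | hlk <;> rw [hlk] at h8 <;> exact absurd h8 (by decide)

theorem f_one (b : PreBlk Om e BB) (he : e ∈ A) (hN : N ∈ BB) (hsnA : zz N ∉ A)
    (s1 : zz N * v₁ = v₁ * zz N) (hfA : f ∈ A) (hfs : zz N * f * (zz N)⁻¹ = f⁻¹) (hM : M ∈ BB)
    (hz : zz M = f * zz N) (f1 : al Om U v₁ f = 0) (f2 : al Om U v₂ f = 0) (f3 : al Om U v₃ f = 0) : f = 1 := by
  have hNO := (b.sub N hN).1
  obtain ⟨K, hK, hvK⟩ := q.m1.2
  by_contra hf1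
  have hf4 := h.pow_four hA hfA
  have hcomm : ∀ {x}, zz N * x * (zz N)⁻¹ = x⁻¹ → x * x = 1 → x * zz N = zz N * x := by
    intro x h1 h2
    rw [inv_eq_of_mul_eq_one_left h2] at h1
    exact (mul_inv_eq_iff_eq_mul.1 h1).symm
  by_cases hf2 : f * f = 1
  · exact q.no_invol h hA b he hN hsnA s1 hfA hf1 (hcomm hfs hf2) hM hz f1 f2 f3
  · have hff : f * f * (f * f) = 1 := by
      have h4 : f * f * (f * f) = f ^ 4 := by simp [pow_succ, mul_assoc]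
      rw [h4, hf4]
    have hs1 : zz N * (f * f) * (zz N)⁻¹ = (f * f)⁻¹ := by
      calc zz N * (f * f) * (zz N)⁻¹ = (zz N * f * (zz N)⁻¹) * (zz N * f * (zz N)⁻¹) := by group
        _ = (f * f)⁻¹ := by rw [hfs, mul_inv_rev]
    have hsf : zz N * f⁻¹ = f * zz N := by
      have h3 : zz N * f⁻¹ * (zz N)⁻¹ = f := by rw [← conj_inv, hfs, inv_inv]
      exact mul_inv_eq_iff_eq_mul.1 h3
    have hz2 : zz (Cit.cj f N) = f * f * zz N := by
      rw [h.hyp.zz_cj hNO, mul_assoc, hsf, mul_assoc]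
    exact q.no_invol h hA b he hN hsnA s1 (A.mul_mem hfA hfA) hf2 (hcomm hs1 hff)
      (b.cj_A h hA he hK hvK q.m1.1.2.1 q.m1.1.1 hfA hN) hz2 (by rw [h.al_sq hA q.m1.1 hfA, f1, mul_zero])
      (by rw [h.al_sq hA q.m2.1 hfA, f2, mul_zero]) (by rw [h.al_sq hA q.m3.1 hfA, f3, mul_zero])

theorem pw_three (n : ZMod 4) : pw v₃ n = pw v₂ (-n) * pw v₁ (-n) := by
  have h1 : pw v₃⁻¹ (-n) = pw v₂ (-n) * pw v₁ (-n) := by
    rw [q.three_inv h hA, pw, pw, pw]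
    exact (show Commute v₂ v₁ from h.comm hA q.m2.1.1 q.m1.1.1).mul_pow _
  rw [← h1, pw_inv q.m3.1.2.1, neg_neg]

theorem sThree (b : PreBlk Om e BB) (he : e ∈ A) (hn : SN A BB v₁ v₂ v₃) : SThree A v₁ v₂ v₃ := by
  obtain ⟨N, hN, hsA, hsnA, s1, s2, s3⟩ := hn
  refine ⟨zz N, hsA, s1, s2, s3, fun a ha => ?_⟩
  have hNO := (b.sub N hN).1
  have hss := h.hyp.zz_mul hNO
  obtain ⟨K, hK, hvK⟩ := q.m1.2
  obtain ⟨L, hL, hvL⟩ := q.m2.2
  have hA1 := q.m1.1.1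
  have hA2 := q.m2.1.1
  have h41 := q.m1.1.2.1
  have h42 := q.m2.1.2.1
  obtain ⟨a', ha'⟩ : ∃ a', a' = zz N * a * (zz N)⁻¹ := ⟨_, rfl⟩
  have ha'A : a' ∈ A := by rw [ha']; exact (mem_normalizer_iff.mp hsA a).mp ha
  have l1 : al Om U v₁ a' = al Om U v₁ a := by
    have := h.al_conj hA hsA q.m1.1 ha
    rwa [s1, ← ha'] at this
  have l2 : al Om U v₂ a' = al Om U v₃ a := by
    have := h.al_conj hA hsA q.m3.1 ha
    rwa [s3, ← ha'] at this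
  have l3 : al Om U v₃ a' = al Om U v₂ a := by
    have := h.al_conj hA hsA q.m2.1 ha
    rwa [s2, ← ha'] at this
  rw [← ha']
  obtain ⟨c, hc⟩ : ∃ c, c = a⁻¹ * a' := ⟨_, rfl⟩
  have hcA : c ∈ A := by rw [hc]; exact A.mul_mem (A.inv_mem ha) ha'A
  rw [← hc]
  obtain ⟨d, hd⟩ : ∃ d, d = al Om U v₃ a - al Om U v₂ a := ⟨_, rfl⟩
  have c1 : al Om U v₁ c = 0 := by
    rw [hc, h.al_mul hA q.m1.1 (A.inv_mem ha) ha'A, h.al_inv hA q.m1.1 ha, l1, neg_add_cancel]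
  have c2 : al Om U v₂ c = d := by
    rw [hc, h.al_mul hA q.m2.1 (A.inv_mem ha) ha'A, h.al_inv hA q.m2.1 ha, l2, hd]; ring
  have c3 : al Om U v₃ c = -d := by
    rw [hc, h.al_mul hA q.m3.1 (A.inv_mem ha) ha'A, h.al_inv hA q.m3.1 ha, l3, hd]; ring
  have p1A : ∀ n, pw v₁ n ∈ A := fun n => pw_mem hA1 n
  have p2A : ∀ n, pw v₂ n ∈ A := fun n => pw_mem hA2 n
  obtain ⟨b0, hb0⟩ : ∃ b0, b0 = pw v₁ (-d) * pw v₂ (-(2 * d)) := ⟨_, rfl⟩
  have hb0A : b0 ∈ A := by rw [hb0]; exact A.mul_mem (p1A _) (p2A _)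
  have b1 : al Om U v₁ b0 = 0 := by
    rw [hb0, h.al_mul hA q.m1.1 (p1A _) (p2A _), h.al_pw hA q.m1.1 hA1, h.al_pw hA q.m1.1 hA2,
      h.al_self hA q.m1.1, q.a12]
    ring
  have b2 : al Om U v₂ b0 = d := by
    rw [hb0, h.al_mul hA q.m2.1 (p1A _) (p2A _), h.al_pw hA q.m2.1 hA1, h.al_pw hA q.m2.1 hA2,
      h.al_self hA q.m2.1, q.a21]
    clear hd c2 c3 hb0
    revert d
    decide
  have b3 : al Om U v₃ b0 = -d := by
    rw [hb0, h.al_mul hA q.m3.1 (p1A _) (p2A _), h.al_pw hA q.m3.1 hA1, h.al_pw hA q.m3.1 hA2, q.a31, q.a32]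
    clear hd c2 c3 hb0 b2
    revert d
    decide
  have hb0i : b0⁻¹ = pw v₂ (2 * d) * pw v₁ d := by
    rw [hb0, mul_inv_rev, ← pw_neg h42, ← pw_neg h41, neg_neg, neg_neg]
  have hcm : ∀ m n, pw v₁ m * pw v₂ n = pw v₂ n * pw v₁ m := fun m n => h.comm hA (p1A m) (p2A n)
  have hsb : zz N * b0 * (zz N)⁻¹ = b0⁻¹ := by
    have h1 : zz N * b0 * (zz N)⁻¹ = (zz N * pw v₁ (-d) * (zz N)⁻¹) * (zz N * pw v₂ (-(2 * d)) * (zz N)⁻¹) := by
      rw [hb0]; group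
    rw [h1, conj_pw, conj_pw, s1, s2, q.pw_three h hA, neg_neg, hb0i, ← mul_assoc, hcm, mul_assoc, ← pw_add h41]
    congr 2
    ring
  have hcs : zz (Cit.cj a⁻¹ N) = c * zz N := by
    rw [h.hyp.zz_cj hNO, hc, ha', inv_inv]
    group
  have hsc : zz N * c * (zz N)⁻¹ = c⁻¹ := by
    calc zz N * c * (zz N)⁻¹ = (zz N * a * (zz N)⁻¹)⁻¹ * ((zz N * zz N) * a * (zz N * zz N)⁻¹) := by
          rw [hc, ha']; group
      _ = c⁻¹ := by rw [← ha', hss, hc]; group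
  have hcb := h.comm hA hcA hb0A
  have hfs : zz N * (c * b0⁻¹) * (zz N)⁻¹ = (c * b0⁻¹)⁻¹ := by
    calc zz N * (c * b0⁻¹) * (zz N)⁻¹ = (zz N * c * (zz N)⁻¹) * (zz N * b0 * (zz N)⁻¹)⁻¹ := by group
      _ = c⁻¹ * b0 := by rw [hsc, hsb, inv_inv]
      _ = (b0⁻¹ * c)⁻¹ := by group
      _ = (c * b0⁻¹)⁻¹ := by rw [h.comm hA (A.inv_mem hb0A) hcA]
  have hfal : ∀ {v}, v ∈ RR Om U A → al Om U v (c * b0⁻¹) = al Om U v c - al Om U v b0 := by
    intro v hv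
    rw [h.al_mul hA hv hcA (A.inv_mem hb0A), h.al_inv hA hv hb0A]
    ring
  have hz : zz (Cit.cj (pw v₂ d) (Cit.cj a⁻¹ N)) = c * b0⁻¹ * zz N := by
    have h1 : zz N * (pw v₂ d)⁻¹ * (zz N)⁻¹ = pw v₂ d * pw v₁ d := by
      rw [← pw_neg h42, conj_pw, s2, q.pw_three h hA, neg_neg]
    have h2 : pw v₂ d * c = c * pw v₂ d := h.comm hA (p2A d) hcA
    rw [h.hyp.zz_cj (b.sub _ (b.cj_A h hA he hK hvK h41 hA1 (A.inv_mem ha) hN)).1, hcs]
    calc pw v₂ d * (c * zz N) * (pw v₂ d)⁻¹ = (pw v₂ d * c) * (zz N * (pw v₂ d)⁻¹ * (zz N)⁻¹) * zz N := by group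
      _ = c * ((pw v₂ d * pw v₂ d) * pw v₁ d) * zz N := by rw [h1, h2]; group
      _ = c * b0⁻¹ * zz N := by rw [← pw_add h42, ← two_mul, hb0i]
  have h1 := q.f_one h hA b he hN hsnA (mul_inv_eq_iff_eq_mul.1 s1) (A.mul_mem hcA (A.inv_mem hb0A)) hfs
    (b.cj_mem hL (pw_mem (h.vch.le L (b.sub L hL).1 hvL) d)
      (b.cj_A h hA he hK hvK h41 hA1 (A.inv_mem ha) hN)) hz
    (by rw [hfal q.m1.1, c1, b1, sub_zero]) (by rw [hfal q.m2.1, c2, b2, sub_self])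
    (by rw [hfal q.m3.1, c3, b3, sub_self])
  rw [mul_inv_eq_one.1 h1, hb0]
  exact mul_mem (pw_mem (subset_closure (by simp)) _) (pw_mem (subset_closure (by simp)) _)

end ATwo

namespace PreBlk

variable [Finite G] (b : PreBlk Om e BB) (h : CVW Om U)
include b h

/-- the three roots -/
theorem exists_ATwo (hA : IsA Om U A) (hv : v ∈ RB Om U A BB) (hw : w ∈ RB Om U A BB) (hl : Lk Om U v w) :
    ∃ v₂ v₃, ATwo Om U A BB v v₂ v₃ := by
  have hsym := b.symm_bond h hA hv hw hl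
  -- the second root
  obtain ⟨v₂, m2, a12, a21⟩ : ∃ v₂ ∈ RB Om U A BB, al Om U v v₂ = -1 ∧ al Om U v₂ v = -1 := by
    rcases (lk_iff v w).1 hl with h1 | h1
    · refine ⟨w⁻¹, RB_inv hw, ?_, ?_⟩
      · rw [h.al_inv hA hv.1 hw.1.1, h1]
      · rw [h.al_neg hA hw.1 hv.1.1, hsym, h1]
    · exact ⟨w, hw, h1, by rw [hsym, h1]⟩
  -- the third root
  have hrf : rf Om U v v₂ = v₂ * v := by rw [rf, a12, neg_neg, pw_one]
  have m3' : v₂ * v ∈ RB Om U A BB := by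
    obtain ⟨K, hK, hvK⟩ := hv.2
    obtain ⟨y, hy, hyX⟩ := h.exists_y (b.sub K hK).1
    have h1 := h.rf_eq hA (b.sub K hK).1 hvK hv.1.2.1 hv.1.1 hy hyX m2.1.1
    rw [← hrf, ← h1]
    exact PreBlk.RB_conj h (fun K hK => (b.sub K hK).1)
      (h.K_le_norm hA (b.sub K hK).1 hvK hv.1.2.1 hv.1.1 hy) (fun L hL => b.cj_mem hK hy hL) m2
  have m3 := RB_inv m3'
  have hcm := h.comm hA m2.1.1 hv.1.1
  have h3A := m3'.1.1
  have t1 : al Om U v (v₂ * v) = 1 := by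
    rw [h.al_mul hA hv.1 m2.1.1 hv.1.1, a12, h.al_self hA hv.1]; decide
  have t2 : al Om U v₂ (v₂ * v) = 1 := by
    rw [h.al_mul hA m2.1 m2.1.1 hv.1.1, a21, h.al_self hA m2.1]; decide
  have t3 : ∀ a ∈ A, al Om U (v₂ * v)⁻¹ a = -(al Om U v₂ a + al Om U v a) := by
    intro a ha
    rw [h.al_neg hA m3'.1 ha, ← hrf, h.al_rf' hA hv.1 m2.1 ha, a21]
    ring
  refine ⟨v₂, (v₂ * v)⁻¹, hv, m2, m3, ?_, a12, a21, ?_, ?_, ?_, ?_⟩
  · rw [← hcm, mul_inv_cancel]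
  · rw [h.al_inv hA hv.1 h3A, t1]
  · rw [t3 v hv.1.1, a21, h.al_self hA hv.1]; decide
  · rw [h.al_inv hA m2.1 h3A, t2]
  · rw [t3 v₂ m2.1.1, a12, h.al_self hA m2.1]; decide

theorem e_zero (hA : IsA Om U A) (he : e ∈ A) (hv : v ∈ RB Om U A BB) : al Om U v e = 0 := by
  obtain ⟨hv, K, hK, hvK⟩ := hv
  exact (h.le_cent_iff hA (b.sub K hK).1 hvK hv.2.1 hv.1 he).1 (b.sub K hK).2

end PreBlk

namespace OneBlk

variable [Finite G] (b : OneBlk Om U A e BB) (h : CVW Om U)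
include b h

/-- **linked roots**: the output `LThree` -/
theorem lThree_of (hA : IsA Om U A) (he : e ∈ A) (hv : v ∈ RB Om U A BB)
    (hw : w ∈ RB Om U A BB) (hl : Lk Om U v w) : ∃ v₂ v₃, LThree Om U A e v v₂ v₃ := by
  obtain ⟨v₂, v₃, q⟩ := b.toPreBlk.exists_ATwo h hA hv hw hl
  have q2 := q.rot h hA
  have q3 := q2.rot h hA
  obtain ⟨n1, n2, n3⟩ := q.exists_SN h hA b he
  exact ⟨v₂, v₃,
    { m1 := q.m1.1, m2 := q.m2.1, m3 := q.m3.1, prod := q.prod, a12 := q.a12, a21 := q.a21, a13 := q.a13, a31 := q.a31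
      a23 := q.a23, a32 := q.a32, e1 := b.toPreBlk.e_zero h hA he q.m1, e2 := b.toPreBlk.e_zero h hA he q.m2, e3 := b.toPreBlk.e_zero h hA he q.m3
      cl := fun u hu hu0 => q.cl h hA b he hu hu0, s1 := q.sThree h hA b.toPreBlk he n1
      s2 := q2.sThree h hA b.toPreBlk he n2, s3 := q3.sThree h hA b.toPreBlk he n3 }⟩

end OneBlk

end Cfsg.Agent.Cit.CV
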