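import Cfsg.Agent.Cit.Nil.CV.XLevel

/-!
# S1309 (CV), rank at least three: the case (T1) is impossible

Helper 542, from helper995's text (C) (bb R18, 04:00Z).  `s = zz N ∈ B ∩ N(A)` acts on `A` as the product of the two
reflections in `g`, `g'` (over the same involution), `zz N2 ∈ B ∩ N(A)` inverts a root `g2` linked to `g`.
-/

set_option autoImplicit false
set_option linter.style.haveILetI false
set_option linter.unusedSectionVars false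

namespace Cfsg.Agent.Cit.Nil.CV.Dead

open Subgroup Cfsg Cit Tau Cit.CV XLevel

variable {G : Type*} [Group G] [Finite G] {Om : Set (Subgroup G)} {U : Subgroup G → Subgroup G}
  {A B K L M N N2 : Subgroup G} {a b d g g' g2 s t v w x x' y : G}

/-- **(3f)** -/
theorem dead (h : CVW Om U) (hA : IsA Om U A) (hN : N ∈ Om) (hCB : centralizer {zz N} ≤ normalizer (B : Set G))
    (hcb : ∀ b ∈ B, (∀ a ∈ A, b * a = a * b) → b = 1)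
    (hg : g ∈ RR Om U A) (hg' : g' ∈ RR Om U A) (hd : d ∈ RR Om U A)
    (hgg : g' * g' = g * g) (hne : g' ≠ g) (hne' : g' ≠ g⁻¹)
    (hsg : zz N * g * (zz N)⁻¹ = g⁻¹) (hsg' : zz N * g' * (zz N)⁻¹ = g'⁻¹)
    (hgd0 : al Om U g d ≠ 0) (hgd2 : al Om U g d ≠ 2) (hgd0' : al Om U g' d ≠ 0) (hgd2' : al Om U g' d ≠ 2)
    (hsA : ∀ a ∈ A, zz N * a * (zz N)⁻¹ = rf Om U g (rf Om U g' a))
    (hrel : zz N * d * (zz N)⁻¹ * d = g * g)
    (hN2 : N2 ∈ Om) (hs2B : zz N2 ∈ B) (hs2A : zz N2 ∈ normalizer (A : Set G))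
    (hg2 : g2 ∈ RR Om U A) (hsg2 : zz N2 * g2 * (zz N2)⁻¹ = g2⁻¹)
    (h20 : al Om U g2 g ≠ 0) (h22 : al Om U g2 g ≠ 2) : False := by
  obtain ⟨K, hK, hgK⟩ := hg.2.2
  obtain ⟨K', hK', hgK'⟩ := hg'.2.2
  obtain ⟨L, hL, hdL⟩ := hd.2.2
  obtain ⟨K2, hK2, hgK2⟩ := hg2.2.2
  obtain ⟨y, hy, hyX⟩ := h.exists_y hK
  obtain ⟨y', hy', hyX'⟩ := h.exists_y hK'
  obtain ⟨s, hs⟩ : ∃ s, s = zz N := ⟨_, rfl⟩
  have hsinv : s⁻¹ = s := by rw [hs]; exact h.hyp.zz_inv hN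
  have hss : s * s = 1 := by rw [hs]; exact h.hyp.zz_mul hN
  have hKK' : K ≠ K' := by
    rintro rfl
    rcases h.eq_or_inv hK hgK hg.2.1 hgK' hg'.2.1 with h1 | h1
    · exact hne h1
    · exact hne' h1
  have hz : zz K = zz K' := by rw [← h.sq_eq hK hgK hg.2.1, ← h.sq_eq hK' hgK' hg'.2.1, hgg]
  have hcomm : ∀ a ∈ K, ∀ b ∈ K', a * b = b * a := fun a ha b hb => h.comm_of_zz_eq hK hK' hz hKK' ha hb
  -- the elements `δ`, `δ'`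
  obtain ⟨hδX, hδodd⟩ := inv_y h hN hK hgK hg.2.1 hsg hy hyX
  obtain ⟨hδX', hδodd'⟩ := inv_y h hN hK' hgK' hg'.2.1 hsg' hy' hyX'
  rw [← hs] at hδX hδodd hδX' hδodd' hrel hsg hsg' hsA
  obtain ⟨δ, hδ⟩ : ∃ δ, δ = (s * y * s⁻¹)⁻¹ * y := ⟨_, rfl⟩
  obtain ⟨δ', hδ'⟩ : ∃ δ', δ' = (s * y' * s⁻¹)⁻¹ * y' := ⟨_, rfl⟩
  rw [← hδ] at hδX hδodd
  rw [← hδ'] at hδX' hδodd'
  have hsy : s * y * s⁻¹ = y * δ⁻¹ := by rw [hδ]; group
  have hsy' : s * y' * s⁻¹ = y' * δ'⁻¹ := by rw [hδ']; group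
  have hyy := (h.y_facts hK hy hyX).1
  have hyy' := (h.y_facts hK' hy' hyX').1
  -- `Y`
  obtain ⟨Y, hY⟩ : ∃ Y, Y = y * y' := ⟨_, rfl⟩
  have hYY : Y * Y = 1 := by
    calc Y * Y = y * (y' * y) * y' := by rw [hY]; group
      _ = (y * y) * (y' * y') := by rw [← hcomm y hy y' hy']; group
      _ = 1 := by rw [hyy, hyy', hz, h.hyp.zz_mul hK']
  have hYinv : Y⁻¹ = Y := inv_eq_of_mul_eq_one_right hYY
  have hYA : ∀ a ∈ A, Y * a * Y⁻¹ = s * a * s⁻¹ := by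
    intro a ha
    have h1 := h.al_spec hA hK' hgK' hg'.2.1 hg'.1 hy' hyX' ha
    have h2 := h.al_spec hA hK hgK hg.2.1 hg.1 hy hyX (CVW.rf_mem_A (Om := Om) (U := U) hg' ha)
    calc Y * a * Y⁻¹ = y * (y' * a * y'⁻¹) * y⁻¹ := by rw [hY]; group
      _ = y * rf Om U g' a * y⁻¹ := by rw [h1]; rfl
      _ = rf Om U g (rf Om U g' a) := h2
      _ = _ := (hsA a ha).symm
  -- `c0 = Y s`
  obtain ⟨c0, hc0⟩ : ∃ c0, c0 = Y * s := ⟨_, rfl⟩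
  have hc0A : ∀ a ∈ A, c0 * a = a * c0 := by
    intro a ha
    have h1 := hYA a ha
    have h2 : Y * s * a * (Y * s)⁻¹ = a := by
      calc Y * s * a * (Y * s)⁻¹ = Y * (s * a * s⁻¹) * Y⁻¹ := by group
        _ = Y * (Y * a * Y⁻¹) * Y⁻¹ := by rw [h1]
        _ = (Y * Y) * a * (Y * Y)⁻¹ := by group
        _ = a := by rw [hYY]; group
    rw [hc0]
    exact mul_inv_eq_iff_eq_mul.mp h2
  have hsc0 : s * c0 * s⁻¹ = c0⁻¹ := by
    calc s * c0 * s⁻¹ = s * Y := by rw [hc0]; group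
      _ = s⁻¹ * Y⁻¹ := by rw [hsinv, hYinv]
      _ = c0⁻¹ := by rw [hc0]; group
  have hc0c0 : c0 * c0 = δ⁻¹ * δ'⁻¹ := by
    have hδK := K.inv_mem (XX_le K hδX)
    calc c0 * c0 = Y * (s * Y * s⁻¹) * (s * s) := by rw [hc0]; group
      _ = y * y' * ((s * y * s⁻¹) * (s * y' * s⁻¹)) := by rw [hss, hY]; group
      _ = y * (y' * (y * δ⁻¹)) * y' * δ'⁻¹ := by rw [hsy, hsy']; group
      _ = y * y * (δ⁻¹ * y') * y' * δ'⁻¹ := by rw [← hcomm _ (K.mul_mem hy hδK) y' hy']; group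
      _ = y * y * (y' * δ⁻¹) * y' * δ'⁻¹ := by rw [hcomm _ hδK y' hy']
      _ = y * y * y' * (δ⁻¹ * y') * δ'⁻¹ := by group
      _ = y * y * y' * (y' * δ⁻¹) * δ'⁻¹ := by rw [hcomm _ hδK y' hy']
      _ = (y * y) * (y' * y') * δ⁻¹ * δ'⁻¹ := by group
      _ = _ := by rw [hyy, hyy', hz, h.hyp.zz_mul hK', one_mul]
  have hc0K : ∀ x ∈ XX U K, c0 * x = x * c0 := by
    intro x hx
    have h1 : s * x * s⁻¹ = x⁻¹ := by rw [hs]; exact inv_xx h hN hK hgK hg.2.1 (by rw [← hs]; exact hsg) hx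
    have h2 : Y * x * Y⁻¹ = x⁻¹ := by
      calc Y * x * Y⁻¹ = y * (y' * x * y'⁻¹) * y⁻¹ := by rw [hY]; group
        _ = y * x * y⁻¹ := by rw [← hcomm x (XX_le K hx) y' hy', mul_inv_cancel_right]
        _ = x⁻¹ := (h.y_facts hK hy hyX).2.2 x hx
    have h3 : c0 * x * c0⁻¹ = x := by
      calc c0 * x * c0⁻¹ = Y * (s * x * s⁻¹) * Y⁻¹ := by rw [hc0]; group
        _ = (Y * x * Y⁻¹)⁻¹ := by rw [h1]; group
        _ = x := by rw [h2, inv_inv]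
    exact mul_inv_eq_iff_eq_mul.mp h3
  have hc0K' : ∀ x ∈ XX U K', c0 * x = x * c0 := by
    intro x hx
    have h1 : s * x * s⁻¹ = x⁻¹ := by rw [hs]; exact inv_xx h hN hK' hgK' hg'.2.1 (by rw [← hs]; exact hsg') hx
    have h2 : Y * x * Y⁻¹ = x⁻¹ := by
      calc Y * x * Y⁻¹ = y * (y' * x * y'⁻¹) * y⁻¹ := by rw [hY]; group
        _ = y * x⁻¹ * y⁻¹ := by rw [(h.y_facts hK' hy' hyX').2.2 x hx]
        _ = x⁻¹ := by rw [hcomm y hy x⁻¹ (K'.inv_mem (XX_le K' hx)), mul_inv_cancel_right]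
    have h3 : c0 * x * c0⁻¹ = x := by
      calc c0 * x * c0⁻¹ = Y * (s * x * s⁻¹) * Y⁻¹ := by rw [hc0]; group
        _ = (Y * x * Y⁻¹)⁻¹ := by rw [h1]; group
        _ = x := by rw [h2, inv_inv]
    exact mul_inv_eq_iff_eq_mul.mp h3
  have hc0L : ∀ x ∈ XX U L, c0 * x = x * c0 := fun x hx =>
    cent_xx h hA hK hgK hg hL hdL hd hgd0 hgd2 hc0A hc0K hx
  have hc0K2 : ∀ x ∈ XX U K2, c0 * x = x * c0 := fun x hx =>
    cent_xx h hA hK hgK hg hK2 hgK2 hg2 (fun hh => h20 (h.al_zero_symm hA hg hg2 hh))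
      (fun hh => h22 (h.al_two_symm hA hg hg2 hh)) hc0A hc0K hx
  -- `c`
  obtain ⟨c, hcX, hcodd⟩ := exists_odd h hL
  obtain ⟨θ, hθ⟩ : ∃ θ, θ = y * c * y⁻¹ * c⁻¹ := ⟨_, rfl⟩
  obtain ⟨θ', hθ'⟩ : ∃ θ', θ' = y' * c * y'⁻¹ * c⁻¹ := ⟨_, rfl⟩
  have hθX : θ ∈ XX U K := by rw [hθ]; exact y_xx h hA hK hgK hg hL hdL hd hy hcX
  have hθX' : θ' ∈ XX U K' := by rw [hθ']; exact y_xx h hA hK' hgK' hg' hL hdL hd hy' hcX
  have hθodd : ¬ W2 U K θ := by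
    rw [hθ, y_xx_odd h hA hK hgK hg hL hdL hd hgd0 hgd2 hy hyX hcX]; exact hcodd
  have hθodd' : ¬ W2 U K' θ' := by
    rw [hθ', y_xx_odd h hA hK' hgK' hg' hL hdL hd hgd0' hgd2' hy' hyX' hcX]; exact hcodd
  have hyc : y * c * y⁻¹ = θ * c := by rw [hθ]; group
  have hyc' : y' * c * y'⁻¹ = θ' * c := by rw [hθ']; group
  have hsc : s * c * s⁻¹ = θ' * (θ * c) := by
    have h1 : Y * c * Y⁻¹ = θ' * (θ * c) := by
      calc Y * c * Y⁻¹ = y * (y' * c * y'⁻¹) * y⁻¹ := by rw [hY]; group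
        _ = y * (θ' * c) * y⁻¹ := by rw [hyc']
        _ = (y * θ') * c * y⁻¹ := by group
        _ = θ' * (y * c * y⁻¹) := by rw [hcomm y hy θ' (XX_le K' hθX')]; group
        _ = _ := by rw [hyc]
    have h2 := hc0L c hcX
    rw [← h1]
    calc s * c * s⁻¹ = Y⁻¹ * ((Y * s) * c) * s⁻¹ := by group
      _ = Y⁻¹ * (c * (Y * s)) * s⁻¹ := by rw [← hc0, h2]
      _ = Y⁻¹ * c * Y := by group
      _ = Y * c * Y⁻¹ := by rw [hYinv]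
  -- `κ`, `κ'`
  obtain ⟨κ, hκX, hκ⟩ := (h.W2_iff hK).mp ((h.W2_mul hK hθX hδX).mpr
    ⟨fun hh => absurd hh hθodd, fun hh => absurd hh hδodd⟩)
  obtain ⟨κ', hκX', hκ'⟩ := (h.W2_iff hK').mp ((h.W2_mul hK' hθX' hδX').mpr
    ⟨fun hh => absurd hh hθodd', fun hh => absurd hh hδodd'⟩)
  have hsκ : s * κ * s⁻¹ = κ⁻¹ := by rw [hs]; exact inv_xx h hN hK hgK hg.2.1 (by rw [← hs]; exact hsg) hκX
  have hsκ' : s * κ' * s⁻¹ = κ'⁻¹ := by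
    rw [hs]; exact inv_xx h hN hK' hgK' hg'.2.1 (by rw [← hs]; exact hsg') hκX'
  -- everything commutes
  have kKL : ∀ {x x' : G}, x ∈ XX U K → x' ∈ XX U L → Commute x x' := fun hx hx' =>
    xx_comm h hA hK hgK hg hL hdL hd hx hx'
  have kK'L : ∀ {x x' : G}, x ∈ XX U K' → x' ∈ XX U L → Commute x x' := fun hx hx' =>
    xx_comm h hA hK' hgK' hg' hL hdL hd hx hx'
  have kKK' : ∀ {x x' : G}, x ∈ XX U K → x' ∈ XX U K' → Commute x x' := fun hx hx' =>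
    hcomm _ (XX_le K hx) _ (XX_le K' hx')
  have kK : ∀ {x x' : G}, x ∈ XX U K → x' ∈ XX U K → Commute x x' := fun hx hx' => xx_comm_self h hK hx hx'
  have kK' : ∀ {x x' : G}, x ∈ XX U K' → x' ∈ XX U K' → Commute x x' := fun hx hx' => xx_comm_self h hK' hx hx'
  obtain ⟨e, he⟩ : ∃ e, e = c * κ * κ' := ⟨_, rfl⟩
  have hθκ : θ * κ⁻¹ = δ⁻¹ * κ := by
    rw [mul_inv_eq_iff_eq_mul, mul_assoc, ← hκ, (kK hθX hδX).eq, inv_mul_cancel_left]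
  have hθκ' : θ' * κ'⁻¹ = δ'⁻¹ * κ' := by
    rw [mul_inv_eq_iff_eq_mul, mul_assoc, ← hκ', (kK' hθX' hδX').eq, inv_mul_cancel_left]
  have hse : s * e * s⁻¹ = c0 * c0 * e := by
    have h1 : s * e * s⁻¹ = θ' * (θ * c) * κ⁻¹ * κ'⁻¹ := by
      calc s * e * s⁻¹ = (s * c * s⁻¹) * (s * κ * s⁻¹) * (s * κ' * s⁻¹) := by rw [he]; group
        _ = _ := by rw [hsc, hsκ, hsκ']
    have hκi := (XX U K).inv_mem hκX
    have hκi' := (XX U K').inv_mem hκX'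
    have hδi := (XX U K).inv_mem hδX
    have hδi' := (XX U K').inv_mem hδX'
    have h2 : θ' * (θ * c) * κ⁻¹ * κ'⁻¹ = (θ * κ⁻¹) * (θ' * κ'⁻¹) * c := by
      calc θ' * (θ * c) * κ⁻¹ * κ'⁻¹ = (θ' * θ) * (c * κ⁻¹) * κ'⁻¹ := by group
        _ = (θ * θ') * (κ⁻¹ * c) * κ'⁻¹ := by rw [(kKK' hθX hθX').eq, (kKL hκi hcX).eq]
        _ = θ * (θ' * κ⁻¹) * (c * κ'⁻¹) := by group
        _ = θ * (κ⁻¹ * θ') * (κ'⁻¹ * c) := by rw [(kKK' hκi hθX').eq, (kK'L hκi' hcX).eq]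
        _ = _ := by group
    have h3 : c0 * c0 * e = (δ⁻¹ * κ) * (δ'⁻¹ * κ') * c := by
      rw [hc0c0, he]
      calc δ⁻¹ * δ'⁻¹ * (c * κ * κ') = δ⁻¹ * δ'⁻¹ * ((c * κ) * κ') := by group
        _ = δ⁻¹ * δ'⁻¹ * (κ * (c * κ')) := by rw [← (kKL hκX hcX).eq]; group
        _ = δ⁻¹ * (δ'⁻¹ * κ) * (κ' * c) := by rw [← (kK'L hκX' hcX).eq]; group
        _ = δ⁻¹ * (κ * δ'⁻¹) * (κ' * c) := by rw [(kKK' hκX hδi').eq]
        _ = _ := by group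
    rw [h1, h2, h3, hθκ, hθκ']
  have hc0e : Commute c0 e := by
    rw [he]
    exact ((show Commute c0 c from hc0L c hcX).mul_right (hc0K κ hκX)).mul_right (hc0K' κ' hκX')
  have heA : ∀ a ∈ A, e * a = a * e := by
    rw [he]
    exact cent_mul (cent_mul (fun a ha => xx_A h hA hL hdL hd hcX ha)
      (fun a ha => xx_A h hA hK hgK hg hκX ha)) (fun a ha => xx_A h hA hK' hgK' hg' hκX' ha)
  -- `k = c0 e`
  obtain ⟨k, hk⟩ : ∃ k, k = c0 * e := ⟨_, rfl⟩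
  have hkA : ∀ a ∈ A, k * a = a * k := by rw [hk]; exact cent_mul hc0A heA
  have hsk : s * k * s⁻¹ = k := by
    calc s * k * s⁻¹ = (s * c0 * s⁻¹) * (s * e * s⁻¹) := by rw [hk]; group
      _ = c0⁻¹ * (c0 * c0 * e) := by rw [hsc0, hse]
      _ = k := by rw [hk]; group
  have hkB : k ∈ normalizer (B : Set G) := by
    apply hCB
    rw [mem_centralizer_singleton_iff, ← hs]
    exact (mul_inv_eq_iff_eq_mul.mp hsk).symm
  have hkk : k * k = s * c * s⁻¹ * c := by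
    have h1 : k * k = (s * e * s⁻¹) * e := by
      calc k * k = c0 * (e * c0) * e := by rw [hk]; group
        _ = c0 * c0 * e * e := by rw [← hc0e.eq]; group
        _ = _ := by rw [hse]
    have h2 : s * e * s⁻¹ = (s * c * s⁻¹) * κ⁻¹ * κ'⁻¹ := by
      calc s * e * s⁻¹ = (s * c * s⁻¹) * (s * κ * s⁻¹) * (s * κ' * s⁻¹) := by rw [he]; group
        _ = _ := by rw [hsκ, hsκ']
    rw [h1, h2, he]
    calc (s * c * s⁻¹) * κ⁻¹ * κ'⁻¹ * (c * κ * κ') = (s * c * s⁻¹) * (κ⁻¹ * (κ'⁻¹ * c) * κ * κ') := by group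
      _ = (s * c * s⁻¹) * (κ⁻¹ * c * (κ'⁻¹ * κ) * κ') := by
        rw [(kK'L ((XX U K').inv_mem hκX') hcX).eq]; group
      _ = (s * c * s⁻¹) * (c * κ⁻¹ * (κ * κ'⁻¹) * κ') := by
        rw [(kKL ((XX U K).inv_mem hκX) hcX).eq, (kKK' hκX ((XX U K').inv_mem hκX')).eq]
      _ = _ := by group
  -- `k` commutes with `zz N2`
  obtain ⟨s2, hs2⟩ : ∃ s2, s2 = zz N2 := ⟨_, rfl⟩
  rw [← hs2] at hs2B hs2A hsg2
  have hks2 : k * s2 = s2 * k := by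
    have h1 : k * s2 * k⁻¹ * s2⁻¹ ∈ B := B.mul_mem ((mem_normalizer_iff.mp hkB s2).mp hs2B) (B.inv_mem hs2B)
    have h2 : ∀ a ∈ A, (k * (s2 * k⁻¹ * s2⁻¹)) * a = a * (k * (s2 * k⁻¹ * s2⁻¹)) :=
      cent_mul hkA (cent_conj hs2A (cent_inv hkA))
    have h3 : k * (s2 * k⁻¹ * s2⁻¹) = k * s2 * k⁻¹ * s2⁻¹ := by group
    rw [h3] at h2
    have h4 := hcb _ h1 h2
    rw [mul_inv_eq_one, mul_inv_eq_iff_eq_mul] at h4
    exact h4
  -- `K2`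
  obtain ⟨y2, hy2, hy2X⟩ := h.exists_y hK2
  have hkK2 : k ∈ normalizer (K2 : Set G) := norm_of_cent h hK2 hgK2 hg2 hkA
  have hηX := h.dif_mem hK2 hkK2 hy2 hy2X
  obtain ⟨hζX, -⟩ := inv_y h hN2 hK2 hgK2 hg2.2.1 (by rw [← hs2]; exact hsg2) hy2 hy2X
  rw [← hs2] at hζX
  obtain ⟨η, hη⟩ : ∃ η, η = (k * y2 * k⁻¹)⁻¹ * y2 := ⟨_, rfl⟩
  obtain ⟨ζ, hζ⟩ : ∃ ζ, ζ = (s2 * y2 * s2⁻¹)⁻¹ * y2 := ⟨_, rfl⟩
  rw [← hη] at hηX
  rw [← hζ] at hζX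
  have hky : k * y2 * k⁻¹ = y2 * η⁻¹ := by rw [hη]; group
  have hs2y : s2 * y2 * s2⁻¹ = y2 * ζ⁻¹ := by rw [hζ]; group
  have hs2η : s2 * η * s2⁻¹ = η⁻¹ := by
    rw [hs2]; exact inv_xx h hN2 hK2 hgK2 hg2.2.1 (by rw [← hs2]; exact hsg2) hηX
  have hkX : ∀ x ∈ XX U K2, Commute k x := by
    intro x hx
    have h1 : Commute c0 x := hc0K2 x hx
    have h2 : Commute c x := xx_comm h hA hL hdL hd hK2 hgK2 hg2 hcX hx
    have h3 : Commute κ x := xx_comm h hA hK hgK hg hK2 hgK2 hg2 hκX hx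
    have h4 : Commute κ' x := xx_comm h hA hK' hgK' hg' hK2 hgK2 hg2 hκX' hx
    rw [hk, he]
    exact h1.mul_left ((h2.mul_left h3).mul_left h4)
  have hηη : η * η = 1 := by
    have e1 : s2 * (k * y2 * k⁻¹) * s2⁻¹ = y2 * ζ⁻¹ * η := by
      calc s2 * (k * y2 * k⁻¹) * s2⁻¹ = (s2 * y2 * s2⁻¹) * (s2 * η * s2⁻¹)⁻¹ := by rw [hky]; group
        _ = _ := by rw [hs2y, hs2η, inv_inv]
    have e2 : k * (s2 * y2 * s2⁻¹) * k⁻¹ = y2 * η⁻¹ * ζ⁻¹ := by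
      calc k * (s2 * y2 * s2⁻¹) * k⁻¹ = (k * y2 * k⁻¹) * (k * ζ⁻¹ * k⁻¹) := by rw [hs2y]; group
        _ = y2 * η⁻¹ * ζ⁻¹ := by
          rw [hky, (hkX _ ((XX U K2).inv_mem hζX)).eq, mul_inv_cancel_right]
    have e3 : s2 * (k * y2 * k⁻¹) * s2⁻¹ = k * (s2 * y2 * s2⁻¹) * k⁻¹ := by
      calc s2 * (k * y2 * k⁻¹) * s2⁻¹ = (s2 * k) * y2 * (s2 * k)⁻¹ := by group
        _ = (k * s2) * y2 * (k * s2)⁻¹ := by rw [hks2]
        _ = _ := by group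
    rw [e1, e2, mul_assoc, mul_assoc] at e3
    have e4 := mul_left_cancel e3
    have e5 : η⁻¹ * ζ⁻¹ = ζ⁻¹ * η⁻¹ :=
      xx_comm_self h hK2 ((XX U K2).inv_mem hηX) ((XX U K2).inv_mem hζX)
    rw [e5] at e4
    have e6 := mul_left_cancel e4
    nth_rewrite 1 [e6]
    exact inv_mul_cancel η
  have hkky : Commute (k * k) y2 := by
    have h1 : k * k * y2 * (k * k)⁻¹ = y2 := by
      calc k * k * y2 * (k * k)⁻¹ = k * (k * y2 * k⁻¹) * k⁻¹ := by group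
        _ = k * (y2 * η⁻¹) * k⁻¹ := by rw [hky]
        _ = (k * y2 * k⁻¹) * (k * η⁻¹ * k⁻¹) := by group
        _ = y2 * η⁻¹ * η⁻¹ := by rw [hky, (hkX _ ((XX U K2).inv_mem hηX)).eq, mul_inv_cancel_right]
        _ = y2 * (η * η)⁻¹ := by group
        _ = y2 := by rw [hηη]; group
    exact mul_inv_eq_iff_eq_mul.mp h1
  -- `g * g` is a power of `k * k`
  obtain ⟨i, hi⟩ := gen_of_odd h hL hcX hcodd (h.U_le_XX hL hdL)
  have hscc : Commute (s * c * s⁻¹) c := by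
    rw [hsc]
    exact ((kK'L hθX' hcX).mul_left ((kKL hθX hcX).mul_left (Commute.refl c)))
  have hgk : (k * k) ^ i = g * g := by
    rw [hkk, hscc.mul_zpow, conj_zpow, ← hi, hrel]
  have hyg : Commute (g * g) y2 := by
    rw [← hgk]
    exact hkky.zpow_left i
  have h1 := h.al_spec hA hK2 hgK2 hg2.2.1 hg2.1 hy2 hy2X (A.mul_mem hg.1 hg.1)
  rw [← hyg.eq, mul_inv_cancel_right, h.al_sq hA hg2 hg.1] at h1
  have h2 : pw g2 (-(2 * al Om U g2 g)) = pw g2 0 := by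
    rw [pw_zero]
    exact (left_eq_mul.mp h1)
  have h3 := pw_inj hg2.2.1 h2
  revert h20 h22 h3
  generalize al Om U g2 g = j
  revert j
  decide

end Cfsg.Agent.Cit.Nil.CV.Dead
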