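import Cfsg.Agent.Cit.Nil.CV3.NoS
import Cfsg.Agent.Cit.CloEnd
import Cfsg.Agent.WeakTI.PslTwo

/-!
# (CV), the end (4b)(2): transfer in `F = F*(G)` (S1309)

`F` is normal and perfect, all involutions of `F` are `z_K`s, conjugate in `F`; two roots of `A` over different
`z` are linked and there are three `z`s in `A`; `C_F(z_K) ≤ N(K)`. The sign of `H = N_F(A)` on the set of
the `z`s and on the roots conjugate to a given root (six elements) is trivial on a Sylow 2-subgroup `T` of `F`;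
so `T` centralises them, and `a = v₁⁻¹ v₂ ∈ F` has `a a ≠ 1`: contradiction to Bender's list.

* `pm`, `eq_one_of_three`, `sign_of_six` : permutations;
* `EW.false_of_concl`, `EW.false_of`.
-/

set_option autoImplicit false
set_option linter.style.haveILetI false
set_option linter.unusedSectionVars false

namespace Cfsg.Agent.Cit.Nil.CV.EndF

open Subgroup Cfsg Cit Cit.CV CV3 CloEnd

open scoped commutatorElement

/-! ### Permutations -/

section perm

variable {G Γ : Type*} [Group G] [Group Γ]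

/-- conjugation on an invariant set -/
def pm (φ : Γ →* G) (X : Set G) (hX : ∀ c, ∀ x ∈ X, φ c * x * (φ c)⁻¹ ∈ X) : Γ →* Equiv.Perm X :=
  MonoidHom.toHomPerm
    { toFun := fun c x => ⟨φ c * x * (φ c)⁻¹, hX c x x.2⟩
      map_one' := by
        funext x
        refine Subtype.ext ?_
        change φ 1 * (x : G) * (φ 1)⁻¹ = x
        simp
      map_mul' := fun c d => by
        funext x
        refine Subtype.ext ?_
        change φ (c * d) * (x : G) * (φ (c * d))⁻¹ = φ c * (φ d * x * (φ d)⁻¹) * (φ c)⁻¹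
        simp [mul_assoc] }

theorem pm_apply (φ : Γ →* G) (X : Set G) (hX : ∀ c, ∀ x ∈ X, φ c * x * (φ c)⁻¹ ∈ X) (c : Γ) (x : X) :
    (pm φ X hX c x : G) = φ c * x * (φ c)⁻¹ := rfl

/-- an even 2-element on three letters is trivial -/
theorem eq_one_of_three {X : Type*} [Fintype X] [DecidableEq X] (hX : Nat.card X = 3) (σ : Equiv.Perm X)
    (hs : Equiv.Perm.sign σ = 1) {k : ℕ} (hk : σ ^ 2 ^ k = 1) : σ = 1 := by
  have h1 : Fintype.card X = 3 := by rw [← Nat.card_eq_fintype_card, hX]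
  let e : X ≃ Fin 3 := Fintype.equivFinOfCardEq h1
  have h2 : ∀ τ : Equiv.Perm (Fin 3), Equiv.Perm.sign τ = 1 → τ ^ 3 = 1 := by decide
  have h3 : (e.permCongrHom σ) ^ 3 = 1 := h2 _ (by
    rw [← hs]
    exact Equiv.Perm.sign_permCongr e σ)
  have h4 : σ ^ 3 = 1 := by
    apply e.permCongrHom.injective
    rw [map_pow, h3, map_one]
  have h5 : orderOf σ ∣ 3 := orderOf_dvd_of_pow_eq_one h4
  have h6 : orderOf σ ∣ 2 ^ k := orderOf_dvd_of_pow_eq_one hk
  have h7 : Nat.Coprime 3 (2 ^ k) := Nat.Coprime.pow_right k (by norm_num)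
  exact orderOf_eq_one_iff.mp (Nat.eq_one_of_dvd_coprimes h7 h5 h6)

/-- an involution without fixed points on six letters is odd -/
theorem sign_of_six {X : Type*} [Fintype X] [DecidableEq X] (hX : Nat.card X = 6) (σ : Equiv.Perm X)
    (h1 : ∀ x, σ (σ x) = x) (h2 : ∀ x, σ x ≠ x) : Equiv.Perm.sign σ = -1 := by
  have h3 : σ ^ 2 = 1 := by
    ext x
    rw [pow_two]
    exact h1 x
  have h4 : ∀ c ∈ σ.cycleType, c = 2 := fun c hc => Equiv.Perm.pow_prime_eq_one_iff.mp h3 c hc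
  have h5 := Multiset.eq_replicate_card.mpr h4
  have h6 : σ.cycleType.sum = 6 := by
    rw [Equiv.Perm.sum_cycleType]
    have h7 : σ.support = Finset.univ := by
      ext x
      simp [h2 x]
    rw [h7, Finset.card_univ, ← Nat.card_eq_fintype_card, hX]
  rw [h5, Multiset.sum_replicate, smul_eq_mul] at h6
  have h7 : Multiset.card σ.cycleType = 3 := by omega
  rw [Equiv.Perm.sign_of_cycleType, h5, Multiset.sum_replicate, Multiset.card_replicate, h7]
  decide

end perm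

/-! ### The end -/

variable {G : Type*} [Group G] [Finite G]
variable {Om : Set (Subgroup G)} {U : Subgroup G → Subgroup G} {A B F K L N : Subgroup G} {a e g s t v w x y z : G}

/-- the situation of (2) -/
structure EW (Om : Set (Subgroup G)) (U : Subgroup G → Subgroup G) (F A : Subgroup G) : Prop where
  cw : CW Om U
  isA : IsA Om U A
  nor : F.Normal
  sim : IsSimpleGroup F
  na : ¬ ∀ x ∈ F, ∀ y ∈ F, x * y = y * x
  nos : ∀ N ∈ Om, zz N ∈ normalizer (A : Set G) → zz N ∈ A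
  zF : ∀ K ∈ Om, zz K ∈ F
  inv : ∀ x ∈ F, x * x = 1 → x ≠ 1 → ∃ K ∈ Om, zz K = x
  con : ∀ K ∈ Om, ∀ L ∈ Om, ∃ g ∈ F, g * zz K * g⁻¹ = zz L
  nK : ∀ K ∈ Om, ∀ c ∈ F, c * zz K = zz K * c → c ∈ normalizer (K : Set G)
  lk : ∀ v ∈ RR Om U A, ∀ w ∈ RR Om U A, v * v ≠ w * w → al Om U v w ≠ 0 ∧ al Om U v w ≠ 2
  three : Nat.card {e : G // ∃ v ∈ RR Om U A, v * v = e} = 3

namespace EW

/-- a conjugation of a nontrivial element of `A` into `A` normalises `A` -/
theorem norm_of (h : CW Om U) (hA : IsA Om U A) (hz : z ∈ A) (hz1 : z ≠ 1) (hg : g * z * g⁻¹ ∈ A) :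
    g ∈ normalizer (A : Set G) := by
  rw [mem_normalizer_iff_cj]
  by_contra hne
  have h3 := h.c2 A (cj g A) hA (h.isA_cj hA g) (Ne.symm hne)
  have h4 : g * z * g⁻¹ ∈ A ⊓ cj g A := ⟨hg, conj_mem_cj hz⟩
  rw [h3, mem_bot] at h4
  exact hz1 (conj_eq_one_iff.mp h4)

variable (h : EW Om U F A)

include h

/-- the involutions of `N_F(A)` are in `A` -/
theorem mem_A (hx : x ∈ F) (hxx : x * x = 1) (hx1 : x ≠ 1) (hn : x ∈ normalizer (A : Set G)) : x ∈ A := by
  obtain ⟨K, hK, rfl⟩ := h.inv x hx hxx hx1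
  exact h.nos K hK hn

theorem good {f : F} (hf : f ∈ (normalizer (A : Set G)).subgroupOf F) (hff : f * f = 1) (hf1 : f ≠ 1) :
    Good ((normalizer (A : Set G)).subgroupOf F) f where
  mem := hf
  sq := hff
  ne := hf1
  cent := by
    intro c hc
    have h1 : (f : G) ≠ 1 := fun h2 => hf1 (Subtype.ext h2)
    have h2 : (f : G) ∈ A := h.mem_A f.2 (congrArg Subtype.val hff) h1 (mem_subgroupOf.mp hf)
    rw [mem_subgroupOf]
    refine h.cw.c1 A h.isA f h2 (congrArg Subtype.val hff) h1 ?_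
    rw [mem_centralizer_singleton_iff] at hc ⊢
    exact congrArg Subtype.val hc

theorem hTwo : HTwo ((normalizer (A : Set G)).subgroupOf F) := by
  intro f hf g hg
  have h1 : (f : G) ≠ 1 := fun h2 => hf.ne (Subtype.ext h2)
  have h2 : (f : G) ∈ A := h.mem_A f.2 (congrArg Subtype.val hf.sq) h1 (mem_subgroupOf.mp hf.mem)
  rw [mem_subgroupOf]
  refine norm_of h.cw h.isA h2 h1 ?_
  have h3 : ((g * f * g⁻¹ : F) : G) = (g : G) * f * (g : G)⁻¹ := rfl
  rw [← h3]
  refine h.mem_A (g * f * g⁻¹).2 ?_ ?_ (mem_subgroupOf.mp hg)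
  · have h4 := congrArg Subtype.val hf.sq
    change (f : G) * f = 1 at h4
    rw [h3]
    calc (g : G) * f * (g : G)⁻¹ * (g * f * (g : G)⁻¹) = g * (f * f) * (g : G)⁻¹ := by group
      _ = 1 := by rw [h4]; group
  · rw [h3]
    intro h4
    exact h1 (conj_eq_one_iff.mp h4)

theorem perfect : commutator F = ⊤ := by
  haveI := h.sim
  rcases IsSimpleGroup.eq_bot_or_eq_top_of_normal (commutator F) inferInstance with h1 | h1
  · exfalso
    apply h.na
    intro x hx y hy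
    have h2 : ⁅(⟨x, hx⟩ : F), ⟨y, hy⟩⁆ ∈ commutator F := commutator_mem_commutator (mem_top _) (mem_top _)
    rw [h1, mem_bot, commutatorElement_eq_one_iff_mul_comm] at h2
    exact congrArg Subtype.val h2
  · exact h1

/-- `H` is transitive on the `z`s of `A` -/
theorem trans (hv : v ∈ RR Om U A) (hw : w ∈ RR Om U A) :
    ∃ g ∈ F, g ∈ normalizer (A : Set G) ∧ g * (v * v) * g⁻¹ = w * w := by
  obtain ⟨K, hK, hvK, hvv⟩ := exists_zz h.cw.toCVW hv
  obtain ⟨L, hL, hwL, hww⟩ := exists_zz h.cw.toCVW hw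
  obtain ⟨g, hg, hgz⟩ := h.con K hK L hL
  refine ⟨g, hg, ?_, by rw [hvv, hww, hgz]⟩
  refine norm_of h.cw h.isA (A.mul_mem hv.1 hv.1) (ne_one_of_RR hv).2 ?_
  rw [hvv, hgz, ← hww]
  exact A.mul_mem hw.1 hw.1

/-- elements of `H` centralising `z` map the roots over `z` to themselves or the inverse -/
theorem conj_or (hv : v ∈ RR Om U A) (hg : g ∈ F) (hgv : g * (v * v) = (v * v) * g) :
    g * v * g⁻¹ = v ∨ g * v * g⁻¹ = v⁻¹ := by
  obtain ⟨K, hK, hvK, hvv⟩ := exists_zz h.cw.toCVW hv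
  exact h.cw.conj_or hK (h.nK K hK g hg (by rw [← hvv, hgv])) hvK hv.2.1

omit h

/-- the roots conjugate in `H` to `v₀` or `v₀⁻¹` -/
def YY (F A : Subgroup G) (v₀ : G) : Set G :=
  {x | ∃ g ∈ F, g ∈ normalizer (A : Set G) ∧ (x = g * v₀ * g⁻¹ ∨ x = g * v₀⁻¹ * g⁻¹)}

theorem YY_inv {v₀ : G} (hy : y ∈ YY F A v₀) : y⁻¹ ∈ YY F A v₀ := by
  obtain ⟨g, hg, hgA, h1 | h1⟩ := hy
  · exact ⟨g, hg, hgA, Or.inr (by rw [h1]; group)⟩
  · exact ⟨g, hg, hgA, Or.inl (by rw [h1]; group)⟩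

theorem YY_conj {v₀ c : G} (hc : c ∈ F) (hcA : c ∈ normalizer (A : Set G)) (hy : y ∈ YY F A v₀) :
    c * y * c⁻¹ ∈ YY F A v₀ := by
  obtain ⟨g, hg, hgA, h1 | h1⟩ := hy
  · exact ⟨c * g, F.mul_mem hc hg, mul_mem hcA hgA, Or.inl (by rw [h1]; group)⟩
  · exact ⟨c * g, F.mul_mem hc hg, mul_mem hcA hgA, Or.inr (by rw [h1]; group)⟩

include h

theorem YY_RR {v₀ : G} (hv : v₀ ∈ RR Om U A) (hy : y ∈ YY F A v₀) : y ∈ RR Om U A := by
  obtain ⟨g, hg, hgA, h1 | h1⟩ := hy
  · rw [h1]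
    exact h.cw.RR_conj hgA hv
  · rw [h1]
    exact h.cw.RR_conj hgA (CVW.RR_inv hv)

theorem YY_eq {v₀ : G} (hv : v₀ ∈ RR Om U A) (hy : y ∈ YY F A v₀) (hx : x ∈ YY F A v₀) (he : x * x = y * y) :
    x = y ∨ x = y⁻¹ := by
  have hyR := h.YY_RR hv hy
  -- `x = c y^± c⁻¹`
  obtain ⟨c, hc, hcA, h1⟩ : ∃ c ∈ F, c ∈ normalizer (A : Set G) ∧ (x = c * y * c⁻¹ ∨ x = c * y⁻¹ * c⁻¹) := by
    obtain ⟨g, hg, hgA, h1⟩ := hy
    obtain ⟨g', hg', hgA', h2⟩ := hx
    refine ⟨g' * g⁻¹, F.mul_mem hg' (F.inv_mem hg), mul_mem hgA' (inv_mem hgA), ?_⟩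
    rcases h1 with h1 | h1 <;> rcases h2 with h2 | h2
    · exact Or.inl (by rw [h1, h2]; group)
    · exact Or.inr (by rw [h1, h2]; group)
    · exact Or.inr (by rw [h1, h2]; group)
    · exact Or.inl (by rw [h1, h2]; group)
  have hy4 : y⁻¹ * y⁻¹ = y * y := by
    rw [← mul_inv_rev]
    exact inv_eq_of_mul_eq_one_left (sq_sq hyR)
  have h2 : c * (y * y) = (y * y) * c := by
    have h3 : c * (y * y) * c⁻¹ = x * x := by
      rcases h1 with h1 | h1
      · rw [h1]; group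
      · rw [h1, sq_conj, hy4]
    rw [he] at h3
    exact mul_inv_eq_iff_eq_mul.mp h3
  rcases h.conj_or hyR hc h2 with h3 | h3
  · rcases h1 with h1 | h1
    · left; rw [h1, h3]
    · right
      rw [h1]
      have h4 : c * y⁻¹ * c⁻¹ = (c * y * c⁻¹)⁻¹ := by group
      rw [h4, h3]
  · rcases h1 with h1 | h1
    · right; rw [h1, h3]
    · left
      rw [h1]
      have h4 : c * y⁻¹ * c⁻¹ = (c * y * c⁻¹)⁻¹ := by group
      rw [h4, h3, inv_inv]

theorem card_YY {v₀ : G} (hv : v₀ ∈ RR Om U A) : Nat.card (YY F A v₀) = 6 := by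
  have h1 : ∀ e : {e : G // ∃ v ∈ RR Om U A, v * v = e}, ∃ y ∈ YY F A v₀, y * y = e := by
    rintro ⟨e, w, hw, rfl⟩
    obtain ⟨g, hg, hgA, h2⟩ := h.trans hv hw
    exact ⟨g * v₀ * g⁻¹, ⟨g, hg, hgA, Or.inl rfl⟩, by rw [sq_conj, h2]⟩
  choose f hf hfe using h1
  have inv2 : ∀ {y : G}, y ∈ YY F A v₀ → y⁻¹ * y⁻¹ = y * y := fun {y} hy => by
    rw [← mul_inv_rev]
    exact inv_eq_of_mul_eq_one_left (sq_sq (h.YY_RR hv hy))
  have ne_inv : ∀ {y : G}, y ∈ YY F A v₀ → y ≠ y⁻¹ := fun {y} hy h2 => by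
    apply (ne_one_of_RR (h.YY_RR hv hy)).2
    nth_rewrite 2 [h2]
    exact mul_inv_cancel y
  let φ : {e : G // ∃ v ∈ RR Om U A, v * v = e} × Bool → YY F A v₀ :=
    fun p => ⟨bif p.2 then f p.1 else (f p.1)⁻¹, by
      cases p.2
      · exact YY_inv (hf p.1)
      · exact hf p.1⟩
  have hφ : ∀ p, (φ p : G) * φ p = p.1 := by
    rintro ⟨e, b⟩
    cases b
    · change (f e)⁻¹ * (f e)⁻¹ = e
      rw [inv2 (hf e), hfe]
    · exact hfe e
  have hb : Function.Bijective φ := by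
    constructor
    · rintro ⟨e, b⟩ ⟨e', b'⟩ hab
      have h2 : e = e' := by
        apply Subtype.ext
        have h3 := hφ ⟨e, b⟩
        rw [hab, hφ] at h3
        exact h3.symm
      subst h2
      cases b <;> cases b'
      · rfl
      · exact absurd (congrArg Subtype.val hab).symm (ne_inv (hf e))
      · exact absurd (congrArg Subtype.val hab) (ne_inv (hf e))
      · rfl
    · rintro ⟨y, hy⟩
      have hyR := h.YY_RR hv hy
      set e : {e : G // ∃ v ∈ RR Om U A, v * v = e} := ⟨y * y, y, hyR, rfl⟩ with he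
      rcases h.YY_eq hv (hf e) hy (hfe e).symm with h2 | h2
      · exact ⟨⟨e, true⟩, Subtype.ext h2.symm⟩
      · exact ⟨⟨e, false⟩, Subtype.ext h2.symm⟩
  rw [← Nat.card_eq_of_bijective φ hb, Nat.card_prod, h.three, Nat.card_eq_fintype_card, Fintype.card_bool]

/-- a Sylow 2-subgroup of `F` in `H` -/
theorem exists_sylow (hv : v ∈ RR Om U A) : ∃ S : Sylow 2 F,
    (S : Subgroup F) ≤ (normalizer (A : Set G)).subgroupOf F ∧
    ∀ x ∈ S, ∃ f, Good ((normalizer (A : Set G)).subgroupOf F) f ∧ f * x = x * f := by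
  obtain ⟨K, hK, hvK, hvv⟩ := exists_zz h.cw.toCVW hv
  have hzF : v * v ∈ F := by rw [hvv]; exact h.zF K hK
  set f : F := ⟨v * v, hzF⟩ with hf
  have hff : f * f = 1 := Subtype.ext (sq_sq hv)
  have hf1 : f ≠ 1 := fun h1 => (ne_one_of_RR hv).2 (congrArg Subtype.val h1)
  have hfM : f ∈ (normalizer (A : Set G)).subgroupOf F := by
    rw [mem_subgroupOf]
    exact le_normalizer (A.mul_mem hv.1 hv.1)
  obtain ⟨S, hfS⟩ := exists_sylow_mem hff
  have hS := (h.good hfM hff hf1).le h.hTwo S.isPGroup' hfS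
  refine ⟨S, hS, fun x hx => ?_⟩
  obtain ⟨f', hf', hf2⟩ := exists_good_of_normal (M := (normalizer (A : Set G)).subgroupOf F) (S := (S : Subgroup F))
    (E := (S : Subgroup F)) S.isPGroup' (fun h1 => hf1 (by
      have h2 : f ∈ (S : Subgroup F) := hfS
      rw [h1, mem_bot] at h2
      exact h2)) le_rfl le_normalizer (fun f hf hff hf1 => h.good (hS hf) hff hf1) hx
  exact ⟨f', hf'.1, hf2⟩

section sylow

variable {S : Sylow 2 F} (hS : (S : Subgroup F) ≤ (normalizer (A : Set G)).subgroupOf F)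
  (hx : ∀ x ∈ S, ∃ f, Good ((normalizer (A : Set G)).subgroupOf F) f ∧ f * x = x * f)

include hS hx

open Classical in
/-- the sign of `s ∈ T` on an invariant set is `1` -/
theorem sign_eq_one (X : Set G) (hX : ∀ c : (normalizer (A : Set G)).subgroupOf F, ∀ x ∈ X, F.subtype.comp
    (Subgroup.subtype _) c * x * (F.subtype.comp (Subgroup.subtype _) c)⁻¹ ∈ X) [Fintype X] {s : F} (hs : s ∈ S) :
    Equiv.Perm.sign (pm (F.subtype.comp (Subgroup.subtype _)) X hX ⟨s, hS hs⟩) = 1 :=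
  hom_eq_one h.hTwo S hS hx h.perfect (Equiv.Perm.sign.comp (pm (F.subtype.comp (Subgroup.subtype _)) X hX)) hs

/-- `T` centralises the `z`s -/
theorem comm_z {s : F} (hs : s ∈ S) (hv : v ∈ RR Om U A) : (s : G) * (v * v) = v * v * s := by
  classical
  haveI : Fintype ↑{e : G | ∃ v ∈ RR Om U A, v * v = e} := Fintype.ofFinite _
  have hX : ∀ c : (normalizer (A : Set G)).subgroupOf F, ∀ x ∈ {e : G | ∃ v ∈ RR Om U A, v * v = e},
      F.subtype.comp (Subgroup.subtype _) c * x * (F.subtype.comp (Subgroup.subtype _) c)⁻¹ ∈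
        {e : G | ∃ v ∈ RR Om U A, v * v = e} := by
    rintro ⟨c, hc⟩ _ ⟨w, hw, rfl⟩
    exact ⟨(c : G) * w * (c : G)⁻¹, h.cw.RR_conj (mem_subgroupOf.mp hc) hw, sq_conj⟩
  have h1 := h.sign_eq_one hS hx _ hX hs
  obtain ⟨k, hk⟩ := IsPGroup.iff_orderOf.1 S.isPGroup' ⟨s, hs⟩
  have h2 : (⟨s, hS hs⟩ : (normalizer (A : Set G)).subgroupOf F) ^ 2 ^ k = 1 := by
    have h3 := pow_orderOf_eq_one (⟨s, hs⟩ : (S : Subgroup F))
    rw [hk] at h3
    have h4 : s ^ 2 ^ k = 1 := by simpa using congrArg Subtype.val h3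
    exact Subtype.ext (by simpa using h4)
  have h3 := eq_one_of_three (X := ↑{e : G | ∃ v ∈ RR Om U A, v * v = e}) h.three _ h1 (k := k) (by rw [← map_pow, h2, map_one])
  have h4 := congrArg Subtype.val (DFunLike.congr_fun h3 ⟨v * v, v, hv, rfl⟩)
  exact mul_inv_eq_iff_eq_mul.mp h4

/-- `T` centralises the roots conjugate to `v₀^±` -/
theorem comm_YY {v₀ : G} (hv : v₀ ∈ RR Om U A) {s : F} (hs : s ∈ S) (hy : y ∈ YY F A v₀) :
    (s : G) * y * (s : G)⁻¹ = y := by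
  classical
  by_contra hne
  have hor : ∀ y ∈ YY F A v₀, (s : G) * y * (s : G)⁻¹ = y ∨ (s : G) * y * (s : G)⁻¹ = y⁻¹ := fun y hy =>
    h.conj_or (h.YY_RR hv hy) s.2 (h.comm_z hS hx hs (h.YY_RR hv hy))
  have ne_inv : ∀ {y : G}, y ∈ YY F A v₀ → y⁻¹ ≠ y := fun {y} hy h2 => by
    apply (ne_one_of_RR (h.YY_RR hv hy)).2
    nth_rewrite 2 [← h2]
    exact mul_inv_cancel y
  have hyR := h.YY_RR hv hy
  have hyi := (hor y hy).resolve_left hne
  have hsA : (s : G) ∈ normalizer (A : Set G) := mem_subgroupOf.mp (hS hs)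
  -- `s` inverts all
  have hall : ∀ x ∈ YY F A v₀, (s : G) * x * (s : G)⁻¹ = x⁻¹ := by
    intro x hx'
    have hxR := h.YY_RR hv hx'
    rcases hor x hx' with h1 | h1
    · exfalso
      by_cases he : x * x = y * y
      · rcases h.YY_eq hv hy hx' he with rfl | rfl
        · exact hne h1
        · apply hne
          have h2 : (s : G) * y * (s : G)⁻¹ = ((s : G) * y⁻¹ * (s : G)⁻¹)⁻¹ := by group
          rw [h2, h1, inv_inv]
      · obtain ⟨h2, h3⟩ := h.lk y hyR x hxR (fun h4 => he h4.symm)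
        have h4 := h.cw.al_conj h.isA hsA hyR hxR.1
        rw [h1, hyi, h.cw.al_neg h.isA hyR hxR.1] at h4
        revert h2 h3 h4
        generalize al Om U y x = i
        revert i
        decide
    · exact h1
  haveI : Fintype (YY F A v₀) := Fintype.ofFinite _
  have hX : ∀ c : (normalizer (A : Set G)).subgroupOf F, ∀ x ∈ YY F A v₀,
      F.subtype.comp (Subgroup.subtype _) c * x * (F.subtype.comp (Subgroup.subtype _) c)⁻¹ ∈ YY F A v₀ :=
    fun c x hx => YY_conj c.1.2 (mem_subgroupOf.mp c.2) hx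
  have h1 := h.sign_eq_one hS hx _ hX hs
  rw [sign_of_six (h.card_YY hv)] at h1
  · exact absurd h1 (by decide)
  · rintro ⟨x, hx'⟩
    apply Subtype.ext
    change (s : G) * (s * x * (s : G)⁻¹) * (s : G)⁻¹ = x
    rw [hall x hx', hall _ (YY_inv hx'), inv_inv]
  · rintro ⟨x, hx'⟩ h2
    have h3 := congrArg Subtype.val h2
    change (s : G) * x * (s : G)⁻¹ = x at h3
    rw [hall x hx'] at h3
    exact ne_inv hx' h3

end sylow

/-- **(2)** -/
theorem false_of_concl (hc : BenderType.Classify.Concl F) (hv : v ∈ RR Om U A) : False := by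
  obtain ⟨S, hS, hx⟩ := h.exists_sylow hv
  -- the second root
  obtain ⟨w, hw, hwv⟩ : ∃ w ∈ RR Om U A, w * w ≠ v * v := by
    by_contra hno
    push Not at hno
    have h1 : Nat.card {e : G // ∃ v ∈ RR Om U A, v * v = e} ≤ 1 := by
      haveI : Subsingleton {e : G // ∃ v ∈ RR Om U A, v * v = e} := by
        constructor
        rintro ⟨_, u, hu, rfl⟩ ⟨_, u', hu', rfl⟩
        exact Subtype.ext ((hno u hu).trans (hno u' hu').symm)
      exact Finite.card_le_one_iff_subsingleton.mpr this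
    rw [h.three] at h1
    omega
  obtain ⟨g, hg, hgA, hgv⟩ := h.trans hv hw
  have hgR : g * v * g⁻¹ ∈ YY F A v := ⟨g, hg, hgA, Or.inl rfl⟩
  have hvY : v ∈ YY F A v := ⟨1, F.one_mem, one_mem _, Or.inl (by group)⟩
  have hgRR := h.YY_RR hv hgR
  -- `a`
  set a : G := v⁻¹ * (g * v * g⁻¹) with ha
  have haF : a ∈ F := by
    have h1 : a = (v⁻¹ * g * v⁻¹⁻¹) * g⁻¹ := by rw [ha]; group
    rw [h1]
    exact F.mul_mem (h.nor.conj_mem _ hg _) (F.inv_mem hg)
  have haA : a ∈ A := A.mul_mem (A.inv_mem hv.1) hgRR.1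
  have haa : a * a ≠ 1 := by
    intro h1
    apply hwv
    have h2 := h.cw.comm h.isA (A.inv_mem hv.1) hgRR.1
    have h3 : a * a = (v⁻¹ * v⁻¹) * ((g * v * g⁻¹) * (g * v * g⁻¹)) := by
      calc a * a = v⁻¹ * ((g * v * g⁻¹) * v⁻¹) * (g * v * g⁻¹) := by rw [ha]; group
        _ = v⁻¹ * (v⁻¹ * (g * v * g⁻¹)) * (g * v * g⁻¹) := by rw [h2]
        _ = _ := by group
    rw [h3, sq_conj, hgv, ← mul_inv_rev, inv_mul_eq_one] at h1
    exact h1.symm
  have haS : ∀ s ∈ S, (⟨a, haF⟩ : F) * s = s * ⟨a, haF⟩ := by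
    intro s hs
    apply Subtype.ext
    change a * (s : G) = s * a
    have h1 := h.comm_YY hS hx hv hs hvY
    have h2 := h.comm_YY hS hx hv hs hgR
    symm
    apply mul_inv_eq_iff_eq_mul.mp
    calc (s : G) * a * (s : G)⁻¹ = (s * v * (s : G)⁻¹)⁻¹ * (s * (g * v * g⁻¹) * (s : G)⁻¹) := by rw [ha]; group
      _ = a := by rw [h1, h2]
  have ha4 : (⟨a, haF⟩ : F) ^ 4 = 1 := Subtype.ext (h.cw.pow_four h.isA haA)
  have hP : IsPGroup 2 (zpowers (⟨a, haF⟩ : F) ⊔ (S : Subgroup F) : Subgroup F) := by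
    refine IsPGroup.to_sup_of_normal_right' ?_ S.isPGroup' ?_
    · refine (CVW.isA_two h.isA).comap_subtype.to_le (zpowers_le.mpr ?_) (K := A.subgroupOf F)
      exact mem_subgroupOf.mpr haA
    · rw [zpowers_le, mem_normalizer_iff]
      intro x
      constructor
      · intro hx
        rw [haS x hx, mul_inv_cancel_right]
        exact hx
      · intro hx
        have h1 := haS _ hx
        have h2 : x = (⟨a, haF⟩ : F)⁻¹ * (⟨a, haF⟩ * x * (⟨a, haF⟩ : F)⁻¹) * ⟨a, haF⟩ := by group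
        rw [h2, mul_assoc, ← h1, inv_mul_cancel_left]
        exact hx
  have hSc : ∀ y ∈ S, ∀ z ∈ S, y * z = z * y := fun y hy z hz =>
    CloBen.comm_of_concl hc hP (x := ⟨a, haF⟩) (y := y) (z := z) (mem_sup_left (mem_zpowers _)) (mem_sup_right hy)
      (mem_sup_right hz) (fun h1 => haa (congrArg Subtype.val h1)) (haS y hy) (haS z hz)
  have hcm : IsMulCommutative (S : Subgroup F) := ⟨⟨fun x y => Subtype.ext (hSc x x.2 y y.2)⟩⟩
  rcases hc with ⟨E, i1, i2, ⟨n, hn, hE⟩, ⟨e⟩⟩ | ⟨E, i1, i2, m, hm, hE, ⟨e⟩⟩ |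
    ⟨E, i1, i2, n, hn, hE, ⟨e⟩⟩
  · have hchar : CharP E 2 := by
      obtain ⟨p, hp⟩ := CharP.exists E
      have hpp : p.Prime := (CharP.char_is_prime_or_zero E p).resolve_right
        (CharP.char_ne_zero_of_finite E p)
      obtain ⟨m, _, hm⟩ := FiniteField.card E p
      rw [hE] at hm
      have h1 : p ∣ 2 ^ n := by
        rw [hm]
        exact dvd_pow_self p m.ne_zero
      have h2 := (Nat.prime_dvd_prime_iff_eq hpp Nat.prime_two).mp (hpp.dvd_of_dvd_pow h1)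
      rwa [h2] at hp
    exact haa (congrArg Subtype.val (WeakTI.PslTwo.mul_self e (k := 2) (x := ⟨a, haF⟩) (by
      rw [show 2 ^ 2 = 4 by norm_num]; exact ha4)))
  · exact absurd hcm (BenderType.Classify.ty_sz_of_equiv hm hE e S).not_comm
  · exact absurd hcm (BenderType.Classify.ty_psu_of_equiv (by omega) hE e S).not_comm

theorem false_of (hB : Bend F) {H : Subgroup F} (hH : IsStronglyEmbedded H) (hv : v ∈ RR Om U A) : False :=
  h.false_of_concl (hB H hH) hv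

end EW

end Cfsg.Agent.Cit.Nil.CV.EndF
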