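import Cfsg.Agent.Cit.Nil.CV.Root

/-!
# (6b)(CV), rank at least three, section 1 of helper599's text: no component of `C(e)` over a root `v` with `al v e = 0`

`LTwo Om U A e v`  : output of the induction if `v` lies in a component `L2(q)` of `C(e)`;
`LThree Om U A e v1 v2 v3` : output of the induction if `v1, v2, v3` lie in a component `L3^e(q)` of `C(e)`;
`CVW.not_lTwo`, `CVW.not_lThree`.
-/

set_option autoImplicit false
set_option linter.style.haveILetI false
set_option linter.unusedSectionVars false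

namespace Cfsg.Agent.Cit.CV

open Subgroup Cfsg Cit Tau

variable {G : Type*} [Group G] {Om : Set (Subgroup G)} {U : Subgroup G → Subgroup G} {A K L N : Subgroup G}
  {a b e g s t u v w x y v₁ v₂ v₃ : G}

/-- `v` and `w` are linked -/
def Lk (Om : Set (Subgroup G)) (U : Subgroup G → Subgroup G) (v w : G) : Prop :=
  al Om U v w ≠ 0 ∧ al Om U v w ≠ 2

theorem lk_iff (v w : G) : Lk Om U v w ↔ al Om U v w = 1 ∨ al Om U v w = -1 := by
  unfold Lk
  generalize al Om U v w = i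
  revert i
  decide

theorem lk_iff' (v w : G) : Lk Om U v w ↔ 2 * al Om U v w = 2 := by
  unfold Lk
  generalize al Om U v w = i
  revert i
  decide

/-- output of the induction: `v ∈ L`, `L / Z(L) = L2(q)`, `L` a component of `C(e)` -/
structure LTwo (Om : Set (Subgroup G)) (U : Subgroup G → Subgroup G) (A : Subgroup G) (e v : G) : Prop where
  ex : ∃ N ∈ Om, zz N ∈ normalizer (A : Set G) ∧ zz N * e = e * zz N ∧ zz N * v * (zz N)⁻¹ = v⁻¹ ∧
    ∀ a ∈ A, a⁻¹ * (zz N * a * (zz N)⁻¹) ∈ zpowers v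
  un : ∀ w ∈ RR Om U A, al Om U w e = 0 → w * w = v * v → w = v ∨ w = v⁻¹

/-- `s` acts on `v₁, v₂, v₃` as minus the reflection in `v₁` -/
def SThree (A : Subgroup G) (v₁ v₂ v₃ : G) : Prop := ∃ s ∈ normalizer (A : Set G), s * v₁ * s⁻¹ = v₁ ∧
  s * v₂ * s⁻¹ = v₃ ∧ s * v₃ * s⁻¹ = v₂ ∧ ∀ a ∈ A, a⁻¹ * (s * a * s⁻¹) ∈ closure {v₁, v₂, v₃}

/-- output of the induction: `v₁, v₂, v₃ ∈ L`, `L / Z(L) = L3(q)` or `U3(q)`, `L` a component of `C(e)` -/
structure LThree (Om : Set (Subgroup G)) (U : Subgroup G → Subgroup G) (A : Subgroup G) (e v₁ v₂ v₃ : G) : Prop where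
  m1 : v₁ ∈ RR Om U A
  m2 : v₂ ∈ RR Om U A
  m3 : v₃ ∈ RR Om U A
  prod : v₁ * v₂ * v₃ = 1
  a12 : al Om U v₁ v₂ = -1
  a21 : al Om U v₂ v₁ = -1
  a13 : al Om U v₁ v₃ = -1
  a31 : al Om U v₃ v₁ = -1
  a23 : al Om U v₂ v₃ = -1
  a32 : al Om U v₃ v₂ = -1
  e1 : al Om U v₁ e = 0
  e2 : al Om U v₂ e = 0
  e3 : al Om U v₃ e = 0
  cl : ∀ u ∈ RR Om U A, al Om U u e = 0 → (u = v₁ ∨ u = v₁⁻¹ ∨ u = v₂ ∨ u = v₂⁻¹ ∨ u = v₃ ∨ u = v₃⁻¹) ∨
    (al Om U v₁ u = 0 ∧ al Om U v₂ u = 0 ∧ al Om U v₃ u = 0)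
  s1 : SThree A v₁ v₂ v₃
  s2 : SThree A v₂ v₃ v₁
  s3 : SThree A v₃ v₁ v₂

theorem SThree.swap (h : SThree A v₁ v₂ v₃) : SThree A v₁ v₃ v₂ := by
  obtain ⟨s, hs, h1, h2, h3, h4⟩ := h
  refine ⟨s, hs, h1, h3, h2, ?_⟩
  rwa [Set.pair_comm v₃ v₂]

namespace CVW

variable [Finite G]

theorem lk_symm (h : CVW Om U) (hA : IsA Om U A) (hv : v ∈ RR Om U A) (hw : w ∈ RR Om U A) (hl : Lk Om U v w) :
    Lk Om U w v :=
  ⟨fun hh => hl.1 (h.al_zero_symm hA hw hv hh), fun hh => hl.2 (h.al_two_symm hA hw hv hh)⟩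

/-- linked roots have different squares -/
theorem sq_ne (h : CVW Om U) (hA : IsA Om U A) (hv : v ∈ RR Om U A) (hw : w ∈ RR Om U A) (hl : Lk Om U v w) :
    v * v ≠ w * w := by
  intro hh
  have h1 := h.al_sq hA hv hv.1
  rw [hh, h.al_sq hA hv hw.1, h.al_self hA hv] at h1
  rw [lk_iff'] at hl
  rw [hl] at h1
  exact absurd h1 (by decide)

theorem sq_ne_one (hv : v ∈ RR Om U A) : v * v ≠ 1 := by
  intro h1
  have h2 := orderOf_dvd_of_pow_eq_one (by rw [pow_two, h1] : v ^ 2 = 1)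
  rw [hv.2.1] at h2
  exact absurd (Nat.le_of_dvd (by norm_num) h2) (by norm_num)

theorem sq_inv (hv : v ∈ RR Om U A) : v⁻¹ * v⁻¹ = v * v := by
  have h1 : v ^ 4 = 1 := by rw [← hv.2.1]; exact pow_orderOf_eq_one v
  have h2 : v⁻¹ * v⁻¹ = v * v * (v ^ 4)⁻¹ := by group
  rw [h2, h1, inv_one, mul_one]

theorem rf_fix (h0 : al Om U v a = 0) : rf Om U v a = a := by rw [rf, h0, neg_zero, pw_zero, mul_one]

theorem rf_rf (h : CVW Om U) (hA : IsA Om U A) (hv : v ∈ RR Om U A) (ha : a ∈ A) : rf Om U v (rf Om U v a) = a := by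
  rw [rf, h.al_rf_left hA hv hv ha, h.al_self hA hv, rf, mul_assoc, ← pw_add hv.2.1]
  have : ∀ i : ZMod 4, -i + -(i - i * 2) = 0 := by decide
  rw [this, pw_zero, mul_one]

/-- `al` of a reflected root -/
theorem al_rf' (h : CVW Om U) (hA : IsA Om U A) (hv : v ∈ RR Om U A) (hw : w ∈ RR Om U A) (ha : a ∈ A) :
    al Om U (rf Om U v w) a = al Om U w a - al Om U v a * al Om U w v := by
  have h1 := h.al_rf hA hv hw (rf_mem_A hv ha)
  rw [h.rf_rf hA hv ha, h.al_rf_left hA hv hw ha] at h1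
  exact h1

/-- the square of a reflected root -/
theorem sq_rf (h : CVW Om U) (hA : IsA Om U A) (hv : v ∈ RR Om U A) (hw : w ∈ RR Om U A) (hl : Lk Om U v w) :
    rf Om U v w * rf Om U v w = w * w * (v * v) := by
  have h1 : rf Om U v w * rf Om U v w = w * w * (pw v (-al Om U v w) * pw v (-al Om U v w)) := by
    rw [rf]
    have h2 := h.comm hA (pw_mem hv.1 (-al Om U v w)) hw.1
    calc w * pw v (-al Om U v w) * (w * pw v (-al Om U v w)) = w * (pw v (-al Om U v w) * w) * pw v (-al Om U v w) := by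
          group
      _ = _ := by rw [h2]; group
  rw [h1, sq_pw hv.2.1]
  have h3 : 2 * -al Om U v w = 2 := by
    rw [lk_iff'] at hl
    rw [mul_neg, hl]; decide
  rw [h3, pw_two]

theorem pw_odd_sq (hv : v ∈ RR Om U A) {i : ZMod 4} (hi : i = 1 ∨ i = -1) : pw v i * pw v i = v * v := by
  rw [sq_pw hv.2.1, ← pw_two]
  rcases hi with rfl | rfl
  · rw [mul_one]
  · congr 1

/-- **G2 bonds**: if `al w v = - al v w` there is a further root over `v²` with the same zeros on involutions -/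
theorem gTwo (h : CVW Om U) (hA : IsA Om U A) (hv : v ∈ RR Om U A) (hw : w ∈ RR Om U A) (hl : Lk Om U v w)
    (hg : al Om U w v = -al Om U v w) :
    ∃ t ∈ RR Om U A, t * t = v * v ∧ t ≠ v ∧ t ≠ v⁻¹ ∧ (∀ a ∈ A, al Om U v a = 0 → a * a = 1 → al Om U t a = 0) ∧
      ∀ u ∈ RR Om U A, Lk Om U u v → Lk Om U u t := by
  have hm := h.rf_mem hA hv hw
  set m := rf Om U v w with hmdef
  have ht := h.rf_mem hA hw hm
  set t := rf Om U w m with htdef
  have hlw := h.lk_symm hA hv hw hl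
  -- values
  have h1 : al Om U w m = -1 := by
    rw [hmdef, h.al_rf_left hA hv hw hw.1, h.al_self hA hw, hg]
    rw [lk_iff] at hl
    rcases hl with hl | hl <;> rw [hl] <;> decide
  have h2 : t = w * w * pw v (-al Om U v w) := by
    rw [htdef, rf, h1, neg_neg, pw_one, hmdef, rf]
    calc w * pw v (-al Om U v w) * w = w * (pw v (-al Om U v w) * w) := by group
      _ = w * w * pw v (-al Om U v w) := by rw [h.comm hA (pw_mem hv.1 _) hw.1]; group
  have hodd : -al Om U v w = 1 ∨ -al Om U v w = -1 := by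
    rw [lk_iff] at hl
    rcases hl with hl | hl <;> rw [hl] <;> decide
  have hww4 : w * w * (w * w) = 1 := by
    have h3 : w ^ 4 = 1 := by rw [← hw.2.1]; exact pow_orderOf_eq_one w
    have h4 : w * w * (w * w) = w ^ 4 := by simp [pow_succ, mul_assoc]
    rw [h4, h3]
  have hsqt : t * t = v * v := by
    rw [h2]
    have h3 := h.comm hA (pw_mem hv.1 (-al Om U v w)) (A.mul_mem hw.1 hw.1)
    calc w * w * pw v (-al Om U v w) * (w * w * pw v (-al Om U v w)) =
          w * w * (pw v (-al Om U v w) * (w * w)) * pw v (-al Om U v w) := by group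
      _ = (w * w * (w * w)) * (pw v (-al Om U v w) * pw v (-al Om U v w)) := by rw [h3]; group
      _ = v * v := by rw [hww4, one_mul, pw_odd_sq hv hodd]
  have hsq := h.sq_ne hA hv hw hl
  have hne : ∀ i : ZMod 4, (i = 1 ∨ i = -1) → t ≠ pw v i := by
    intro i hi hh
    rw [h2] at hh
    have h3 : w * w = pw v (i - -al Om U v w) := by
      rw [sub_eq_add_neg, pw_add hv.2.1, pw_neg hv.2.1 (-al Om U v w)]
      exact eq_mul_inv_of_mul_eq hh
    have h4 : ∀ i j : ZMod 4, (i = 1 ∨ i = -1) → (j = 1 ∨ j = -1) → i - j = 0 ∨ i - j = 2 := by decide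
    rcases h4 i _ hi hodd with h5 | h5
    · rw [h5, pw_zero] at h3
      exact sq_ne_one hw h3
    · rw [h5, pw_two] at h3
      exact hsq h3.symm
  refine ⟨t, ht, hsqt, ?_, ?_, ?_, ?_⟩
  · intro hh
    exact hne 1 (Or.inl rfl) (by rw [hh, pw_one])
  · intro hh
    exact hne (-1) (Or.inr rfl) (by rw [hh, pw_neg_one hv.2.1])
  · intro a ha hva ha2
    rw [htdef, h.al_rf' hA hw hm ha, hmdef, h.al_rf' hA hv hw ha, hva, h.al_rf' hA hv hw hw.1]
    have h3 := h.al_sq hA hw ha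
    rw [ha2, h.al_one hA hw] at h3
    rw [h.al_self hA hw, hg]
    rw [lk_iff] at hl
    generalize al Om U w a = i at *
    rcases hl with hl | hl <;> rw [hl] <;> revert i <;> decide
  · intro u hu huv
    rw [lk_iff] at huv ⊢
    rw [h2, h.al_mul hA hu (A.mul_mem hw.1 hw.1) (pw_mem hv.1 _), h.al_pw hA hu hv.1, h.al_sq hA hu hw.1]
    generalize al Om U u w = i at *
    rcases huv with huv | huv <;> rcases hodd with hodd | hodd <;> rw [huv, hodd] <;> revert i <;> decide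

/-- **(1a)** -/
theorem not_lTwo (h : CVW Om U) (hA : IsA Om U A) (hv : v ∈ RR Om U A) (hw : w ∈ RR Om U A) (hl : Lk Om U v w)
    (he : e ∈ A) (hve : al Om U v e = 0) (hL : LTwo Om U A e v) (he2 : e * e = 1) : False := by
  obtain ⟨N, hN, hsA, hse, hsv, hsa⟩ := hL.ex
  have hv4 := hv.2.1
  have hlw := h.lk_symm hA hv hw hl
  -- the bond is symmetric
  have hsym : al Om U w v = al Om U v w := by
    rcases h.al_odd_symm hA hv hw hl.1 hl.2 with h1 | h1
    · exact h1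
    · exfalso
      obtain ⟨t, ht, htt, ht1, ht2, hte, -⟩ := h.gTwo hA hv hw hl h1
      rcases hL.un t ht (hte e he hve he2) htt with h2 | h2
      · exact ht1 h2
      · exact ht2 h2
  set s := zz N with hs
  set α := al Om U v w with hα
  have hα1 : α = 1 ∨ α = -1 := (lk_iff _ _).mp hl
  -- the action on `w`
  have hw' := h.RR_conj hsA hw
  set w' := s * w * s⁻¹ with hw'def
  obtain ⟨j, hj⟩ := exists_pw hv4 (hsa w hw.1)
  have hj' : w' = w * pw v j := by rw [← hj, hw'def]; group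
  have hinv := h.al_inverted hA hsA hv hsv hw.1
  rw [← hw'def, hj', h.al_mul hA hv hw.1 (pw_mem hv.1 _), h.al_pw hA hv hv.1, h.al_self hA hv, ← hα] at hinv
  obtain ⟨-, -, hn3, -⟩ := h.inverted hA hN hsA hv hw hl.1 hl.2 hsv
  have hjα : j = α := by
    have h1 : j = α ∨ j = -α := by
      clear hn3 hj hj'
      generalize α = i at *
      revert hinv
      rcases hα1 with rfl | rfl <;> revert j <;> decide
    rcases h1 with h1 | h1
    · exact h1
    · exact absurd (by rw [← hw'def, hj', h1, rf]) hn3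
  rw [hjα] at hj'
  -- `t = w v²`, `h = rf v w`, `g' = rf h t`
  have hh := h.rf_mem hA hv hw
  set m := rf Om U v w with hm
  have ht := h.rf_mem hA hv hw'
  set t := rf Om U v w' with htdef
  have hg := h.rf_mem hA hh ht
  set g' := rf Om U m t with hgdef
  have hvw' : al Om U v w' = -α := by
    rw [hj', h.al_mul hA hv hw.1 (pw_mem hv.1 _), h.al_pw hA hv hv.1, h.al_self hA hv, ← hα]
    rcases hα1 with h1 | h1 <;> rw [h1] <;> decide
  have hmt : al Om U m t = -1 := by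
    rw [hm, htdef, h.al_rf hA hv hw hw'.1, hj', h.al_mul hA hw hw.1 (pw_mem hv.1 _), h.al_pw hA hw hv.1,
      h.al_self hA hw, hsym]
    rcases hα1 with h1 | h1 <;> rw [h1] <;> decide
  -- `g' = w² v^α`
  have hgeq : g' = w * w * pw v α := by
    have h1 : t = w * pw v (2 * α) := by
      rw [htdef, rf, hvw', neg_neg, hj', mul_assoc, ← pw_add hv4, two_mul]
    rw [hgdef, rf, hmt, neg_neg, pw_one, h1, hm, rf, ← hα]
    have h2 := h.comm hA (pw_mem hv.1 (2 * α)) hw.1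
    calc w * pw v (2 * α) * (w * pw v (-α)) = w * (pw v (2 * α) * w) * pw v (-α) := by group
      _ = w * w * (pw v (2 * α) * pw v (-α)) := by rw [h2]; group
      _ = w * w * pw v α := by
        rw [← pw_add hv4]
        congr 2
        ring
  have hww4 : w * w * (w * w) = 1 := by
    have h3 : w ^ 4 = 1 := by rw [← hw.2.1]; exact pow_orderOf_eq_one w
    have h4 : w * w * (w * w) = w ^ 4 := by simp [pow_succ, mul_assoc]
    rw [h4, h3]
  have hgsq : g' * g' = v * v := by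
    rw [hgeq]
    have h3 := h.comm hA (pw_mem hv.1 α) (A.mul_mem hw.1 hw.1)
    calc w * w * pw v α * (w * w * pw v α) = w * w * (pw v α * (w * w)) * pw v α := by group
      _ = (w * w * (w * w)) * (pw v α * pw v α) := by rw [h3]; group
      _ = v * v := by rw [hww4, one_mul, pw_odd_sq hv hα1]
  -- the value at `e`
  have hes : s * e * s⁻¹ = e := by rw [hse, mul_inv_cancel_right]
  have hκ : al Om U w' e = al Om U w e := by
    have h1 := h.al_conj hA hsA hw he
    rwa [hes, ← hw'def] at h1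
  have hte : al Om U t e = al Om U w e := by
    rw [htdef, h.al_rf' hA hv hw' he, hve, zero_mul, sub_zero, hκ]
  have hme : al Om U m e = al Om U w e := by
    rw [hm, h.al_rf' hA hv hw he, hve, zero_mul, sub_zero]
  have hge : al Om U g' e = 0 := by
    rw [hgdef, h.al_rf' hA hh ht he, hte, hme]
    have h1 : Lk Om U m t := by rw [lk_iff]; right; exact hmt
    have h2 := (lk_iff' _ _).mp (h.lk_symm hA hh ht h1)
    have h3 := h.al_of_sq hA hw he he2
    generalize al Om U t m = i at *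
    rcases h3 with h3 | h3 <;> rw [h3] <;> revert h2 <;> revert i <;> decide
  have hsq := h.sq_ne hA hv hw hl
  have hne : ∀ i : ZMod 4, (i = 1 ∨ i = -1) → g' ≠ pw v i := by
    intro i hi hh
    rw [hgeq] at hh
    have h3 : w * w = pw v (i - α) := by
      rw [sub_eq_add_neg, pw_add hv4, pw_neg hv4 α]
      exact eq_mul_inv_of_mul_eq hh
    have h4 : ∀ i j : ZMod 4, (i = 1 ∨ i = -1) → (j = 1 ∨ j = -1) → i - j = 0 ∨ i - j = 2 := by decide
    rcases h4 i _ hi hα1 with h5 | h5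
    · rw [h5, pw_zero] at h3
      exact sq_ne_one hw h3
    · rw [h5, pw_two] at h3
      exact hsq h3.symm
  rcases hL.un g' hg hge hgsq with h1 | h1
  · exact hne 1 (Or.inl rfl) (by rw [h1, pw_one])
  · exact hne (-1) (Or.inr rfl) (by rw [h1, pw_neg_one hv4])

end CVW

/-! ### `L3^e(q)` -/

theorem set_rot (v₁ v₂ v₃ : G) : ({v₁, v₂, v₃} : Set G) = {v₂, v₃, v₁} := by
  ext x; simp only [Set.mem_insert_iff, Set.mem_singleton_iff]; tauto

namespace LThree

variable [Finite G]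

theorem rot (l : LThree Om U A e v₁ v₂ v₃) (h : CVW Om U) (hA : IsA Om U A) : LThree Om U A e v₂ v₃ v₁ where
  m1 := l.m2
  m2 := l.m3
  m3 := l.m1
  prod := by
    rw [← l.prod, h.comm hA (A.mul_mem l.m2.1 l.m3.1) l.m1.1, mul_assoc]
  a12 := l.a23
  a21 := l.a32
  a13 := l.a21
  a31 := l.a12
  a23 := l.a31
  a32 := l.a13
  e1 := l.e2
  e2 := l.e3
  e3 := l.e1
  cl u hu h0 := by
    have := l.cl u hu h0
    tauto
  s1 := l.s2
  s2 := l.s3
  s3 := l.s1

theorem swap (l : LThree Om U A e v₁ v₂ v₃) (h : CVW Om U) (hA : IsA Om U A) : LThree Om U A e v₁ v₃ v₂ where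
  m1 := l.m1
  m2 := l.m3
  m3 := l.m2
  prod := by
    rw [← l.prod, mul_assoc, h.comm hA l.m3.1 l.m2.1, mul_assoc]
  a12 := l.a13
  a21 := l.a31
  a13 := l.a12
  a31 := l.a21
  a23 := l.a32
  a32 := l.a23
  e1 := l.e1
  e2 := l.e3
  e3 := l.e2
  cl u hu h0 := by
    have := l.cl u hu h0
    tauto
  s1 := l.s1.swap
  s2 := l.s3.swap
  s3 := l.s2.swap

variable (l : LThree Om U A e v₁ v₂ v₃) (h : CVW Om U) (hA : IsA Om U A)
include l h hA

theorem three_eq : v₃ = v₂⁻¹ * v₁⁻¹ := by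
  have := l.prod
  rw [← mul_inv_rev]
  exact eq_inv_of_mul_eq_one_right this

/-- the three functions have sum zero -/
theorem sum (ha : a ∈ A) : al Om U v₁ a + al Om U v₂ a + al Om U v₃ a = 0 := by
  -- `v₃⁻¹ = rf v₁ v₂`
  have h1 : rf Om U v₁ v₂ = v₃⁻¹ := by
    rw [rf, l.a12, neg_neg, pw_one, l.three_eq h hA, mul_inv_rev, inv_inv, inv_inv, h.comm hA l.m2.1 l.m1.1]
  have h2 := h.al_rf' hA l.m1 l.m2 ha
  rw [h1, h.al_neg hA l.m3 ha, l.a21] at h2
  linear_combination -h2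

/-- symmetric bonds at `v₁` -/
theorem symm_bond (he : e ∈ A) (he2 : e * e = 1) {n : G} (hn : n ∈ RR Om U A) (hl : Lk Om U v₁ n) :
    al Om U n v₁ = al Om U v₁ n := by
  rcases h.al_odd_symm hA l.m1 hn hl.1 hl.2 with h1 | h1
  · exact h1
  exfalso
  obtain ⟨t, ht, htt, ht1, ht2, hte, htl⟩ := h.gTwo hA l.m1 hn hl h1
  have h3 := hte e he l.e1 he2
  have h12 : Lk Om U v₁ v₂ := (lk_iff _ _).mpr (Or.inr l.a12)
  have h21 : Lk Om U v₂ v₁ := (lk_iff _ _).mpr (Or.inr l.a21)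
  have h31 : Lk Om U v₃ v₁ := (lk_iff _ _).mpr (Or.inr l.a31)
  have h4 := htl v₂ l.m2 h21
  rcases l.cl t ht h3 with (h5 | h5 | h5 | h5 | h5 | h5) | h5
  · exact ht1 h5
  · exact ht2 h5
  · rw [h5] at htt; exact h.sq_ne hA l.m2 l.m1 h21 htt
  · rw [h5, CVW.sq_inv l.m2] at htt; exact h.sq_ne hA l.m2 l.m1 h21 htt
  · rw [h5] at htt; exact h.sq_ne hA l.m3 l.m1 h31 htt
  · rw [h5, CVW.sq_inv l.m3] at htt; exact h.sq_ne hA l.m3 l.m1 h31 htt
  · exact h4.1 h5.2.1

/-- the elements of `⟨v₁, v₂, v₃⟩` -/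
theorem exists_mul {b : G} (hb : b ∈ closure {v₁, v₂, v₃}) : ∃ i j : ZMod 4, b = pw v₁ i * pw v₂ j := by
  have key : ∀ b ∈ closure {v₁, v₂, v₃}, b ∈ A ∧ ∃ i j : ZMod 4, b = pw v₁ i * pw v₂ j := by
    intro b hb
    induction hb using closure_induction'' with
    | mem x hx =>
      rcases hx with rfl | rfl | rfl
      · exact ⟨l.m1.1, 1, 0, by simp⟩
      · exact ⟨l.m2.1, 0, 1, by simp⟩
      · refine ⟨l.m3.1, -1, -1, ?_⟩
        rw [pw_neg_one l.m1.2.1, pw_neg_one l.m2.2.1, l.three_eq h hA,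
          h.comm hA (A.inv_mem l.m2.1) (A.inv_mem l.m1.1)]
    | inv_mem x hx =>
      rcases hx with rfl | rfl | rfl
      · exact ⟨A.inv_mem l.m1.1, -1, 0, by simp [pw_neg_one l.m1.2.1]⟩
      · exact ⟨A.inv_mem l.m2.1, 0, -1, by simp [pw_neg_one l.m2.2.1]⟩
      · refine ⟨A.inv_mem l.m3.1, 1, 1, ?_⟩
        rw [pw_one, pw_one, l.three_eq h hA, mul_inv_rev, inv_inv, inv_inv]
    | one => exact ⟨A.one_mem, 0, 0, by simp⟩
    | mul x y _ _ hx hy =>
      obtain ⟨hxA, i, j, rfl⟩ := hx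
      obtain ⟨hyA, i', j', rfl⟩ := hy
      refine ⟨A.mul_mem hxA hyA, i + i', j + j', ?_⟩
      rw [pw_add l.m1.2.1, pw_add l.m2.2.1]
      have h1 := h.comm hA (pw_mem l.m2.1 j) (pw_mem l.m1.1 i')
      calc pw v₁ i * pw v₂ j * (pw v₁ i' * pw v₂ j') = pw v₁ i * (pw v₂ j * pw v₁ i') * pw v₂ j' := by group
        _ = _ := by rw [h1]; group
  exact (key b hb).2

/-- (i) a root orthogonal to `v₁` and linked to `v₂` has the square of `v₁` -/
theorem sq_eq {n : G} (hn : n ∈ RR Om U A) (h1 : al Om U v₁ n = 0) (h2 : Lk Om U v₂ n) : n * n = v₁ * v₁ := by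
  obtain ⟨s, hsA, s1, s2, s3, hsa⟩ := l.s1
  obtain ⟨i, j, hij⟩ := l.exists_mul h hA (hsa n hn.1)
  have hb : pw v₁ i * pw v₂ j ∈ A := A.mul_mem (pw_mem l.m1.1 _) (pw_mem l.m2.1 _)
  have hsn : s * n * s⁻¹ = n * (pw v₁ i * pw v₂ j) := by rw [← hij]; group
  have hsum := l.sum h hA hn.1
  have e1 := h.al_conj hA hsA l.m1 hn.1
  have e2 := h.al_conj hA hsA l.m2 hn.1
  have e3 := h.al_conj hA hsA l.m3 hn.1
  rw [s1, hsn, h.al_mul hA l.m1 hn.1 hb, h.al_mul hA l.m1 (pw_mem l.m1.1 _) (pw_mem l.m2.1 _),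
    h.al_pw hA l.m1 l.m1.1, h.al_pw hA l.m1 l.m2.1, h.al_self hA l.m1, l.a12] at e1
  rw [s2, hsn, h.al_mul hA l.m3 hn.1 hb, h.al_mul hA l.m3 (pw_mem l.m1.1 _) (pw_mem l.m2.1 _),
    h.al_pw hA l.m3 l.m1.1, h.al_pw hA l.m3 l.m2.1, l.a31, l.a32] at e2
  have hi : i = 2 ∧ j = 0 := by
    rw [h1] at hsum e1
    rw [lk_iff] at h2
    generalize al Om U v₂ n = p at *
    generalize al Om U v₃ n = q at *
    have hq : q = -p := by linear_combination hsum
    subst hq
    clear hsum hij hsn e3 hb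
    rcases h2 with rfl | rfl <;> revert i j <;> decide
  obtain ⟨rfl, rfl⟩ := hi
  rw [pw_zero, mul_one, pw_two] at hsn
  have hsR := h.RR_conj hsA hn
  -- `al n (n v₁²) = 2`
  have h4 : al Om U n (s * n * s⁻¹) = 2 := by
    rw [hsn, h.al_mul hA hn hn.1 (A.mul_mem l.m1.1 l.m1.1), h.al_self hA hn, h.al_sq hA hn l.m1.1,
      h.al_zero_symm hA l.m1 hn h1]
    decide
  rcases h.al_two hA hn hsR h4 with h5 | h5
  · rw [hsn] at h5
    exact absurd (mul_eq_left.mp h5) (CVW.sq_ne_one l.m1)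
  · rw [hsn] at h5
    have h6 : v₁ * v₁ = n⁻¹ * n⁻¹ := eq_inv_mul_of_mul_eq h5
    rw [h6, CVW.sq_inv hn]

theorem al_e_ne {n : G} (hn : n ∈ RR Om U A) (h1 : al Om U v₁ n = 0) (h2 : Lk Om U v₂ n) (he : e ∈ A)
    (he2 : e * e = 1) : al Om U n e = 2 := by
  rcases h.al_of_sq hA hn he he2 with h3 | h3
  · exfalso
    have e1 := h.al_self hA l.m1
    have e2 := l.a12
    have e3 := l.a13
    rcases l.cl n hn h3 with (h4 | h4 | h4 | h4 | h4 | h4) | h4
    · rw [h4, e1] at h1; exact absurd h1 (by decide)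
    · rw [h4, h.al_inv hA l.m1 l.m1.1, e1] at h1; exact absurd h1 (by decide)
    · rw [h4, e2] at h1; exact absurd h1 (by decide)
    · rw [h4, h.al_inv hA l.m1 l.m2.1, e2] at h1; exact absurd h1 (by decide)
    · rw [h4, e3] at h1; exact absurd h1 (by decide)
    · rw [h4, h.al_inv hA l.m1 l.m3.1, e3] at h1; exact absurd h1 (by decide)
    · exact h2.1 h4.2.1
  · exact h3

/-- (iii) -/
theorem unique_aux {p m : G} (hp : p ∈ RR Om U A) (hp1 : al Om U v₁ p = 0) (hp2 : Lk Om U v₂ p)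
    (hm : m ∈ RR Om U A) (hm1 : al Om U v₁ m = 0) (hm2 : Lk Om U v₂ m) (he : e ∈ A) (he2 : e * e = 1) :
    m = rf Om U (rf Om U v₂ p) v₂ ∨ m = (rf Om U (rf Om U v₂ p) v₂)⁻¹ := by
  have hQ := h.rf_mem hA l.m2 hp
  have hf1 : al Om U v₁ (rf Om U v₂ p) = al Om U v₂ p := by
    rw [h.al_rf_left hA l.m2 l.m1 hp.1, hp1, l.a12]; ring
  have hQe : al Om U (rf Om U v₂ p) e = 2 := by
    rw [h.al_rf' hA l.m2 hp he, l.e2, zero_mul, sub_zero, l.al_e_ne h hA hp hp1 hp2 he he2]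
  have hQsq := h.sq_rf hA l.m2 hp hp2
  set Q := rf Om U v₂ p with hQdef
  have hl1 : Lk Om U v₁ Q := by unfold Lk; rw [hf1]; exact hp2
  have hlQ1 := h.lk_symm hA l.m1 hQ hl1
  have hmm := l.sq_eq h hA hm hm1 hm2
  have hpp := l.sq_eq h hA hp hp1 hp2
  have hlQm : Lk Om U Q m := by
    rw [lk_iff'] at hlQ1 ⊢
    rw [← h.al_sq hA hQ hm.1, hmm, h.al_sq hA hQ l.m1.1, hlQ1]
  have hlmQ := h.lk_symm hA hQ hm hlQm
  have hM := h.rf_mem hA hQ hm
  have hMe : al Om U (rf Om U Q m) e = 0 := by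
    rw [h.al_rf' hA hQ hm he, l.al_e_ne h hA hm hm1 hm2 he he2, hQe, (lk_iff' _ _).mp hlmQ, sub_self]
  have hMf : al Om U v₁ (rf Om U Q m) ≠ 0 := by
    rw [h.al_rf_left hA hQ l.m1 hm.1, hm1]
    rw [lk_iff] at hl1 hlQm
    rcases hl1 with h5 | h5 <;> rcases hlQm with h6 | h6 <;> rw [h5, h6] <;> decide
  have hMsq : rf Om U Q m * rf Om U Q m = v₂ * v₂ := by
    rw [h.sq_rf hA hQ hm hlQm, hQsq, hmm, hpp]
    have h4 : v₁ ^ 4 = 1 := by rw [← l.m1.2.1]; exact pow_orderOf_eq_one v₁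
    have h5 : v₁ * v₁ * (v₁ * v₁ * (v₂ * v₂)) = v₁ ^ 4 * (v₂ * v₂) := by simp [pow_succ, mul_assoc]
    rw [h5, h4, one_mul]
  have h12 := h.sq_ne hA l.m1 l.m2 ((lk_iff _ _).mpr (Or.inr l.a12))
  have h32 := h.sq_ne hA l.m3 l.m2 ((lk_iff _ _).mpr (Or.inr l.a32))
  have hMv : rf Om U Q m = v₂ ∨ rf Om U Q m = v₂⁻¹ := by
    rcases l.cl _ hM hMe with (h4 | h4 | h4 | h4 | h4 | h4) | h4
    · rw [h4] at hMsq; exact absurd hMsq h12
    · rw [h4, CVW.sq_inv l.m1] at hMsq; exact absurd hMsq h12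
    · exact Or.inl h4
    · exact Or.inr h4
    · rw [h4] at hMsq; exact absurd hMsq h32
    · rw [h4, CVW.sq_inv l.m3] at hMsq; exact absurd hMsq h32
    · exact absurd h4.1 hMf
  have hback := h.rf_rf hA hQ hm.1
  rcases hMv with h4 | h4
  · left; rw [← hback, h4]
  · right
    rw [← hback, h4]
    rw [rf, rf, h.al_inv hA hQ l.m2.1, neg_neg, mul_inv_rev, pw_neg hQ.2.1, inv_inv,
      h.comm hA (A.inv_mem l.m2.1) (pw_mem hQ.1 _)]

theorem unique {p n : G} (hp : p ∈ RR Om U A) (hp1 : al Om U v₁ p = 0) (hp2 : Lk Om U v₂ p)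
    (hn : n ∈ RR Om U A) (hn1 : al Om U v₁ n = 0) (hn2 : Lk Om U v₂ n) (he : e ∈ A) (he2 : e * e = 1) :
    p = n ∨ p = n⁻¹ := by
  have h1 := l.unique_aux h hA hp hp1 hp2 hn hn1 hn2 he he2
  have h2 := l.unique_aux h hA hp hp1 hp2 hp hp1 hp2 he he2
  generalize rf Om U (rf Om U v₂ p) v₂ = q at h1 h2
  rcases h1 with rfl | rfl <;> rcases h2 with rfl | rfl <;> simp

/-- (ii) -/
theorem far {p n : G} (hp : p ∈ RR Om U A) (hp1 : al Om U v₁ p = 0) (hp2 : al Om U v₂ p = 0)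
    (hn : n ∈ RR Om U A) (hn1 : al Om U v₁ n = 0) (hn2 : Lk Om U v₂ n) : al Om U n p = 0 := by
  by_contra h0
  have h2 : al Om U n p ≠ 2 := by
    intro h2
    rcases h.al_two hA hn hp h2 with h3 | h3
    · rw [h3] at hp2; exact hn2.1 hp2
    · rw [h3, h.al_inv hA l.m2 hn.1, neg_eq_zero] at hp2; exact hn2.1 hp2
  have hlp := h.lk_symm hA hn hp ⟨h0, h2⟩
  have hR := h.rf_mem hA hp hn
  have h3 : al Om U v₁ (rf Om U p n) = 0 := by
    rw [h.al_rf_left hA hp l.m1 hn.1, hn1, hp1]; ring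
  have h4 : Lk Om U v₂ (rf Om U p n) := by
    unfold Lk
    rw [h.al_rf_left hA hp l.m2 hn.1, hp2, mul_zero, sub_zero]
    exact hn2
  have h5 := l.sq_eq h hA hR h3 h4
  rw [h.sq_rf hA hp hn hlp, l.sq_eq h hA hn hn1 hn2] at h5
  exact CVW.sq_ne_one hp (mul_eq_left.mp h5)

/-- no root is orthogonal to `v₁` and linked to `v₂` -/
theorem no_near {n : G} (hn : n ∈ RR Om U A) (hn1 : al Om U v₁ n = 0) (hn2 : Lk Om U v₂ n) (he : e ∈ A)
    (he2 : e * e = 1) : False := by
  wlog hneg : al Om U v₂ n = -1 generalizing n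
  · refine this (n := n⁻¹) (CVW.RR_inv hn) ?_ ?_ ?_
    · rw [h.al_inv hA l.m1 hn.1, hn1, neg_zero]
    · rw [lk_iff] at hn2 ⊢
      rw [h.al_inv hA l.m2 hn.1]
      rcases hn2 with h1 | h1 <;> rw [h1] <;> decide
    · rw [h.al_inv hA l.m2 hn.1, (Or.resolve_right ((lk_iff _ _).mp hn2) hneg)]
  have hsn := l.sum h hA hn.1
  have hn3 : al Om U v₃ n = 1 := by
    rw [hn1, hneg] at hsn
    linear_combination hsn
  have hne := l.al_e_ne h hA hn hn1 hn2 he he2
  have l2 := l.rot h hA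
  have l3 := l2.rot h hA
  have hb1 : al Om U n v₁ = 0 := h.al_zero_symm hA l.m1 hn hn1
  have hb2 : al Om U n v₂ = -1 := by rw [l2.symm_bond h hA he he2 hn hn2, hneg]
  have hb3 : al Om U n v₃ = 1 := by
    rw [l3.symm_bond h hA he he2 hn ((lk_iff _ _).mpr (Or.inl hn3)), hn3]
  have s1 := h.al_self hA l.m1
  have s2 := h.al_self hA l.m2
  have s3 := h.al_self hA l.m3
  have sn := h.al_self hA hn
  -- the relation
  have key : ∀ a ∈ A, al Om U n a + al Om U v₁ a = 2 * al Om U v₃ a := by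
    have hinv : ∀ a ∈ A, al Om U n a + al Om U v₁ a = 2 * al Om U v₃ a →
        al Om U n a⁻¹ + al Om U v₁ a⁻¹ = 2 * al Om U v₃ a⁻¹ := by
      intro a ha h1
      rw [h.al_inv hA hn ha, h.al_inv hA l.m1 ha, h.al_inv hA l.m3 ha]
      linear_combination -h1
    have hv1 : al Om U n v₁ + al Om U v₁ v₁ = 2 * al Om U v₃ v₁ := by rw [hb1, s1, l.a31]; decide
    have hv2 : al Om U n v₂ + al Om U v₁ v₂ = 2 * al Om U v₃ v₂ := by rw [hb2, l.a12, l.a32]; decide
    have hv3 : al Om U n v₃ + al Om U v₁ v₃ = 2 * al Om U v₃ v₃ := by rw [hb3, l.a13, s3]; decide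
    have hvn : al Om U n n + al Om U v₁ n = 2 * al Om U v₃ n := by rw [sn, hn1, hn3]; decide
    have hadd : ∀ a ∈ A, ∀ b ∈ A, al Om U n a + al Om U v₁ a = 2 * al Om U v₃ a →
        al Om U n b + al Om U v₁ b = 2 * al Om U v₃ b →
        al Om U n (a * b) + al Om U v₁ (a * b) = 2 * al Om U v₃ (a * b) := by
      intro a ha b hb h1 h2
      rw [h.al_mul hA hn ha hb, h.al_mul hA l.m1 ha hb, h.al_mul hA l.m3 ha hb]
      linear_combination h1 + h2
    have hpw : ∀ a ∈ A, ∀ i : ZMod 4, al Om U n a + al Om U v₁ a = 2 * al Om U v₃ a →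
        al Om U n (pw a i) + al Om U v₁ (pw a i) = 2 * al Om U v₃ (pw a i) := by
      intro a ha i h1
      rw [h.al_pw hA hn ha, h.al_pw hA l.m1 ha, h.al_pw hA l.m3 ha]
      linear_combination i * h1
    refine CVW.exists_gen hA ?_ hadd ?_
    · rw [h.al_one hA hn, h.al_one hA l.m1, h.al_one hA l.m3]; ring
    · intro p hp
      have hpm : ∀ q ∈ A, (al Om U n q + al Om U v₁ q = 2 * al Om U v₃ q) → (p = q ∨ p = q⁻¹) →
          al Om U n p + al Om U v₁ p = 2 * al Om U v₃ p := by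
        rintro q hq h1 (rfl | rfl)
        · exact h1
        · exact hinv q hq h1
      have hsum := l.sum h hA hp.1
      by_cases c1 : al Om U v₁ p = 2
      · exact hpm v₁ l.m1.1 hv1 (h.al_two hA l.m1 hp c1)
      by_cases c2 : al Om U v₂ p = 2
      · exact hpm v₂ l.m2.1 hv2 (h.al_two hA l.m2 hp c2)
      by_cases c3 : al Om U v₃ p = 2
      · exact hpm v₃ l.m3.1 hv3 (h.al_two hA l.m3 hp c3)
      by_cases d1 : al Om U v₁ p = 0
      · by_cases d2 : al Om U v₂ p = 0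
        · have d3 : al Om U v₃ p = 0 := by rw [d1, d2] at hsum; linear_combination hsum
          rw [l.far h hA hp d1 d2 hn hn1 hn2, d1, d3]; ring
        · exact hpm n hn.1 hvn (l.unique h hA hp d1 ⟨d2, c2⟩ hn hn1 hn2 he he2)
      · by_cases d2 : al Om U v₂ p = 0
        · -- `rf v₃ p`
          have hq := h.rf_mem hA l.m3 hp
          have e1 : al Om U v₁ (rf Om U v₃ p) = 0 := by
            rw [h.al_rf_left hA l.m3 l.m1 hp.1, l.a13]
            rw [d2] at hsum
            linear_combination hsum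
          have e2 : al Om U v₂ (rf Om U v₃ p) = al Om U v₃ p := by
            rw [h.al_rf_left hA l.m3 l.m2 hp.1, l.a23, d2]; ring
          have d3 : al Om U v₃ p ≠ 0 := by
            intro d3
            apply d1
            rw [d2, d3] at hsum
            linear_combination hsum
          have hu := l.unique h hA hq e1 (by unfold Lk; rw [e2]; exact ⟨d3, c3⟩) hn hn1 hn2 he he2
          have hback := h.rf_rf hA l.m3 hp.1
          have hmem : rf Om U v₃ p = n ∨ rf Om U v₃ p = n⁻¹ := hu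
          have hrel : al Om U n (rf Om U v₃ p) + al Om U v₁ (rf Om U v₃ p) = 2 * al Om U v₃ (rf Om U v₃ p) := by
            rcases hmem with h5 | h5
            · rw [h5]; exact hvn
            · rw [h5]; exact hinv n hn.1 hvn
          rw [← hback, rf]
          exact hadd _ hq.1 _ (pw_mem l.m3.1 _) hrel (hpw v₃ l.m3.1 _ hv3)
        · by_cases d3 : al Om U v₃ p = 0
          · have hq := h.rf_mem hA l.m2 hp
            have e1 : al Om U v₁ (rf Om U v₂ p) = 0 := by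
              rw [h.al_rf_left hA l.m2 l.m1 hp.1, l.a12]
              rw [d3] at hsum
              linear_combination hsum
            have e2 : al Om U v₂ (rf Om U v₂ p) = -al Om U v₂ p := by
              rw [h.al_rf_left hA l.m2 l.m2 hp.1, s2]
              have : ∀ i : ZMod 4, i - i * 2 = -i := by decide
              exact this _
            have hlk : Lk Om U v₂ (rf Om U v₂ p) := by
              unfold Lk
              rw [e2]
              revert d2 c2
              generalize al Om U v₂ p = i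
              revert i
              decide
            have hmem := l.unique h hA hq e1 hlk hn hn1 hn2 he he2
            have hback := h.rf_rf hA l.m2 hp.1
            have hrel : al Om U n (rf Om U v₂ p) + al Om U v₁ (rf Om U v₂ p) = 2 * al Om U v₃ (rf Om U v₂ p) := by
              rcases hmem with h5 | h5
              · rw [h5]; exact hvn
              · rw [h5]; exact hinv n hn.1 hvn
            rw [← hback, rf]
            exact hadd _ hq.1 _ (pw_mem l.m2.1 _) hrel (hpw v₂ l.m2.1 _ hv2)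
          · exfalso
            generalize al Om U v₁ p = i at *
            generalize al Om U v₂ p = j at *
            generalize al Om U v₃ p = k at *
            clear hpm hpw hadd hinv
            revert i j k
            decide
  have hfin := key e he
  rw [hne, l.e1, l.e3] at hfin
  exact absurd hfin (by decide)

/-- a root linked to `v₁` is one of `v₂, v₃` up to sign -/
theorem no_link {n : G} (hn : n ∈ RR Om U A) (hl : Lk Om U v₁ n) (he : e ∈ A) (he2 : e * e = 1) :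
    n = v₂ ∨ n = v₂⁻¹ ∨ n = v₃ ∨ n = v₃⁻¹ := by
  have l2 := l.rot h hA
  have l3 := l2.rot h hA
  have hsum := l.sum h hA hn.1
  by_cases c2 : al Om U v₂ n = 2
  · rcases h.al_two hA l.m2 hn c2 with h1 | h1 <;> tauto
  by_cases c3 : al Om U v₃ n = 2
  · rcases h.al_two hA l.m3 hn c3 with h1 | h1 <;> tauto
  exfalso
  by_cases d2 : al Om U v₂ n = 0
  · refine l2.no_near h hA hn d2 ⟨?_, c3⟩ he he2
    intro d3
    apply hl.1
    rw [d2, d3] at hsum
    linear_combination hsum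
  · by_cases d3 : al Om U v₃ n = 0
    · exact l3.no_near h hA hn d3 hl he he2
    · obtain ⟨hl1, hl2⟩ := hl
      generalize al Om U v₁ n = i at *
      generalize al Om U v₂ n = j at *
      generalize al Om U v₃ n = k at *
      revert i j k
      decide

end LThree

/-- every component has rank at least three -/
def RkThree (Om : Set (Subgroup G)) (U : Subgroup G → Subgroup G) (A : Subgroup G) : Prop :=
  ∀ v ∈ RR Om U A, ∃ w ∈ RR Om U A, ∃ u ∈ RR Om U A, Lk Om U v w ∧ Lk Om U v u ∧ u ≠ w ∧ u ≠ w⁻¹ ∧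
    u ≠ rf Om U v w ∧ u ≠ (rf Om U v w)⁻¹

/-- **(1b)** -/
theorem CVW.not_lThree [Finite G] (h : CVW Om U) (hA : IsA Om U A) (hr : RkThree Om U A)
    (l : LThree Om U A e v₁ v₂ v₃) (he : e ∈ A) (he2 : e * e = 1) : False := by
  obtain ⟨w, hw, u, hu, hlw, hlu, n1, n2, n3, n4⟩ := hr v₁ l.m1
  have h1 := l.no_link h hA hw hlw he he2
  have h2 := l.no_link h hA hu hlu he he2
  have e1 : rf Om U v₁ v₂ = v₃⁻¹ := by
    rw [rf, l.a12, neg_neg, pw_one, l.three_eq h hA, mul_inv_rev, inv_inv, inv_inv, h.comm hA l.m2.1 l.m1.1]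
  have e2 : rf Om U v₁ v₃ = v₂⁻¹ := by
    rw [rf, l.a13, neg_neg, pw_one, l.three_eq h hA, inv_mul_cancel_right]
  have e3 : ∀ a ∈ A, rf Om U v₁ a⁻¹ = (rf Om U v₁ a)⁻¹ := by
    intro a ha
    rw [rf, rf, h.al_inv hA l.m1 ha, neg_neg, mul_inv_rev, pw_neg l.m1.2.1, inv_inv,
      h.comm hA (A.inv_mem ha) (pw_mem l.m1.1 _)]
  rcases h1 with rfl | rfl | rfl | rfl
  · rw [e1] at n3 n4
    rw [inv_inv] at n4
    rcases h2 with h2 | h2 | h2 | h2
    · exact n1 h2
    · exact n2 h2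
    · exact n4 h2
    · exact n3 h2
  · rw [e3 _ l.m2.1, e1] at n3 n4
    rw [inv_inv] at n2 n3
    rw [inv_inv] at n4
    rcases h2 with h2 | h2 | h2 | h2
    · exact n2 h2
    · exact n1 h2
    · exact n3 h2
    · exact n4 h2
  · rw [e2] at n3 n4
    rw [inv_inv] at n4
    rcases h2 with h2 | h2 | h2 | h2
    · exact n4 h2
    · exact n3 h2
    · exact n1 h2
    · exact n2 h2
  · rw [e3 _ l.m3.1, e2] at n3 n4
    rw [inv_inv] at n2 n3
    rw [inv_inv] at n4
    rcases h2 with h2 | h2 | h2 | h2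
    · exact n3 h2
    · exact n4 h2
    · exact n2 h2
    · exact n1 h2

end Cfsg.Agent.Cit.CV
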