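import Cfsg.Agent.Cit.Nil.CV.EndF
import Cfsg.Agent.Cit.Nil.CV3.FOne
import Cfsg.Agent.Cit.Nil.ROne.GraphB

/-!
# (CV), the end (4b): `FH` and a strongly embedded subgroup of `F` give a contradiction (S1309)
-/

set_option autoImplicit false
set_option linter.style.haveILetI false
set_option linter.unusedSectionVars false

namespace Cfsg.Agent.Cit.Nil.CV.EndH

open Subgroup Cfsg Cit Cit.CV CV3 CloEnd

variable {G : Type*} [Group G] [Finite G]
variable {Om : Set (Subgroup G)} {U : Subgroup G → Subgroup G} {A F : Subgroup G} {v : G}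

theorem ew (h : FH Om U F) (f : ROne.FSimp F) (hA : IsA Om U A) (hv : v ∈ RR Om U A) : EndF.EW Om U F A where
  cw := h.cw
  isA := hA
  nor := f.nor
  sim := f.sim
  na := f.na
  nos _ hN hs := no_s h.cw hA hN hs
  zF := h.zF
  inv := h.inv
  con := h.con
  nK _ hK _ hc hcz := h.nor hK hc hcz
  lk _ hv _ hw hne := h.lk hA hv hw hne
  three := by
    obtain ⟨z1, z2, z3, h12, h13, h23, hz⟩ := h.three hA hv
    have h1 : {e : G | ∃ v ∈ RR Om U A, v * v = e} = {z1, z2, z3} := by
      ext e
      simp only [Set.mem_setOf_eq, Set.mem_insert_iff, Set.mem_singleton_iff]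
      exact hz e
    have h2 : ({e : G | ∃ v ∈ RR Om U A, v * v = e} : Set G).ncard = 3 := by
      rw [h1]
      exact Set.ncard_eq_three.mpr ⟨z1, z2, z3, h12, h13, h23, rfl⟩
    exact h2

/-- **(4b)** -/
theorem false_of (h : FH Om U F) (f : ROne.FSimp F) (hA : IsA Om U A) (hv : v ∈ RR Om U A) (hB : Bend F)
    {H : Subgroup F} (hH : IsStronglyEmbedded H) : False :=
  (ew h f hA hv).false_of hB hH hv

end Cfsg.Agent.Cit.Nil.CV.EndH
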