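import Cfsg.Agent.Cit.Nil.CV.SecFour
import Cfsg.Agent.Cit.Nil.CV3.NoS
import Cfsg.Agent.Cit.Nil.CV3.FOne
import Cfsg.Agent.Cit.Nil.ROne.EndG0

/-!
# (6b)(CV), rank at least three, section 4: the world `FW`

`fw_of` : `F*(G) = F` simple has a strongly embedded subgroup (S1174 for the involutions of `A ∩ F`), so its involutions are
conjugate in `F`, and are the `zz K`.
-/

set_option autoImplicit false
set_option linter.style.haveILetI false
set_option linter.unusedSectionVars false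

namespace Cfsg.Agent.Cit.CV

open Subgroup Cfsg Cit Tau Cit.Nil

variable {G : Type*} [Group G] [Finite G] {Om : Set (Subgroup G)} {U : Subgroup G → Subgroup G}
  {A B K L N F : Subgroup G} {a b e f g s t u v w x y : G}

/-- the world at the end of (CV), rank at least three -/
structure FW (Om : Set (Subgroup G)) (U : Subgroup G → Subgroup G) (F : Subgroup G) : Prop where
  cw : CV3.CW Om U
  nos : ∀ A, IsA Om U A → ∀ N ∈ Om, zz N ∈ normalizer (A : Set G) → zz N ∈ A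
  /-- no involution of `B` normalises `A ≠ B` -/
  noi : ∀ A, IsA Om U A → ∀ B, IsA Om U B → A ≠ B → ∀ t ∈ B, t * t = 1 → t ∈ normalizer (A : Set G) → t = 1
  f : ROne.FSimp F
  zF : ∀ K ∈ Om, zz K ∈ F
  inv : ∀ x ∈ F, x * x = 1 → x ≠ 1 → ∃ K ∈ Om, zz K = x
  con : ∀ K ∈ Om, ∀ L ∈ Om, ∃ g ∈ F, g * zz K * g⁻¹ = zz L

/-- the world of helper995 -/
theorem FW.fh (h : FW Om U F) : CV3.FH Om U F := ⟨h.cw, h.f.nor, h.zF, h.inv, h.con⟩

theorem twoCV_of_cw (h : CV3.CW Om U) : TwoCV Om U :=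
  ⟨h.c1, fun A hA B hB hAB => h.c2 A B hA hB hAB⟩

theorem threeCV_of_cw (h : CV3.CW Om U) : ThreeCV Om U := fun _ hA _ hN hs => CV3.no_s h hA hN hs

/-- `zz K ∈ F` -/
theorem CVW.mem_of_fsimp (h : CVW Om U) (f : ROne.FSimp F) (h2 : 2 ∣ Nat.card F) (hK : K ∈ Om) : zz K ∈ F := by
  haveI := f.nor
  haveI := f.sim
  have hO : OO F = ⊥ := by
    have h3 : (OO F).Normal := by
      refine ⟨fun n hn g => ?_⟩
      have h4 : cj g F = F := mem_normalizer_iff_cj.1 (by rw [normalizer_eq_top_iff.2 f.nor]; exact mem_top g)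
      have h5 : cj g (OO F) = OO F := by rw [← OO_cj, h4]
      rw [← h5]
      exact conj_mem_cj hn
    by_contra hne
    have h4 := f.le (N := OO F) (fun g _ n hn => h3.conj_mem n hn g) hne
    exact odd_OO F (h2.trans (card_dvd_of_le h4))
  by_contra hn
  have h4 := h.hyp.lemma_two (K := K) (M := F) h.two hK
    (by rw [normalizer_eq_top_iff.2 f.nor]; exact le_top) hO hn
  apply h.hyp.zz_ne hK
  have h5 : zz K ∈ centralizer (F : Set G) := by
    rw [mem_centralizer_iff]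
    exact fun g hg => mem_centralizer_singleton_iff.1 (h4 hg)
  rwa [f.cen, mem_bot] at h5

/-- the elements of square one in `A ⊓ F` -/
def EE (h : CVW Om U) (hA : IsA Om U A) (F : Subgroup G) : Subgroup G where
  carrier := {x | x ∈ A ∧ x ∈ F ∧ x * x = 1}
  one_mem' := ⟨A.one_mem, F.one_mem, one_mul 1⟩
  mul_mem' := by
    rintro a b ⟨a1, a2, a3⟩ ⟨b1, b2, b3⟩
    refine ⟨A.mul_mem a1 b1, F.mul_mem a2 b2, ?_⟩
    calc a * b * (a * b) = a * (b * a) * b := by group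
      _ = (a * a) * (b * b) := by rw [← h.comm hA a1 b1]; group
      _ = 1 := by rw [a3, b3, one_mul]
  inv_mem' := by
    rintro a ⟨a1, a2, a3⟩
    exact ⟨A.inv_mem a1, F.inv_mem a2, by rw [← mul_inv_rev, a3, inv_one]⟩

/-- the involutions of `A` are strongly closed in `S ≥ A` -/
theorem CVW.closed (h : CVW Om U) (h2 : TwoCV Om U) (h3 : ThreeCV Om U)
    (hlk : ∀ A, IsA Om U A → ∃ v ∈ RR Om U A, ∃ w ∈ RR Om U A, Lk Om U v w) (hA : IsA Om U A) {S : Subgroup G}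
    (hS : IsPGroup 2 S) (hAS : A ≤ S) (hu : u ∈ A) (hu2 : u * u = 1) (hg : g * u * g⁻¹ ∈ S) : g * u * g⁻¹ ∈ A := by
  have hB : IsA Om U (cj g A) := h.isA_cj hA g
  have h5 : g * u * g⁻¹ ∈ cj g A := conj_mem_cj hu
  by_cases hAB : A = cj g A
  · rw [hAB]; exact h5
  have h4 := h.no_inv h2 h3 hlk hA hB hAB h5 (by
    calc g * u * g⁻¹ * (g * u * g⁻¹) = g * (u * u) * g⁻¹ := by group
      _ = 1 := by rw [hu2, mul_one, mul_inv_cancel]) (h.le_norm hA hS hAS hg)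
  rw [h4]; exact A.one_mem

/-- **`F` has a strongly embedded subgroup** -/
theorem exists_se (h : CV3.CW Om U) (f : ROne.FSimp F) (h2 : 2 ∣ Nat.card F) (hne : Om.Nonempty)
    (hc : CloEnd.Crit1174 F) : ∃ H : Subgroup F, IsStronglyEmbedded H := by
  haveI := f.nor
  haveI := f.sim
  have hh := h.toCVW
  have hz : ∀ K ∈ Om, zz K ∈ F := fun K hK => hh.mem_of_fsimp f h2 hK
  -- a Sylow 2-subgroup containing a member
  obtain ⟨K, hK⟩ := hne
  obtain ⟨S, hKS⟩ := (h.two K hK).exists_le_sylow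
  set A := WW Om U (S : Subgroup G) with hAdef
  have hA : IsA Om U A := ⟨S, rfl⟩
  have hAS : A ≤ S := WW_le _
  obtain ⟨v, hvK, hv4⟩ := hh.exists_v hK
  have hvA : v ∈ A := subset_closure ⟨hKS (hh.vch.le K hK hvK), hv4, K, hK, hvK⟩
  have hzA : zz K ∈ A := by rw [← hh.sq_eq hK hvK hv4]; exact A.mul_mem hvA hvA
  have hlk : ∀ A, IsA Om U A → ∃ v ∈ RR Om U A, ∃ w ∈ RR Om U A, Lk Om U v w := by
    intro B hB
    obtain ⟨g, rfl⟩ := hh.isA_conj hA hB
    have hv : g * v * g⁻¹ ∈ RR Om U (cj g A) := (hh.RR_cj g).1 ⟨hvA, hv4, K, hK, hvK⟩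
    obtain ⟨w, hw, hl⟩ := h.rk _ hB _ hv
    exact ⟨_, hv, w, hw, hl⟩
  obtain ⟨T, hT⟩ := ROne.exists_sylow_subgroupOf f.nor S
  set E := (EE hh hA F).subgroupOf F with hE
  refine hc T E ?_ ?_ ?_
  · intro hb
    have h4 : (⟨zz K, hz K hK⟩ : F) ∈ E := ⟨hzA, hz K hK, hh.hyp.zz_mul hK⟩
    rw [hb, mem_bot] at h4
    exact hh.hyp.zz_ne hK (congrArg Subtype.val h4)
  · refine ⟨fun x hx => ?_, fun x hx g hg => ?_⟩
    · rw [hT]; exact hAS hx.1
    · rw [hT] at hg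
      have h4 := hh.closed (twoCV_of_cw h) (threeCV_of_cw h) hlk hA S.isPGroup' hAS hx.1 hx.2.2 hg
      refine ⟨h4, (g * x * g⁻¹).2, ?_⟩
      have h5 : (x : G) * x = 1 := hx.2.2
      change (g : G) * x * (g : G)⁻¹ * ((g : G) * x * (g : G)⁻¹) = 1
      calc (g : G) * x * (g : G)⁻¹ * ((g : G) * x * (g : G)⁻¹) = g * (x * x) * (g : G)⁻¹ := by group
        _ = 1 := by rw [h5, mul_one, mul_inv_cancel]
  · -- the centralisers lie in `N(A)`
    intro htop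
    have h4 : (⨆ t : {t : F // t ∈ E ∧ orderOf t = 2}, centralizer ({(t : F)} : Set F)) ≤
        (normalizer (A : Set G)).subgroupOf F := by
      refine iSup_le fun t c hc => ?_
      obtain ⟨⟨t, htF⟩, ht, ht2⟩ := t
      have ht1 : t ≠ 1 := by
        rintro rfl
        rw [show (⟨1, htF⟩ : F) = 1 from rfl, orderOf_one] at ht2
        omega
      refine h.c1 A hA t ht.1 ht.2.2 ht1 ?_
      rw [mem_centralizer_singleton_iff] at hc ⊢
      exact congrArg Subtype.val hc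
    rw [htop, top_le_iff, subgroupOf_eq_top] at h4
    -- `A ⊓ F` is normalised by `F`
    have h5 : A ⊓ F = ⊥ := by
      refine f.eq_bot (fun g hg n hn => ?_) fun x hx y hy => hh.comm hA hx.1 hy.1
      exact ⟨(mem_normalizer_iff.mp (h4 hg) _).mp hn.1, f.nor.conj_mem _ hn.2 g⟩
    have h6 : zz K ∈ A ⊓ F := ⟨hzA, hz K hK⟩
    rw [h5, mem_bot] at h6
    exact hh.hyp.zz_ne hK h6

theorem fw_of (h : CV3.CW Om U) (f : ROne.FSimp F) (h2 : 2 ∣ Nat.card F) (hne : Om.Nonempty)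
    (hc : CloEnd.Crit1174 F) : FW Om U F := by
  have hh := h.toCVW
  have hz : ∀ K ∈ Om, zz K ∈ F := fun K hK => hh.mem_of_fsimp f h2 hK
  obtain ⟨H, hH⟩ := exists_se h f h2 hne hc
  have key : ∀ x (hx : x ∈ F) y (hy : y ∈ F), x * x = 1 → x ≠ 1 → y * y = 1 → y ≠ 1 → ∃ g ∈ F, g * x * g⁻¹ = y := by
    intro x hx y hy hx2 hx1 hy2 hy1
    have h3 := TwoFusion.StronglyEmbeddedBasic.isConj_of_involutions hH (⟨x, hx⟩ : F) ⟨y, hy⟩
      (by rw [← Subgroup.orderOf_coe]; exact orderOf_eq_prime (by rw [pow_two]; exact hx2) hx1)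
      (by rw [← Subgroup.orderOf_coe]; exact orderOf_eq_prime (by rw [pow_two]; exact hy2) hy1)
    obtain ⟨g, hg⟩ := isConj_iff.1 h3
    exact ⟨g, g.2, congrArg Subtype.val hg⟩
  obtain ⟨K, hK⟩ := hne
  have hlk : ∀ A, IsA Om U A → ∃ v ∈ RR Om U A, ∃ w ∈ RR Om U A, Lk Om U v w := by
    intro B hB
    obtain ⟨v, hvK, hv4⟩ := hh.exists_v hK
    obtain ⟨S, hKS⟩ := (h.two K hK).exists_le_sylow
    obtain ⟨g, rfl⟩ := hh.isA_conj (A := WW Om U (S : Subgroup G)) ⟨S, rfl⟩ hB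
    have hvA : v ∈ WW Om U (S : Subgroup G) := subset_closure ⟨hKS (hh.vch.le K hK hvK), hv4, K, hK, hvK⟩
    have hv : g * v * g⁻¹ ∈ RR Om U (cj g (WW Om U (S : Subgroup G))) := (hh.RR_cj g).1 ⟨hvA, hv4, K, hK, hvK⟩
    obtain ⟨w, hw, hl⟩ := h.rk _ hB _ hv
    exact ⟨_, hv, w, hw, hl⟩
  refine ⟨h, fun A hA N hN hs => CV3.no_s h hA hN hs,
    fun A hA B hB hAB t htB ht2 htA => hh.no_inv (twoCV_of_cw h) (threeCV_of_cw h) hlk hA hB hAB htB ht2 htA,
    f, hz, fun x hx hx2 hx1 => ?_, fun K hK L hL => ?_⟩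
  · obtain ⟨g, hg, h3⟩ := key _ (hz K hK) x hx (hh.hyp.zz_mul hK) (hh.hyp.zz_ne hK) hx2 hx1
    exact ⟨cj g K, hh.hyp.conj K hK g, by rw [hh.hyp.zz_cj hK]; exact h3⟩
  · exact key _ (hz K hK) _ (hz L hL) (hh.hyp.zz_mul hK) (hh.hyp.zz_ne hK) (hh.hyp.zz_mul hL) (hh.hyp.zz_ne hL)

end Cfsg.Agent.Cit.CV
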