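import Mathlib

/-!
# Root systems modulo 4 with an involution

Helper 542, for S1309, section 3 of `CIT-6b-CV-rank3-helper599.md`.  Everything here is free of
groups: `A` is an abelian group, `R` a set of elements of order 4 ("roots", the generators of the
groups `V_K <= A`), `f v : A → ZMod 4` the homomorphism `al_K`, and `s` an involution of `A`
permuting `R` and respecting `f`.
-/

namespace Cfsg.Agent.Cit.Nil.CV.RootMod

variable {A : Type*} [AddCommGroup A]

/-- `(A, R, f)` is a simply laced root system modulo 4. -/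
structure RM (R : Set A) (f : A → A →+ ZMod 4) : Prop where
  neg : ∀ {v}, v ∈ R → -v ∈ R
  fneg : ∀ {v}, v ∈ R → ∀ a, f (-v) a = - f v a
  self : ∀ {v}, v ∈ R → f v v = 2
  small : ∀ {v w}, v ∈ R → w ∈ R → w ≠ v → w ≠ -v → f v w = 0 ∨ f v w = 1 ∨ f v w = -1
  symm : ∀ {v w}, v ∈ R → w ∈ R → f v w = f w v
  add : ∀ {v w}, v ∈ R → w ∈ R → f v w = -1 → v + w ∈ R
  fadd : ∀ {v w}, v ∈ R → w ∈ R → f v w = -1 → ∀ a, f (v + w) a = f v a + f w a
  four : ∀ {v}, v ∈ R → (v + v) + (v + v) = 0
  two : ∀ {v}, v ∈ R → v + v ≠ 0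

/-- `s` is an automorphism of order at most 2 of `(A, R, f)`. -/
structure Iv (R : Set A) (f : A → A →+ ZMod 4) (s : A →+ A) : Prop where
  invol : ∀ a, s (s a) = a
  maps : ∀ {v}, v ∈ R → s v ∈ R
  iso : ∀ {v}, v ∈ R → ∀ a, f (s v) (s a) = f v a

/-- `s` is an automorphism as the involutions of `Z` outside `A` induce it: no root is fixed, no
two linked roots are inverted, and `s` does not act on a root linked to an inverted root as the
reflection. -/
structure Ez (R : Set A) (f : A → A →+ ZMod 4) (s : A →+ A) : Prop extends Iv R f s where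
  nofix : ∀ {v}, v ∈ R → s v ≠ v
  noinv : ∀ {v w}, v ∈ R → w ∈ R → s v = -v → f v w = 1 → s w ≠ -w
  norefl : ∀ {v w}, v ∈ R → w ∈ R → s v = -v → f v w = 1 → s w ≠ w - v

/-- Two roots in the same component. -/
def Conn (R : Set A) (f : A → A →+ ZMod 4) : A → A → Prop :=
  Relation.ReflTransGen (fun v w => v ∈ R ∧ w ∈ R ∧ f v w ≠ 0)

section Basic

variable {R : Set A} {f : A → A →+ ZMod 4} {s : A →+ A}

theorem two_iff (hR : RM R f) {v w : A} (hv : v ∈ R) (hw : w ∈ R) :
    f v w = 2 ↔ w = v ∨ w = -v := by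
  constructor
  · intro h
    by_contra hne
    push Not at hne
    rcases hR.small hv hw hne.1 hne.2 with h1 | h1 | h1 <;> rw [h] at h1 <;> exact absurd h1 (by decide)
  · rintro (h | h)
    · rw [h, hR.self hv]
    · rw [h, map_neg, hR.self hv]; decide

theorem cases (hR : RM R f) {v w : A} (hv : v ∈ R) (hw : w ∈ R) :
    w = v ∨ w = -v ∨ f v w = 0 ∨ f v w = 1 ∨ f v w = -1 := by
  by_cases h1 : w = v
  · exact Or.inl h1
  by_cases h2 : w = -v
  · exact Or.inr (Or.inl h2)
  exact Or.inr (Or.inr (hR.small hv hw h1 h2))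

theorem sub_mem (hR : RM R f) {v w : A} (hv : v ∈ R) (hw : w ∈ R) (h : f v w = 1) : w - v ∈ R := by
  have h1 : f w (-v) = -1 := by rw [map_neg, hR.symm hw hv, h]
  have h2 := hR.add hw (hR.neg hv) h1
  rwa [← sub_eq_add_neg] at h2

theorem fsub (hR : RM R f) {v w : A} (hv : v ∈ R) (hw : w ∈ R) (h : f v w = 1) (a : A) :
    f (w - v) a = f w a - f v a := by
  have h1 : f w (-v) = -1 := by rw [map_neg, hR.symm hw hv, h]
  have h2 := hR.fadd hw (hR.neg hv) h1 a
  rw [sub_eq_add_neg, h2, hR.fneg hv, sub_eq_add_neg]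

theorem ne_neg (hR : RM R f) {v : A} (hv : v ∈ R) : v ≠ -v := by
  intro h
  refine hR.two hv ?_
  nth_rewrite 2 [h]
  exact add_neg_cancel v

theorem Conn.refl (v : A) : Conn R f v v := Relation.ReflTransGen.refl

theorem Conn.trans {u v w : A} (h1 : Conn R f u v) (h2 : Conn R f v w) : Conn R f u w :=
  Relation.ReflTransGen.trans h1 h2

theorem Conn.step {v w : A} (hv : v ∈ R) (hw : w ∈ R) (h : f v w ≠ 0) : Conn R f v w :=
  Relation.ReflTransGen.single ⟨hv, hw, h⟩

theorem Conn.symm (hR : RM R f) {v w : A} (h : Conn R f v w) : Conn R f w v := by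
  induction h with
  | refl => exact Conn.refl v
  | tail _ h2 ih =>
    refine Conn.trans (Conn.step h2.2.1 h2.1 ?_) ih
    rw [hR.symm h2.2.1 h2.1]
    exact h2.2.2

theorem Conn.mem {v w : A} (hv : v ∈ R) (h : Conn R f v w) : w ∈ R := by
  induction h with
  | refl => exact hv
  | tail _ h2 _ => exact h2.2.1

theorem Conn.neg (hR : RM R f) {v : A} (hv : v ∈ R) : Conn R f v (-v) := by
  refine Conn.step hv (hR.neg hv) ?_
  rw [map_neg, hR.self hv]
  decide

theorem Conn.map (hs : Iv R f s) {v w : A} (h : Conn R f v w) : Conn R f (s v) (s w) := by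
  induction h with
  | refl => exact Conn.refl (s v)
  | tail _ h2 ih =>
    refine Conn.trans ih (Conn.step (hs.maps h2.1) (hs.maps h2.2.1) ?_)
    rw [hs.iso h2.1]
    exact h2.2.2

theorem ortho_of_not_conn {v w : A} (hv : v ∈ R) (hw : w ∈ R) (h : ¬ Conn R f v w) :
    f v w = 0 := by
  by_contra hne
  exact h (Conn.step hv hw hne)

/-- moving `s` to the other side -/
theorem swap (hR : RM R f) (hs : Iv R f s) {v w : A} (hv : v ∈ R) (hw : w ∈ R) :
    f v (s w) = f w (s v) := by
  have h1 := hs.iso (hs.maps hv) w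
  rw [hs.invol] at h1
  rw [h1, hR.symm (hs.maps hv) hw]

end Basic

section Line

variable {R : Set A} {f : A → A →+ ZMod 4} {s : A →+ A}

theorem lk_ortho (hR : RM R f) (hs : Iv R f s) {v : A}
    (hno : ∀ g, Conn R f v g → f g (s g) = 0) {g d : A} (hg : g ∈ R) (hd : d ∈ R)
    (hgd : f g d = -1) (hc : Conn R f v g) : f g (s d) = 0 := by
  have hmem : g + d ∈ R := hR.add hg hd hgd
  have hcd : Conn R f v d := hc.trans (Conn.step hg hd (by rw [hgd]; decide))
  have hcs : Conn R f v (g + d) := by
    refine hc.trans (Conn.step hg hmem ?_)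
    rw [map_add, hR.self hg, hgd]
    decide
  have h1 := hno _ hcs
  rw [hR.fadd hg hd hgd, map_add, map_add, map_add, hno g hc, hno d hcd, swap hR hs hd hg] at h1
  have h2 : f g (s d) = 0 ∨ f g (s d) = 2 := by
    generalize f g (s d) = x at h1
    revert x
    decide
  rcases h2 with h2 | h2
  · exact h2
  · exfalso
    have h3 := hno d hcd
    have h4 : f d g = -1 := by rw [hR.symm hd hg, hgd]
    rcases (two_iff hR hg (hs.maps hd)).1 h2 with h5 | h5
    · rw [h5, h4] at h3
      exact absurd h3 (by decide)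
    · rw [h5, map_neg, h4] at h3
      exact absurd h3 (by decide)

/-- (A) An involution fixing a component fixes a line of it. -/
theorem exists_line (hR : RM R f) (hs : Iv R f s) {v : A} (hv : v ∈ R) (hc : Conn R f v (s v)) :
    ∃ g, Conn R f v g ∧ (s g = g ∨ s g = -g) := by
  by_contra hcon
  push Not at hcon
  have hno : ∀ g, Conn R f v g → f g (s g) = 0 := by
    intro g hg
    have hgR : g ∈ R := hg.mem hv
    have hsg : s g ∈ R := hs.maps hgR
    rcases cases hR hgR hsg with h | h | h | h | h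
    · exact absurd h (hcon g hg).1
    · exact absurd h (hcon g hg).2
    · exact h
    · exfalso
      have hw : s g - g ∈ R := sub_mem hR hgR hsg h
      refine (hcon (s g - g) (hg.trans (Conn.step hgR hw ?_))).2 ?_
      · rw [map_sub, hR.self hgR, h]; decide
      · rw [map_sub, hs.invol]; abel
    · exfalso
      have hw : g + s g ∈ R := hR.add hgR hsg h
      refine (hcon (g + s g) (hg.trans (Conn.step hgR hw ?_))).1 ?_
      · rw [map_add, hR.self hgR, h]; decide
      · rw [map_add, hs.invol]; abel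
  have key : ∀ g, Conn R f v g → f g (s v) = 0 ∧ ∀ d, d ∈ R → f g d ≠ 0 → f d (s v) = 0 := by
    intro g hg
    induction hg with
    | refl =>
      refine ⟨hno v (Conn.refl v), ?_⟩
      intro d hd hvd
      rcases cases hR hv hd with h | h | h | h | h
      · rw [h]; exact hno v (Conn.refl v)
      · rw [h, hR.fneg hv, hno v (Conn.refl v), neg_zero]
      · exact absurd h hvd
      · have h1 : f v (-d) = -1 := by rw [map_neg, h]
        have h2 := lk_ortho hR hs hno hv (hR.neg hd) h1 (Conn.refl v)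
        rw [map_neg, map_neg, neg_eq_zero] at h2
        rw [swap hR hs hd hv, h2]
      · rw [swap hR hs hd hv, lk_ortho hR hs hno hv hd h (Conn.refl v)]
    | @tail g d hvg hgd ih =>
      obtain ⟨hg, hd, hne⟩ := hgd
      refine ⟨ih.2 d hd hne, ?_⟩
      intro e he hde
      by_cases hge : f g e = 0
      · rcases cases hR hd he with h | h | h | h | h
        · rw [h]; exact ih.2 d hd hne
        · rw [h, hR.fneg hd, ih.2 d hd hne, neg_zero]
        · exact absurd h hde
        · have h1 : f g (e - d) ≠ 0 := by rw [map_sub, hge, zero_sub]; exact neg_ne_zero.2 hne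
          have h2 := ih.2 (e - d) (sub_mem hR hd he h) h1
          rw [fsub hR hd he h, ih.2 d hd hne, sub_zero] at h2
          exact h2
        · have h1 : f g (d + e) ≠ 0 := by rw [map_add, hge, add_zero]; exact hne
          have h2 := ih.2 (d + e) (hR.add hd he h) h1
          rw [hR.fadd hd he h, ih.2 d hd hne, zero_add] at h2
          exact h2
      · exact ih.2 e he hge
  have h1 := (key (s v) hc).1
  rw [hR.self (hs.maps hv)] at h1
  exact absurd h1 (by decide)

end Line

section Fixed

variable {R : Set A} {f : A → A →+ ZMod 4} {s : A →+ A}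

/-- Under `Ez` a root is inverted or orthogonal to its image. -/
theorem inv_or_ortho (hR : RM R f) (hs : Ez R f s) {v : A} (hv : v ∈ R) :
    s v = -v ∨ f v (s v) = 0 := by
  have hsv : s v ∈ R := hs.maps hv
  rcases cases hR hv hsv with h | h | h | h | h
  · exact absurd h (hs.nofix hv)
  · exact Or.inl h
  · exact Or.inr h
  · exfalso
    have hw : v - s v ∈ R := by
      have := hR.neg (sub_mem hR hv hsv h)
      rwa [neg_sub] at this
    have h1 : s (v - s v) = -(v - s v) := by rw [map_sub, hs.invol]; abel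
    have h2 : f (v - s v) v = 1 := by
      rw [hR.symm hw hv, map_sub, hR.self hv, h]; decide
    refine hs.norefl hw hv h1 h2 ?_
    abel
  · exfalso
    have hw : v + s v ∈ R := hR.add hv hsv h
    refine hs.nofix hw ?_
    rw [map_add, hs.invol]; abel

/-- `g` inverted, `d` linked to `g`: `h = d + g - s d` is an inverted root orthogonal to `g`. -/
theorem hroot (hR : RM R f) (hs : Ez R f s) {g d : A} (hg : g ∈ R) (hd : d ∈ R)
    (hsg : s g = -g) (hgd : f g d = -1) :
    f d (s d) = 0 ∧ f g (s d) = 1 ∧ d + g - s d ∈ R ∧ s (d + g - s d) = -(d + g - s d) ∧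
      f g (d + g - s d) = 0 ∧ f d (d + g - s d) = 1 := by
  have hsd : s d ∈ R := hs.maps hd
  have h1 : f d (s d) = 0 := by
    rcases inv_or_ortho hR hs hd with h | h
    · exfalso
      refine hs.noinv hg (hR.neg hd) hsg (by rw [map_neg, hgd]; decide) ?_
      rw [map_neg, h]
    · exact h
  have hdg : f d g = -1 := by rw [hR.symm hd hg, hgd]
  have h2 : f g (s d) = 1 := by
    rw [swap hR hs.toIv hg hd, hsg, map_neg, hdg]; decide
  have hmem : d + g ∈ R := hR.add hd hg hdg
  have h3 : f (s d) (d + g) = 1 := by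
    rw [hR.symm hsd hmem, hR.fadd hd hg hdg, h1, h2]; decide
  refine ⟨h1, h2, sub_mem hR hsd hmem h3, ?_, ?_, ?_⟩
  · rw [map_sub, map_add, hs.invol, hsg]; abel
  · rw [map_sub, map_add, hgd, hR.self hg, h2]; decide
  · rw [map_sub, map_add, hR.self hd, hdg, h1]; decide

/-- roots over the same involution: products are congruent modulo 2 -/
theorem par {v v' : A} (h2 : v' + v' = v + v) (w : A) :
    f w v' + f w v' = f w v + f w v := by
  rw [← map_add, ← map_add, h2]

theorem pair_ortho (hR : RM R f) {g g' : A} (hg : g ∈ R) (hg' : g' ∈ R) (h2 : g' + g' = g + g)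
    (hne : g' ≠ g) (hne' : g' ≠ -g) : f g g' = 0 := by
  have h1 := par (f := f) h2 g
  rw [hR.self hg] at h1
  rcases hR.small hg hg' hne hne' with h | h | h
  · exact h
  · rw [h] at h1; exact absurd h1 (by decide)
  · rw [h] at h1; exact absurd h1 (by decide)

theorem pair_odd (hR : RM R f) {g g' d : A} (hg : g ∈ R) (hg' : g' ∈ R) (hd : d ∈ R)
    (h2 : g' + g' = g + g) (hgd : f g d = 1 ∨ f g d = -1) : f g' d = 1 ∨ f g' d = -1 := by
  have h1 := par (f := f) h2 d
  rw [hR.symm hd hg, hR.symm hd hg'] at h1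
  revert h1 hgd
  generalize f g d = x
  generalize f g' d = y
  revert x y
  decide

theorem pair_even (hR : RM R f) {g g' e : A} (hg : g ∈ R) (hg' : g' ∈ R) (he : e ∈ R)
    (h2 : g' + g' = g + g) (hge : f g e = 0) (hne : e ≠ g') (hne' : e ≠ -g') : f g' e = 0 := by
  have h1 := par (f := f) h2 e
  rw [hR.symm he hg, hR.symm he hg', hge] at h1
  rcases hR.small hg' he hne hne' with h | h | h
  · exact h
  · rw [h] at h1; exact absurd h1 (by decide)
  · rw [h] at h1; exact absurd h1 (by decide)

theorem neg_two {v : A} (h : (v + v) + (v + v) = 0) : -v + -v = v + v := by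
  rw [← neg_add]
  exact neg_eq_of_add_eq_zero_left h

/-- The second root over the involution of an inverted root is inverted. -/
theorem pair_inv (hR : RM R f) (hs : Ez R f s) {g g' d : A} (hg : g ∈ R) (hg' : g' ∈ R)
    (hd : d ∈ R) (hsg : s g = -g) (h2 : g' + g' = g + g) (hne : g' ≠ g) (hne' : g' ≠ -g)
    (hgd : f g d = -1) : s g' = -g' := by
  by_contra hcon
  have hs' : s g' ∈ R := hs.maps hg'
  have h22 : s g' + s g' = g + g := by
    rw [← map_add, h2, map_add, hsg, neg_two (hR.four hg)]
  have hne2 : s g' ≠ g := by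
    intro h
    apply hne'
    rw [← hs.invol g', h, hsg]
  have hne2' : s g' ≠ -g := by
    intro h
    apply hne
    rw [← hs.invol g', h, map_neg, hsg, neg_neg]
  have hgg' : f g g' = 0 := pair_ortho hR hg hg' h2 hne hne'
  have hgs : f g (s g') = 0 := pair_ortho hR hg hs' h22 hne2 hne2'
  have hg's : f g' (s g') = 0 := by
    rcases inv_or_ortho hR hs hg' with h | h
    · exact absurd h hcon
    · exact h
  -- the contradiction when the two products are different
  have key : ∀ d : A, d ∈ R → f g d = -1 → f g' d = -f (s g') d → False := by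
    intro d hd hgd hd'
    obtain ⟨-, -, hh, hsh, -, -⟩ := hroot hR hs hg hd hsg hgd
    have hodd := pair_odd hR hg hg' hd h2 (Or.inr hgd)
    have h3 : f g' (d + g - s d) = 2 := by
      rw [map_sub, map_add, swap hR hs.toIv hg' hd, hR.symm hd hs', hR.symm hg' hg, hgg']
      revert hodd hd'
      generalize f g' d = x
      generalize f (s g') d = y
      revert x y
      decide
    rcases (two_iff hR hg' hh).1 h3 with h | h
    · rw [h] at hsh
      exact hcon hsh
    · rw [h, map_neg, neg_inj] at hsh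
      exact hcon hsh
  have ho := pair_odd hR hg hs' hd h22 (Or.inr hgd)
  have ho' := pair_odd hR hg hg' hd h2 (Or.inr hgd)
  by_cases hd' : f g' d = -f (s g') d
  · exact key d hd hgd hd'
  have heq : f g' d = f (s g') d := by
    revert ho ho' hd'
    generalize f g' d = x
    generalize f (s g') d = y
    revert x y
    decide
  rcases ho with ho | ho
  · refine key (d - s g') (sub_mem hR hs' hd ho) ?_ ?_
    · rw [map_sub, hgd, hgs, sub_zero]
    · rw [map_sub, map_sub, heq, ho, hg's, hR.self hs']; decide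
  · refine key (s g' + d) (hR.add hs' hd ho) ?_ ?_
    · rw [map_add, hgd, hgs, zero_add]
    · rw [map_add, map_add, heq, ho, hg's, hR.self hs']; decide

/-- The action on the roots linked to `g`. -/
theorem pair_eq (hR : RM R f) (hs : Ez R f s) {g g' d : A} (hg : g ∈ R) (hg' : g' ∈ R)
    (hd : d ∈ R) (hsg : s g = -g) (h2 : g' + g' = g + g) (hne : g' ≠ g) (hne' : g' ≠ -g)
    (hgd : f g d = -1) (hgd' : f g' d = 1) : s d = d + g - g' := by
  have hsg' := pair_inv hR hs hg hg' hd hsg h2 hne hne' hgd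
  obtain ⟨-, -, hh, hsh, -, h1⟩ := hroot hR hs hg hd hsg hgd
  have h3 : f g' (d + g - s d) = 2 := by
    rw [map_sub, map_add, swap hR hs.toIv hg' hd, hsg', map_neg, hR.symm hd hg', hgd',
      hR.symm hg' hg, pair_ortho hR hg hg' h2 hne hne']
    decide
  rcases (two_iff hR hg' hh).1 h3 with h | h
  · rw [← h]; abel
  · exfalso
    rw [h, map_neg, hR.symm hd hg', hgd'] at h1
    exact absurd h1 (by decide)

end Fixed

section Frame

variable {R : Set A} {f : A → A →+ ZMod 4} {s : A →+ A}

/-- An inverted root `g`, a second root `g'` over the same involution, a root `d` linked to both. -/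
structure PF (R : Set A) (f : A → A →+ ZMod 4) (s : A →+ A) (g g' d : A) : Prop where
  hg : g ∈ R
  hg' : g' ∈ R
  hd : d ∈ R
  sg : s g = -g
  two : g' + g' = g + g
  ne : g' ≠ g
  ne' : g' ≠ -g
  gd : f g d = -1
  gd' : f g' d = 1

/-- Choice of signs. -/
theorem exists_pf (hR : RM R f) {g g' d : A} (hg : g ∈ R) (hg' : g' ∈ R)
    (hd : d ∈ R) (hsg : s g = -g) (h2 : g' + g' = g + g) (hne : g' ≠ g) (hne' : g' ≠ -g)
    (hgd : f g d = -1) : PF R f s g g' d ∨ PF R f s g (-g') d := by
  rcases pair_odd hR hg hg' hd h2 (Or.inr hgd) with h | h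
  · exact Or.inl ⟨hg, hg', hd, hsg, h2, hne, hne', hgd, h⟩
  · refine Or.inr ⟨hg, hR.neg hg', hd, hsg, ?_, ?_, ?_, hgd, ?_⟩
    · rw [neg_two (hR.four hg'), h2]
    · intro h3; exact hne' (by rw [← h3, neg_neg])
    · intro h3; exact hne (neg_injective h3)
    · rw [hR.fneg hg', h]; decide

variable {g g' d : A}

theorem PF.sd (h : PF R f s g g' d) (hR : RM R f) (hs : Ez R f s) : s d = d + g - g' :=
  pair_eq hR hs h.hg h.hg' h.hd h.sg h.two h.ne h.ne' h.gd h.gd'

theorem PF.sg' (h : PF R f s g g' d) (hR : RM R f) (hs : Ez R f s) : s g' = -g' :=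
  pair_inv hR hs h.hg h.hg' h.hd h.sg h.two h.ne h.ne' h.gd

theorem PF.ortho (h : PF R f s g g' d) (hR : RM R f) : f g g' = 0 :=
  pair_ortho hR h.hg h.hg' h.two h.ne h.ne'

/-- no third root over the involution (`r = 2`) -/
theorem PF.third (h : PF R f s g g' d) (hR : RM R f) (hs : Ez R f s) {x : A} (hx : x ∈ R)
    (h2 : x + x = g + g) : x = g ∨ x = -g ∨ x = g' ∨ x = -g' := by
  by_cases h3 : x = g
  · exact Or.inl h3
  by_cases h4 : x = -g
  · exact Or.inr (Or.inl h4)
  have h0 := h.sd hR hs
  rcases exists_pf hR h.hg hx h.hd h.sg h2 h3 h4 h.gd with h5 | h5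
  · have h6 := h5.sd hR hs
    rw [h0, sub_right_inj] at h6
    exact Or.inr (Or.inr (Or.inl h6.symm))
  · have h6 := h5.sd hR hs
    rw [h0, sub_right_inj] at h6
    exact Or.inr (Or.inr (Or.inr (by rw [h6, neg_neg])))

/-- replace `d` -/
theorem PF.of_d (h : PF R f s g g' d) {e : A} (he : e ∈ R) (h1 : f g e = -1) (h2 : f g' e = 1) :
    PF R f s g g' e :=
  ⟨h.hg, h.hg', he, h.sg, h.two, h.ne, h.ne', h1, h2⟩

/-- no root orthogonal to `g` is linked to `d` -/
theorem PF.no_ortho (h : PF R f s g g' d) (hR : RM R f) (hs : Ez R f s) {e : A} (he : e ∈ R)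
    (h1 : f g e = 0) (h2 : e ≠ g') (h2' : e ≠ -g') : f d e = 0 := by
  have h3 : f g' e = 0 := pair_even hR h.hg h.hg' he h.two h1 h2 h2'
  have key : ∀ e : A, e ∈ R → f g e = 0 → f g' e = 0 → f d e ≠ -1 := by
    intro e he h1 h3 h4
    have h5 : d + e ∈ R := hR.add h.hd he h4
    have h6 : PF R f s g g' (d + e) :=
      h.of_d h5 (by rw [map_add, h1, h.gd, add_zero]) (by rw [map_add, h3, h.gd', add_zero])
    have h7 := h6.sd hR hs
    rw [map_add, h.sd hR hs] at h7
    refine hs.nofix he ?_
    have h8 : s e = (d + g - g' + s e) - (d + g - g') := by abel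
    rw [h8, h7]; abel
  rcases cases hR h.hd he with h4 | h4 | h4 | h4 | h4
  · rw [h4, h.gd] at h1; exact absurd h1 (by decide)
  · rw [h4, map_neg, h.gd] at h1; exact absurd h1 (by decide)
  · exact h4
  · exact absurd (by rw [map_neg, h4]) (key (-e) (hR.neg he) (by rw [map_neg, h1, neg_zero])
      (by rw [map_neg, h3, neg_zero]))
  · exact absurd h4 (key e he h1 h3)

/-- two roots with the products of `d`: `d` and `- s d` -/
theorem PF.same (h : PF R f s g g' d) (hR : RM R f) (hs : Ez R f s) {e : A} (he : e ∈ R)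
    (h1 : f g e = -1) (h2 : f g' e = 1) : e = d ∨ e = -s d := by
  have hsd := h.sd hR hs
  rcases cases hR h.hd he with h3 | h3 | h3 | h3 | h3
  · exact Or.inl h3
  · exfalso
    rw [h3, map_neg, h.gd] at h1; exact absurd h1 (by decide)
  · right
    have hg1 : f e g = -1 := by rw [hR.symm he h.hg, h1]
    have hg2 : f e g' = 1 := by rw [hR.symm he h.hg', h2]
    have hg3 : f e d = 0 := by rw [hR.symm he h.hd, h3]
    have h4 : f e (s d) = 2 := by
      rw [hsd, map_sub, map_add, hg1, hg2, hg3]; decide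
    rcases (two_iff hR he (hs.maps h.hd)).1 h4 with h5 | h5
    · exfalso
      have h6 : f g (s d) = 1 := by
        rw [hsd, map_sub, map_add, h.gd, hR.self h.hg, h.ortho hR]; decide
      rw [h5, h1] at h6
      exact absurd h6 (by decide)
    · rw [h5, neg_neg]
  · exfalso
    have h4 := sub_mem hR h.hd he h3
    have h5 : f d (e - d) = 0 := h.no_ortho hR hs h4 (by rw [map_sub, h1, h.gd, sub_self]) (by
        intro h6
        have : f g' (e - d) = 2 := by rw [h6, hR.self h.hg']
        rw [map_sub, h2, h.gd'] at this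
        exact absurd this (by decide)) (by
        intro h6
        have : f g' (e - d) = -2 := by rw [h6, map_neg, hR.self h.hg']
        rw [map_sub, h2, h.gd'] at this
        exact absurd this (by decide))
    rw [map_sub, h3, hR.self h.hd] at h5
    exact absurd h5 (by decide)
  · exfalso
    have h4 := hR.add h.hd he h3
    have h5 : f g (d + e) = 2 := by rw [map_add, h.gd, h1]; decide
    have h6 : f g' (d + e) = 2 := by rw [map_add, h.gd', h2]; decide
    have h7 := h.ne
    have h8 := h.ne'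
    rcases (two_iff hR h.hg h4).1 h5 with h9 | h9 <;>
      rcases (two_iff hR h.hg' h4).1 h6 with h10 | h10
    · exact h7 (h10.symm.trans h9)
    · exact h8 (by rw [← h9, h10, neg_neg])
    · exact h8 (h10.symm.trans h9)
    · exact h7 (neg_injective (h10.symm.trans h9))

/-- The roots linked to `g`. -/
theorem PF.linked (h : PF R f s g g' d) (hR : RM R f) (hs : Ez R f s) {e : A} (he : e ∈ R)
    (h1 : f g e = -1) : e = d ∨ e = -s d ∨ e = d - g' ∨ e = -(d + g) := by
  have hsd := h.sd hR hs
  rcases pair_odd hR h.hg h.hg' he h.two (Or.inr h1) with h2 | h2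
  · rcases h.same hR hs he h1 h2 with h3 | h3
    · exact Or.inl h3
    · exact Or.inr (Or.inl h3)
  · have h4 := hR.add h.hg' he h2
    have h5 : f g (g' + e) = -1 := by rw [map_add, h.ortho hR, h1, zero_add]
    have h6 : f g' (g' + e) = 1 := by rw [map_add, hR.self h.hg', h2]; decide
    rcases h.same hR hs h4 h5 h6 with h3 | h3
    · right; right; left
      rw [← h3]; abel
    · right; right; right
      rw [hsd] at h3
      have : e = (g' + e) - g' := by abel
      rw [this, h3]; abel

/-- The component of `g` consists of 12 roots. -/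
theorem PF.comp (h : PF R f s g g' d) (hR : RM R f) (hs : Ez R f s) {x : A}
    (hx : Conn R f g x) :
    x = g ∨ x = -g ∨ x = g' ∨ x = -g' ∨
      (∃ e, (e = d ∨ e = -s d ∨ e = d - g' ∨ e = -(d + g)) ∧ (x = e ∨ x = -e)) := by
  have key : ∀ e, e ∈ R → (f g e = 1 ∨ f g e = -1) →
      (∃ e', (e' = d ∨ e' = -s d ∨ e' = d - g' ∨ e' = -(d + g)) ∧ (e = e' ∨ e = -e')) := by
    intro e he h1
    rcases h1 with h1 | h1
    · refine ⟨-e, h.linked hR hs (hR.neg he) (by rw [map_neg, h1]), Or.inr (neg_neg e).symm⟩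
    · exact ⟨e, h.linked hR hs he h1, Or.inl rfl⟩
  have key2 : x = g ∨ x = -g ∨ x = g' ∨ x = -g' ∨ f g x = 1 ∨ f g x = -1 := by
    induction hx with
    | refl => exact Or.inl rfl
    | @tail x y hx hxy ih =>
      obtain ⟨hxR, hyR, hne⟩ := hxy
      by_cases hy1 : y = g
      · exact Or.inl hy1
      by_cases hy2 : y = -g
      · exact Or.inr (Or.inl hy2)
      by_cases hy3 : y = g'
      · exact Or.inr (Or.inr (Or.inl hy3))
      by_cases hy4 : y = -g'
      · exact Or.inr (Or.inr (Or.inr (Or.inl hy4)))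
      right; right; right; right
      rcases hR.small h.hg hyR hy1 hy2 with h1 | h1
      · exfalso
        have h1' := pair_even hR h.hg h.hg' hyR h.two h1 hy3 hy4
        have key3 : ∀ x, x ∈ R → f g x = -1 → f x y = 0 := by
          intro x hx hgx
          rcases exists_pf hR h.hg h.hg' hx h.sg h.two h.ne h.ne' hgx with h2 | h2
          · exact h2.no_ortho hR hs hyR h1 hy3 hy4
          · exact h2.no_ortho hR hs hyR h1 hy4 (by rwa [neg_neg])
        rcases ih with ih | ih | ih | ih | ih | ih
        · rw [ih] at hne; exact hne h1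
        · rw [ih, hR.fneg h.hg, h1, neg_zero] at hne; exact hne rfl
        · rw [ih] at hne; exact hne h1'
        · rw [ih, hR.fneg h.hg', h1', neg_zero] at hne; exact hne rfl
        · have h2 := key3 (-x) (hR.neg hxR) (by rw [map_neg, ih])
          rw [hR.fneg hxR, neg_eq_zero] at h2
          exact hne h2
        · exact hne (key3 x hxR ih)
      · exact h1
  have hxR := hx.mem h.hg
  rcases key2 with h1 | h1 | h1 | h1 | h1
  · exact Or.inl h1
  · exact Or.inr (Or.inl h1)
  · exact Or.inr (Or.inr (Or.inl h1))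
  · exact Or.inr (Or.inr (Or.inr (Or.inl h1)))
  · exact Or.inr (Or.inr (Or.inr (Or.inr (key x hxR h1))))

end Frame

section Count

variable {R : Set A} {f : A → A →+ ZMod 4} {s : A →+ A}

/-- `C_U(s)`: the elements of order at most 2 fixed by `s`. -/
def CU (s : A →+ A) : AddSubgroup A where
  carrier := {u | u + u = 0 ∧ s u = u}
  zero_mem' := by simp
  add_mem' := by
    rintro a b ⟨ha, ha'⟩ ⟨hb, hb'⟩
    refine ⟨?_, by rw [map_add, ha', hb']⟩
    have : a + b + (a + b) = (a + a) + (b + b) := by abel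
    rw [this, ha, hb, add_zero]
  neg_mem' := by
    rintro a ⟨ha, ha'⟩
    refine ⟨?_, by rw [map_neg, ha']⟩
    rw [← neg_add, ha, neg_zero]

theorem mem_CU {s : A →+ A} {u : A} : u ∈ CU s ↔ u + u = 0 ∧ s u = u := Iff.rfl

theorem add_s_mem_CU (hs : Iv R f s) {u : A} (hu : u + u = 0) : u + s u ∈ CU s := by
  refine mem_CU.2 ⟨?_, by rw [map_add, hs.invol]; abel⟩
  have : u + s u + (u + s u) = (u + u) + s (u + u) := by rw [map_add]; abel
  rw [this, hu, map_zero, add_zero]

theorem card_ge {ι : Type*} [Fintype ι] [DecidableEq ι] [Finite A] (E : AddSubgroup A)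
    (u : ι → A) (φ : ι → A →+ ZMod 4) (h : ∀ i j, φ i (u j) = if i = j then 2 else 0)
    (hu : ∀ i, u i ∈ E) : 2 ^ Fintype.card ι ≤ Nat.card E := by
  classical
  let F : Finset ι → E := fun S => ⟨∑ i ∈ S, u i, AddSubgroup.sum_mem E (fun i _ => hu i)⟩
  have hval : ∀ (S : Finset ι) (i : ι), φ i (F S : A) = if i ∈ S then 2 else 0 := by
    intro S i
    simp only [F]
    rw [map_sum, Finset.sum_congr rfl (fun j _ => h i j)]
    simp
  have hinj : Function.Injective F := by
    intro S T hST
    ext i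
    have h1 := hval S i
    rw [hST, hval T i] at h1
    by_cases hS : i ∈ S <;> by_cases hT : i ∈ T
    · exact ⟨fun _ => hT, fun _ => hS⟩
    · rw [if_pos hS, if_neg hT] at h1; exact absurd h1 (by decide)
    · rw [if_neg hS, if_pos hT] at h1; exact absurd h1 (by decide)
    · exact ⟨fun h => absurd h hS, fun h => absurd h hT⟩
  have h1 := Nat.card_le_card_of_injective F hinj
  rwa [Nat.card_eq_fintype_card, Fintype.card_finset] at h1

theorem eq_of_card_two [Finite A] (E : AddSubgroup A) (hE : Nat.card E ≤ 2) {a b : A}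
    (ha : a ∈ E) (hb : b ∈ E) (ha0 : a ≠ 0) (hb0 : b ≠ 0) : a = b := by
  by_contra hab
  have h1 : ({0, a, b} : Set A) ⊆ (E : Set A) := by
    rintro x (rfl | rfl | rfl)
    · exact E.zero_mem
    · exact ha
    · exact hb
  have h2 := Set.ncard_le_ncard h1 (Set.toFinite _)
  have h3 : ({0, a, b} : Set A).ncard = 3 := by
    rw [Set.ncard_eq_three]
    exact ⟨0, a, b, ha0.symm, hb0.symm, hab, rfl⟩
  rw [h3] at h2
  have h4 : (E : Set A).ncard = Nat.card E := rfl
  omega

theorem four_of_card [Finite A] (E : AddSubgroup A) (hE : Nat.card E ≤ 4) {a b : A}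
    (ha : a ∈ E) (hb : b ∈ E) (φ ψ : A →+ ZMod 4) (h1 : φ a = 2) (h2 : φ b = 0) (h3 : ψ a = 0)
    (h4 : ψ b = 2) : ∀ u ∈ E, u = 0 ∨ u = a ∨ u = b ∨ u = a + b := by
  classical
  have hsub : ((({0, a, b, a + b} : Finset A)) : Set A) ⊆ (E : Set A) := by
    intro x hx
    simp only [Finset.coe_insert, Finset.coe_singleton, Set.mem_insert_iff,
      Set.mem_singleton_iff] at hx
    rcases hx with rfl | rfl | rfl | rfl
    · exact E.zero_mem
    · exact ha
    · exact hb
    · exact E.add_mem ha hb
  have d1 : (0 : A) ≠ a := by rintro rfl; rw [map_zero] at h1; exact absurd h1 (by decide)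
  have d2 : (0 : A) ≠ b := by rintro rfl; rw [map_zero] at h4; exact absurd h4 (by decide)
  have d3 : (0 : A) ≠ a + b := by
    intro h
    have h5 : φ (a + b) = 0 := by rw [← h, map_zero]
    rw [map_add, h1, h2] at h5; exact absurd h5 (by decide)
  have d4 : a ≠ b := by rintro rfl; rw [h1] at h2; exact absurd h2 (by decide)
  have d5 : a ≠ a + b := by
    intro h
    exact d2.symm (by simpa using h)
  have d6 : b ≠ a + b := by
    intro h
    exact d1.symm (by simpa using h)
  have hcard : ({0, a, b, a + b} : Finset A).card = 4 := by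
    rw [Finset.card_insert_of_notMem (by simp [d1, d2, d3]),
      Finset.card_insert_of_notMem (by simp only [Finset.mem_insert, Finset.mem_singleton, not_or]; exact ⟨d4, d5⟩),
      Finset.card_insert_of_notMem (by simpa only [Finset.mem_singleton] using d6),
      Finset.card_singleton]
  have h5 : ((({0, a, b, a + b} : Finset A)) : Set A) = (E : Set A) := by
    refine Set.eq_of_subset_of_ncard_le hsub ?_ (Set.toFinite _)
    rw [Set.ncard_coe_finset, hcard]
    exact hE
  intro u hu
  have h6 : u ∈ ((({0, a, b, a + b} : Finset A)) : Set A) := by rw [h5]; exact hu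
  simpa using h6

/-- the roots over `z` -/
def fib (R : Set A) (z : A) : Set A := {v | v ∈ R ∧ v + v = z}

/-- Roots over the same involution with the same product `1` with `d`. -/
structure Ov (R : Set A) (f : A → A →+ ZMod 4) (z d : A) (v : A) : Prop where
  mem : v ∈ R
  two : v + v = z
  prod : f v d = 1

theorem Ov.ortho (hR : RM R f) {z d v w : A} (hv : Ov R f z d v)
    (hw : Ov R f z d w) (hne : w ≠ v) : f v w = 0 := by
  refine pair_ortho hR hv.mem hw.mem (by rw [hv.two, hw.two]) hne ?_
  intro h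
  have h1 := hw.prod
  rw [h, hR.fneg hv.mem, hv.prod] at h1
  exact absurd h1 (by decide)

/-- subtracting members successively -/
theorem Ov.sub (hR : RM R f) {z d v x : A} (hv : Ov R f z d v) (hx : x ∈ R) (h : f v x = 1) :
    x - v ∈ R := sub_mem hR hv.mem hx h

/-- three members give a fourth -/
theorem Ov.fourth (hR : RM R f) {z d a b c : A} (hd : d ∈ R) (ha : Ov R f z d a)
    (hb : Ov R f z d b) (hc : Ov R f z d c) (hab : b ≠ a) (hac : c ≠ a) (hbc : c ≠ b) :
    Ov R f z d (d + d - a - b - c) ∧ d + d - a - b - c ≠ a ∧ d + d - a - b - c ≠ b ∧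
      d + d - a - b - c ≠ c := by
  have hab0 := ha.ortho hR hb hab
  have hac0 := ha.ortho hR hc hac
  have hbc0 := hb.ortho hR hc hbc
  have hba0 : f b a = 0 := by rw [hR.symm hb.mem ha.mem, hab0]
  have hca0 : f c a = 0 := by rw [hR.symm hc.mem ha.mem, hac0]
  have hcb0 : f c b = 0 := by rw [hR.symm hc.mem hb.mem, hbc0]
  have hda : f d a = 1 := by rw [hR.symm hd ha.mem, ha.prod]
  have hdb : f d b = 1 := by rw [hR.symm hd hb.mem, hb.prod]
  have hdc : f d c = 1 := by rw [hR.symm hd hc.mem, hc.prod]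
  have h1 : d - a ∈ R := ha.sub hR hd ha.prod
  have h2 : d - a - b ∈ R := hb.sub hR h1 (by rw [map_sub, hb.prod, hba0]; decide)
  have h3 : d - a - b - c ∈ R :=
    hc.sub hR h2 (by rw [map_sub, map_sub, hc.prod, hca0, hcb0]; decide)
  have h4 : d + (d - a - b - c) ∈ R := by
    refine hR.add hd h3 ?_
    rw [map_sub, map_sub, map_sub, hR.self hd, hda, hdb, hdc]; decide
  have h5 : d + (d - a - b - c) = d + d - a - b - c := by abel
  rw [h5] at h4
  have fa : f a (d + d - a - b - c) = 0 := by
    rw [map_sub, map_sub, map_sub, map_add, ha.prod, hR.self ha.mem, hab0, hac0]; decide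
  have fb : f b (d + d - a - b - c) = 0 := by
    rw [map_sub, map_sub, map_sub, map_add, hb.prod, hR.self hb.mem, hba0, hbc0]; decide
  have fc : f c (d + d - a - b - c) = 0 := by
    rw [map_sub, map_sub, map_sub, map_add, hc.prod, hR.self hc.mem, hca0, hcb0]; decide
  refine ⟨⟨h4, ?_, ?_⟩, ?_, ?_, ?_⟩
  · have h6 : d + d - a - b - c + (d + d - a - b - c) =
        ((d + d) + (d + d)) - (a + a) - (b + b) - (c + c) := by abel
    rw [h6, hR.four hd, ha.two, hb.two, hc.two]
    have h7 : z + z = 0 := by rw [← ha.two, hR.four ha.mem]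
    have h8 : (0 : A) - z - z - z = -(z + z) - (z + z) + z := by abel
    rw [h8, h7]; abel
  · rw [hR.symm h4 hd, map_sub, map_sub, map_sub, map_add, hR.self hd, hda, hdb, hdc]; decide
  · intro h; rw [h, hR.self ha.mem] at fa; exact absurd fa (by decide)
  · intro h; rw [h, hR.self hb.mem] at fb; exact absurd fb (by decide)
  · intro h; rw [h, hR.self hc.mem] at fc; exact absurd fc (by decide)

/-- five members do not exist -/
theorem Ov.not_five (hR : RM R f) {z d a b c e x : A} (hd : d ∈ R) (ha : Ov R f z d a)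
    (hb : Ov R f z d b) (hc : Ov R f z d c) (he : Ov R f z d e) (hx : Ov R f z d x)
    (hab : b ≠ a) (hac : c ≠ a) (hbc : c ≠ b) (hae : e ≠ a) (hbe : e ≠ b) (hce : e ≠ c)
    (hax : x ≠ a) (hbx : x ≠ b) (hcx : x ≠ c) (hex : x ≠ e) : False := by
  have o : ∀ {v w : A}, Ov R f z d v → Ov R f z d w → w ≠ v → f v w = 0 ∧ f w v = 0 := by
    intro v w hv hw h
    have h1 := hv.ortho hR hw h
    exact ⟨h1, by rw [hR.symm hw.mem hv.mem, h1]⟩
  have hdv : ∀ {v : A}, Ov R f z d v → f d v = 1 := by
    intro v hv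
    rw [hR.symm hd hv.mem, hv.prod]
  have h1 : d - a ∈ R := ha.sub hR hd ha.prod
  have h2 : d - a - b ∈ R := hb.sub hR h1 (by rw [map_sub, hb.prod, (o ha hb hab).2]; decide)
  have h3 : d - a - b - c ∈ R :=
    hc.sub hR h2 (by rw [map_sub, map_sub, hc.prod, (o ha hc hac).2, (o hb hc hbc).2]; decide)
  have h4 : d - a - b - c - e ∈ R :=
    he.sub hR h3 (by rw [map_sub, map_sub, map_sub, he.prod, (o ha he hae).2, (o hb he hbe).2,
      (o hc he hce).2]; decide)
  have h5 : d - a - b - c - e - x ∈ R :=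
    hx.sub hR h4 (by rw [map_sub, map_sub, map_sub, map_sub, hx.prod, (o ha hx hax).2,
      (o hb hx hbx).2, (o hc hx hcx).2, (o he hx hex).2]; decide)
  have h6 : f d (d - a - b - c - e - x) = 1 := by
    rw [map_sub, map_sub, map_sub, map_sub, map_sub, hR.self hd, hdv ha, hdv hb, hdv hc, hdv he,
      hdv hx]; decide
  have h7 := sub_mem hR hd h5 h6
  have h8 : f a (d - a - b - c - e - x - d) = 2 := by
    rw [map_sub, map_sub, map_sub, map_sub, map_sub, map_sub, ha.prod, hR.self ha.mem,
      (o ha hb hab).1, (o ha hc hac).1, (o ha he hae).1, (o ha hx hax).1]; decide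
  have h9 : f b (d - a - b - c - e - x - d) = 2 := by
    rw [map_sub, map_sub, map_sub, map_sub, map_sub, map_sub, hb.prod, hR.self hb.mem,
      (o ha hb hab).2, (o hb hc hbc).1, (o hb he hbe).1, (o hb hx hbx).1]; decide
  have h10 := (o ha hb hab).1
  rcases (two_iff hR ha.mem h7).1 h8 with h11 | h11 <;>
    rcases (two_iff hR hb.mem h7).1 h9 with h12 | h12
  · exact hab (h12.symm.trans h11)
  · rw [h11] at h12
    rw [h12, hR.fneg hb.mem, hR.self hb.mem] at h10
    exact absurd h10 (by decide)
  · rw [h11] at h12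
    rw [← h12, map_neg, hR.self ha.mem] at h10
    exact absurd h10 (by decide)
  · exact hab (neg_injective (h12.symm.trans h11))

omit [AddCommGroup A] in
theorem ncard_le_length {E : Set A} (l : List A) (h : ∀ x ∈ E, x ∈ l) : E.ncard ≤ l.length := by
  classical
  have h1 : E ⊆ (l.toFinset : Set A) := by
    intro x hx
    simpa using h x hx
  have h2 := Set.ncard_le_ncard h1 (Finset.finite_toSet _)
  rw [Set.ncard_coe_finset] at h2
  exact h2.trans (List.toFinset_card_le l)

/-- The number of roots over an involution: 2, 4 or 8. -/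
theorem tri (hR : RM R f) {z g d : A} (hd : d ∈ R) (hg : Ov R f z d g) :
    ((fib R z).ncard ≤ 2 ∧ ∀ v, Ov R f z d v → v = g) ∨
    ((fib R z).ncard ≤ 4 ∧ ∃ g', Ov R f z d g' ∧ g' ≠ g) ∨
    ((fib R z).ncard ≤ 8 ∧ ∃ a b c, Ov R f z d a ∧ Ov R f z d b ∧ Ov R f z d c ∧ a ≠ g ∧ b ≠ g ∧
      c ≠ g ∧ b ≠ a ∧ c ≠ a ∧ c ≠ b) := by
  have hfib : ∀ v ∈ fib R z, Ov R f z d v ∨ Ov R f z d (-v) := by
    rintro v ⟨hv, hv2⟩
    have h2 : v + v = g + g := by rw [hv2, hg.two]
    rcases pair_odd hR hg.mem hv hd h2 (Or.inl hg.prod) with h | h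
    · exact Or.inl ⟨hv, hv2, h⟩
    · refine Or.inr ⟨hR.neg hv, by rw [neg_two (hR.four hv), hv2], ?_⟩
      rw [hR.fneg hv, h]; decide
  by_cases h1 : ∀ v, Ov R f z d v → v = g
  · left
    refine ⟨ncard_le_length [g, -g] ?_, h1⟩
    intro v hv
    rcases hfib v hv with h | h
    · simp [h1 v h]
    · have := h1 _ h
      simp [← this]
  right
  push Not at h1
  obtain ⟨a, ha, hag⟩ := h1
  by_cases h2 : ∀ v, Ov R f z d v → v = g ∨ v = a
  · left
    refine ⟨ncard_le_length [g, -g, a, -a] ?_, a, ha, hag⟩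
    intro v hv
    rcases hfib v hv with h | h
    · rcases h2 v h with h3 | h3 <;> simp [h3]
    · rcases h2 _ h with h3 | h3 <;> simp [← h3]
  right
  push Not at h2
  obtain ⟨b, hb, hbg, hba⟩ := h2
  obtain ⟨hc, hcg, hca, hcb⟩ := Ov.fourth hR hd hg ha hb hag hbg hba
  refine ⟨?_, a, b, _, ha, hb, hc, hag, hbg, hcg, hba, hca, hcb⟩
  generalize d + d - g - a - b = c at hc hcg hca hcb
  have h3 : ∀ v, Ov R f z d v → v = g ∨ v = a ∨ v = b ∨ v = c := by
    intro v hv
    by_contra hcon
    push Not at hcon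
    exact Ov.not_five hR hd hg ha hb hc hv hag hbg hba hcg hca hcb hcon.1 hcon.2.1 hcon.2.2.1
      hcon.2.2.2
  refine ncard_le_length [g, -g, a, -a, b, -b, c, -c] ?_
  intro v hv
  rcases hfib v hv with h | h
  · rcases h3 v h with h4 | h4 | h4 | h4 <;> simp [h4]
  · rcases h3 _ h with h4 | h4 | h4 | h4 <;> simp [← h4]

/-- products with images in a component moved by `s` vanish -/
theorem img_ortho (hs : Iv R f s) {g v w : A} (hg : g ∈ R) (hmv : ¬ Conn R f g (s g))
    (hR : RM R f) (hv : Conn R f g v) (hw : Conn R f g w) : f v (s w) = 0 := by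
  refine ortho_of_not_conn (hv.mem hg) (hs.maps (hw.mem hg)) ?_
  intro h
  exact hmv (hv.trans (h.trans ((hw.map hs).symm hR)))

theorem moved_two [Finite A] (hR : RM R f) (hs : Iv R f s) {g d : A} (hg : g ∈ R) (hd : d ∈ R)
    (hgd : f g d = 1) (hmv : ¬ Conn R f g (s g)) : 4 ≤ Nat.card (CU s) := by
  have hcd : Conn R f g d := Conn.step hg hd (by rw [hgd]; decide)
  have hdg : f d g = 1 := by rw [hR.symm hd hg, hgd]
  have h := card_ge (CU s) (fun i : Fin 2 => if i = 0 then (g + g) + s (g + g) else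
      (d + d) + s (d + d)) (fun i : Fin 2 => if i = 0 then f d else f g) (by
    have o := fun {v w : A} => img_ortho (v := v) (w := w) hs hg hmv hR
    intro i j
    fin_cases i <;> fin_cases j <;>
      simp [map_add, o hcd (Conn.refl g), o hcd hcd, o (Conn.refl g) hcd,
        o (Conn.refl g) (Conn.refl g), hdg, hgd, hR.self hg, hR.self hd] <;> decide) (by
    intro i
    fin_cases i
    · exact add_s_mem_CU hs (hR.four hg)
    · exact add_s_mem_CU hs (hR.four hd))
  simpa using h

theorem sub_two {z a b : A} (ha : a + a = z) (hb : b + b = z) :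
    (a - b) + (a - b) = 0 := by
  have : (a - b) + (a - b) = (a + a) - (b + b) := by abel
  rw [this, ha, hb, sub_self]

theorem moved_four [Finite A] (hR : RM R f) (hs : Iv R f s) {z g a b c d : A} (hd : d ∈ R)
    (hg : Ov R f z d g) (ha : Ov R f z d a) (hb : Ov R f z d b) (hc : Ov R f z d c)
    (hga : a ≠ g) (hgb : b ≠ g) (hgc : c ≠ g) (hab : b ≠ a) (hac : c ≠ a) (hbc : c ≠ b)
    (hmv : ¬ Conn R f g (s g)) : 16 ≤ Nat.card (CU s) := by
  have o : ∀ {v w : A}, Ov R f z d v → Ov R f z d w → w ≠ v → f v w = 0 ∧ f w v = 0 := by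
    intro v w hv hw h
    have h1 := hv.ortho hR hw h
    exact ⟨h1, by rw [hR.symm hw.mem hv.mem, h1]⟩
  have hdv : ∀ {v : A}, Ov R f z d v → f d v = 1 := by
    intro v hv
    rw [hR.symm hd hv.mem, hv.prod]
  have cd : Conn R f g d := Conn.step hg.mem hd (by rw [hg.prod]; decide)
  have cv : ∀ {v : A}, Ov R f z d v → Conn R f g v := by
    intro v hv
    exact cd.trans (Conn.step hd hv.mem (by rw [hdv hv]; decide))
  have m := fun {v w : A} => img_ortho (v := v) (w := w) hs hg.mem hmv hR
  let u : Fin 4 → A := ![g + g, a - g, b - g, c - g]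
  let φ : Fin 4 → (A →+ ZMod 4) := ![f d, f a, f b, f c]
  have hu2 : ∀ i, u i + u i = 0 := by
    intro i
    fin_cases i
    · exact hR.four hg.mem
    · exact sub_two ha.two hg.two
    · exact sub_two hb.two hg.two
    · exact sub_two hc.two hg.two
  have h := card_ge (CU s) (fun i => u i + s (u i)) φ (by
    intro i j
    fin_cases i <;> fin_cases j <;>
      simp [u, φ, map_add, map_sub, m cd (Conn.refl g), m cd (cv ha), m cd (cv hb), m cd (cv hc),
        m (cv ha) (Conn.refl g), m (cv ha) (cv ha), m (cv ha) (cv hb), m (cv ha) (cv hc),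
        m (cv hb) (Conn.refl g), m (cv hb) (cv ha), m (cv hb) (cv hb), m (cv hb) (cv hc),
        m (cv hc) (Conn.refl g), m (cv hc) (cv ha), m (cv hc) (cv hb), m (cv hc) (cv hc),
        hdv hg, hdv ha, hdv hb, hdv hc, hR.self ha.mem, hR.self hb.mem, hR.self hc.mem,
        (o hg ha hga).2, (o hg hb hgb).2, (o hg hc hgc).2, (o ha hb hab).1, (o ha hb hab).2,
        (o ha hc hac).1, (o ha hc hac).2, (o hb hc hbc).1, (o hb hc hbc).2]
    all_goals decide) (by
    intro i
    exact add_s_mem_CU hs (hu2 i))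
  simpa using h

end Count

section Main

variable {R : Set A} {f : A → A →+ ZMod 4} {s : A →+ A}

/-- (T1): one component of type `A_3`, `A = Z_4 x Z_4` on the span, `s` fixes it. -/
structure T1 (R : Set A) (f : A → A →+ ZMod 4) (s : A →+ A) (g d : A) : Prop where
  hg : g ∈ R
  hd : d ∈ R
  gd : f g d = -1
  sg : s g = -g
  sd : s d = g + g - d
  g2 : d + d - g ∈ R
  d2 : g + g - d ∈ R
  add : g + d ∈ R
  sub : d - g ∈ R
  all : ∀ v ∈ R, ∃ e, (e = g ∨ e = d ∨ e = g + d ∨ e = d - g ∨ e = g + g - d ∨ e = d + d - g) ∧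
    (v = e ∨ v = -e)

/-- (T2): two components, interchanged by `s`, involutions `2 g, 2 d, 2 g + 2 d` in the first. -/
structure T2 (R : Set A) (f : A → A →+ ZMod 4) (s : A →+ A) (g d : A) : Prop where
  hg : g ∈ R
  hd : d ∈ R
  gd : f g d = -1
  moved : ¬ Conn R f g (s g)
  g2 : d + d - g ∈ R
  all : ∀ v ∈ R, Conn R f g v ∨ Conn R f (s g) v
  two : ∀ v, Conn R f g v → v + v = g + g ∨ v + v = d + d ∨ v + v = (g + g) + (d + d)
  cu : ∀ u ∈ CU s, u = 0 ∨ u = (g + g) + s (g + g) ∨ u = (d + d) + s (d + d) ∨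
    u = (g + g) + s (g + g) + ((d + d) + s (d + d))

theorem not_four_of_inv (hR : RM R f) (hs : Ez R f s) {g d a b : A} (hg : g ∈ R) (hd : d ∈ R)
    (hsg : s g = -g) (hgd : f g d = -1) (ha : Ov R f (g + g) (-d) a) (hb : Ov R f (g + g) (-d) b)
    (hga : a ≠ g) (hgb : b ≠ g) (hab : b ≠ a) : False := by
  have hpg : f (-g) (-d) = -1 := by rw [map_neg, hR.fneg hg, hgd]; decide
  have hne' : a ≠ -g := by
    intro h
    have := ha.prod
    rw [h, hpg] at this
    exact absurd this (by decide)
  have hnb' : b ≠ -g := by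
    intro h
    have := hb.prod
    rw [h, hpg] at this
    exact absurd this (by decide)
  have hba : b ≠ -a := by
    intro h
    have := hb.prod
    rw [h, hR.fneg ha.mem, ha.prod] at this
    exact absurd this (by decide)
  rcases exists_pf hR hg ha.mem hd hsg ha.two hga hne' hgd with h | h
  · rcases h.third hR hs hb.mem hb.two with h1 | h1 | h1 | h1
    · exact hgb h1
    · exact hnb' h1
    · exact hab h1
    · exact hba h1
  · rcases h.third hR hs hb.mem hb.two with h1 | h1 | h1 | h1
    · exact hgb h1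
    · exact hnb' h1
    · exact hba h1
    · exact hab (by rw [h1, neg_neg])

/-- no root outside the span of the four elements -/
theorem out_of_four (hR : RM R f) (hs : Ez R f s) (hlk : ∀ v ∈ R, ∃ w ∈ R, f v w = -1)
    {v : A} (hv : v ∈ R) (P : A → Prop)
    (h1 : ∀ w, Conn R f v w → ∀ u ∈ CU s, P u → f w u = 0) : ∃ u ∈ CU s, ¬ P u := by
  by_contra hcon
  push Not at hcon
  by_cases hc : Conn R f v (s v)
  · obtain ⟨g, hvg, hg⟩ := exists_line hR hs.toIv hv hc
    have hgR := hvg.mem hv
    have hsg : s g = -g := by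
      rcases hg with hg | hg
      · exact absurd hg (hs.nofix hgR)
      · exact hg
    obtain ⟨w, hw, hgw⟩ := hlk g hgR
    have hcw : Conn R f v w := hvg.trans (Conn.step hgR hw (by rw [hgw]; decide))
    have hu : g + g ∈ CU s := by
      refine mem_CU.2 ⟨hR.four hgR, ?_⟩
      rw [map_add, hsg, neg_two (hR.four hgR)]
    have h2 := h1 w hcw _ hu (hcon _ hu)
    rw [map_add, hR.symm hw hgR, hgw] at h2
    exact absurd h2 (by decide)
  · obtain ⟨w, hw, hvw⟩ := hlk v hv
    have hcw : Conn R f v w := Conn.step hv hw (by rw [hvw]; decide)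
    have hu : (v + v) + s (v + v) ∈ CU s := add_s_mem_CU hs.toIv (hR.four hv)
    have h2 := h1 w hcw _ hu (hcon _ hu)
    have h3 := img_ortho hs.toIv hv hc hR hcw (Conn.refl v)
    rw [map_add, map_add, map_add, map_add, hR.symm hw hv, hvw, h3] at h2
    exact absurd h2 (by decide)

theorem case_one [Finite A] (hR : RM R f) (hs : Ez R f s) (hlk : ∀ v ∈ R, ∃ w ∈ R, f v w = -1)
    {g g' d : A} (h : PF R f s g g' d) (hC : Nat.card (CU s) ≤ 4) : T1 R f s g d := by
  have hsd := h.sd hR hs
  have hsg' := h.sg' hR hs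
  have hdg : f d g = -1 := by rw [hR.symm h.hd h.hg, h.gd]
  have hdg' : f d g' = 1 := by rw [hR.symm h.hd h.hg', h.gd']
  have hug : g + g ∈ CU s :=
    mem_CU.2 ⟨hR.four h.hg, by rw [map_add, h.sg, neg_two (hR.four h.hg)]⟩
  have hud : d + d ∈ CU s := by
    refine mem_CU.2 ⟨hR.four h.hd, ?_⟩
    rw [map_add, hsd]
    have : d + g - g' + (d + g - g') = d + d + (g + g) - (g' + g') := by abel
    rw [this, h.two]; abel
  have hu : g + g' ∈ CU s := by
    have h1 : g + g' + (g + g') = 0 := by
      have : g + g' + (g + g') = (g + g) + (g' + g') := by abel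
      rw [this, h.two, hR.four h.hg]
    refine mem_CU.2 ⟨h1, ?_⟩
    rw [map_add, h.sg, hsg', ← neg_add]
    exact neg_eq_of_add_eq_zero_left h1
  have h4 := four_of_card (CU s) hC hug hud (f d) (f g) (by rw [map_add, hdg]; decide)
    (by rw [map_add, hR.self h.hd]; decide) (by rw [map_add, hR.self h.hg]; decide)
    (by rw [map_add, h.gd]; decide)
  have hfg : f g (g + g') = 2 := by rw [map_add, hR.self h.hg, h.ortho hR]; decide
  have hfd : f d (g + g') = 0 := by rw [map_add, hdg, hdg']; decide
  have hrel : g + g' = d + d := by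
    rcases h4 _ hu with h5 | h5 | h5 | h5
    · exfalso
      rw [h5, map_zero] at hfg; exact absurd hfg (by decide)
    · exfalso
      rw [h5, map_add, hdg] at hfd; exact absurd hfd (by decide)
    · exact h5
    · exfalso
      rw [h5, map_add, map_add, map_add, hdg, hR.self h.hd] at hfd; exact absurd hfd (by decide)
  have hg' : g' = d + d - g := by rw [← hrel]; abel
  have hsd' : s d = g + g - d := by rw [hsd, hg']; abel
  have hadd : g + d ∈ R := hR.add h.hg h.hd h.gd
  refine ⟨h.hg, h.hd, h.gd, h.sg, hsd', hg' ▸ h.hg', hsd' ▸ hs.maps h.hd, hadd, ?_, ?_⟩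
  · have h5 := sub_mem hR h.hg' h.hd h.gd'
    have h6 := hR.neg h5
    have h7 : -(d - g') = d - g := by rw [hg']; abel
    rwa [h7] at h6
  · intro v hv
    have hcv : Conn R f g v := by
      by_contra hcon
      obtain ⟨u, hu, hnot⟩ := out_of_four hR hs hlk hv
        (fun u => u = 0 ∨ u = g + g ∨ u = d + d ∨ u = g + g + (d + d)) (by
          intro w hw u hu hP
          have hwR := hw.mem hv
          have hcd : Conn R f g d := Conn.step h.hg h.hd (by rw [h.gd]; decide)
          have h5 : f w g = 0 := ortho_of_not_conn hwR h.hg (fun h6 =>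
            hcon ((hw.trans h6).symm hR))
          have h6 : f w d = 0 := ortho_of_not_conn hwR h.hd (fun h6 =>
            hcon (hcd.trans ((hw.trans h6).symm hR)))
          rcases hP with hP | hP | hP | hP <;> rw [hP] <;> simp [h5, h6])
      exact hnot (h4 u hu)
    rcases h.comp hR hs hcv with h5 | h5 | h5 | h5 | ⟨e, he, h5⟩
    · exact ⟨g, Or.inl rfl, Or.inl h5⟩
    · exact ⟨g, Or.inl rfl, Or.inr h5⟩
    · exact ⟨d + d - g, by simp, Or.inl (by rw [h5, hg'])⟩
    · exact ⟨d + d - g, by simp, Or.inr (by rw [h5, hg'])⟩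
    · rcases he with he | he | he | he
      · exact ⟨d, by simp, by rw [← he]; exact h5⟩
      · refine ⟨g + g - d, by simp, ?_⟩
        rw [he, hsd'] at h5
        rcases h5 with h5 | h5
        · exact Or.inr h5
        · exact Or.inl (by rw [h5]; abel)
      · refine ⟨d - g, by simp, ?_⟩
        rw [he, hg'] at h5
        rcases h5 with h5 | h5
        · exact Or.inr (by rw [h5]; abel)
        · exact Or.inl (by rw [h5]; abel)
      · refine ⟨g + d, by simp, ?_⟩
        rw [he] at h5
        rcases h5 with h5 | h5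
        · exact Or.inr (by rw [h5]; abel)
        · exact Or.inl (by rw [h5]; abel)

theorem case_two [Finite A] (hR : RM R f) (hs : Ez R f s) (hlk : ∀ v ∈ R, ∃ w ∈ R, f v w = -1)
    {g g' d : A} (hg : g ∈ R) (hg' : g' ∈ R) (hd : d ∈ R) (h2 : g' + g' = g + g)
    (hne : g' ≠ g) (hne' : g' ≠ -g) (hgd : f g d = -1) (hgd' : f g' d = 1)
    (hmv : ¬ Conn R f g (s g)) (hC : Nat.card (CU s) ≤ 4) : T2 R f s g d := by
  have hdg : f d g = -1 := by rw [hR.symm hd hg, hgd]
  have hdg' : f d g' = 1 := by rw [hR.symm hd hg', hgd']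
  have hcd : Conn R f g d := Conn.step hg hd (by rw [hgd]; decide)
  have hcg' : Conn R f g g' := hcd.trans (Conn.step hd hg' (by rw [hdg']; decide))
  have o := fun {v w : A} => img_ortho (v := v) (w := w) hs.toIv hg hmv hR
  have h4 := four_of_card (CU s) hC (add_s_mem_CU hs.toIv (hR.four hg))
    (add_s_mem_CU hs.toIv (hR.four hd)) (f d) (f g)
    (by rw [map_add, map_add, map_add, map_add, hdg, o hcd (Conn.refl g)]; decide)
    (by rw [map_add, map_add, map_add, map_add, hR.self hd, o hcd hcd]; decide)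
    (by rw [map_add, map_add, map_add, map_add, hR.self hg, o (Conn.refl g) (Conn.refl g)]; decide)
    (by rw [map_add, map_add, map_add, map_add, hgd, o (Conn.refl g) hcd]; decide)
  have fgg : f g ((g + g) + s (g + g)) = 0 := by
    rw [map_add, map_add, map_add, map_add, hR.self hg, o (Conn.refl g) (Conn.refl g)]; decide
  have fdg : f d ((g + g) + s (g + g)) = 2 := by
    rw [map_add, map_add, map_add, map_add, hdg, o hcd (Conn.refl g)]; decide
  have fgd : f g ((d + d) + s (d + d)) = 2 := by
    rw [map_add, map_add, map_add, map_add, hgd, o (Conn.refl g) hcd]; decide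
  have fdd : f d ((d + d) + s (d + d)) = 0 := by
    rw [map_add, map_add, map_add, map_add, hR.self hd, o hcd hcd]; decide
  -- an element of `CU` is determined by its products with `g`, `d`
  have hz : ∀ x ∈ CU s, f g x = 0 → f d x = 0 → x = 0 := by
    intro x hx h5 h6
    rcases h4 x hx with h | h | h | h
    · exact h
    · rw [h, fdg] at h6; exact absurd h6 (by decide)
    · rw [h, fgd] at h5; exact absurd h5 (by decide)
    · rw [h, map_add (f g), fgg, fgd] at h5; exact absurd h5 (by decide)
  -- an element `u` of order 2 in the span of the component with `u + s u` known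
  have hzz : ∀ u y : A, u + u = 0 → y + y = 0 → f g (s u) = 0 → f d (s u) = 0 →
      f g (s y) = 0 → f d (s y) = 0 → u + s u = y + s y → u = y := by
    intro u y hu hy h5 h6 h7 h8 h9
    have hx2 : (u - y) + (u - y) = 0 := by
      have : (u - y) + (u - y) = (u + u) - (y + y) := by abel
      rw [this, hu, hy, sub_zero]
    have hxs : s (u - y) = u - y := by
      rw [map_sub]
      have h10 : s u - s y = y - u := by
        rw [sub_eq_sub_iff_add_eq_add, add_comm (s u), h9]
      rw [h10]
      have h11 : y - u = -(u - y) := by abel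
      rw [h11]
      exact neg_eq_of_add_eq_zero_left hx2
    have h12 : u - y ∈ CU s := mem_CU.2 ⟨hx2, hxs⟩
    have h13 : ∀ w, f w (s u) = 0 → f w (s y) = 0 → f w (u - y) = 0 := by
      intro w hw1 hw2
      rw [← hxs, map_sub, map_sub, hw1, hw2, sub_zero]
    exact sub_eq_zero.1 (hz _ h12 (h13 g h5 h7) (h13 d h6 h8))
  have og : ∀ v, Conn R f g v → f g (s v) = 0 := fun v hv => o (Conn.refl g) hv
  have od : ∀ v, Conn R f g v → f d (s v) = 0 := fun v hv => o hcd hv
  have hrel : g + g' = d + d := by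
    have hu2 : g + g' + (g + g') = 0 := by
      have : g + g' + (g + g') = (g + g) + (g' + g') := by abel
      rw [this, h2, hR.four hg]
    have e1 : f g (s (g + g')) = 0 := by rw [map_add, map_add, og _ (Conn.refl g), og _ hcg', add_zero]
    have e2 : f d (s (g + g')) = 0 := by rw [map_add, map_add, od _ (Conn.refl g), od _ hcg', add_zero]
    have e3 : f g (s (d + d)) = 0 := by rw [map_add, map_add, og _ hcd, add_zero]
    have e4 : f d (s (d + d)) = 0 := by rw [map_add, map_add, od _ hcd, add_zero]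
    refine hzz _ _ hu2 (hR.four hd) e1 e2 e3 e4 ?_
    have e5 : f g (g + g' + s (g + g')) = 2 := by
      rw [map_add, e1, map_add, hR.self hg, pair_ortho hR hg hg' h2 hne hne']; decide
    have e6 : f d (g + g' + s (g + g')) = 0 := by
      rw [map_add, e2, map_add, hdg, hdg']; decide
    rcases h4 _ (add_s_mem_CU hs.toIv hu2) with h | h | h | h
    · rw [h, map_zero] at e5; exact absurd e5 (by decide)
    · rw [h, fgg] at e5; exact absurd e5 (by decide)
    · exact h
    · rw [h, map_add (f d), fdg, fdd] at e6; exact absurd e6 (by decide)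
  have hg'' : g' = d + d - g := by rw [← hrel]; abel
  refine ⟨hg, hd, hgd, hmv, hg'' ▸ hg', ?_, ?_, h4⟩
  · intro v hv
    by_contra hcon
    push Not at hcon
    obtain ⟨u, hu, hnot⟩ := out_of_four hR hs hlk hv
      (fun u => u = 0 ∨ u = (g + g) + s (g + g) ∨ u = (d + d) + s (d + d) ∨
        u = (g + g) + s (g + g) + ((d + d) + s (d + d))) (by
        intro w hw u hu hP
        have hwR := hw.mem hv
        have k : ∀ x, x ∈ R → (Conn R f g x ∨ Conn R f (s g) x) → f w x = 0 := by
          intro x hx hcx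
          refine ortho_of_not_conn hwR hx (fun h6 => ?_)
          rcases hcx with hcx | hcx
          · exact hcon.1 (hcx.trans ((hw.trans h6).symm hR))
          · exact hcon.2 (hcx.trans ((hw.trans h6).symm hR))
        have k1 := k g hg (Or.inl (Conn.refl g))
        have k2 := k d hd (Or.inl hcd)
        have k3 := k (s g) (hs.maps hg) (Or.inr (Conn.refl _))
        have k4 := k (s d) (hs.maps hd) (Or.inr (hcd.map hs.toIv))
        rcases hP with hP | hP | hP | hP <;> rw [hP] <;> simp [k1, k2, k3, k4])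
    exact hnot (h4 u hu)
  · intro v hv
    have hvR := hv.mem hg
    have hlin : ∀ x y, Conn R f g x → f x (s (y + y)) = f x (s y) + f x (s y) := by
      intro x y _
      rw [map_add, map_add]
    have e1 : ∀ y, Conn R f g y → f g (s (y + y)) = 0 := by
      intro y hy
      rw [map_add, map_add, og y hy, add_zero]
    have e2 : ∀ y, Conn R f g y → f d (s (y + y)) = 0 := by
      intro y hy
      rw [map_add, map_add, od y hy, add_zero]
    have hvv := hR.four hvR
    rcases h4 _ (add_s_mem_CU hs.toIv hvv) with h | h | h | h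
    · exfalso
      refine hR.two hvR (hzz (v + v) 0 hvv (add_zero 0) (e1 v hv) (e2 v hv) ?_ ?_ ?_)
      · rw [map_zero, map_zero]
      · rw [map_zero, map_zero]
      · rw [h, map_zero, add_zero]
    · left
      exact hzz _ _ hvv (hR.four hg) (e1 v hv) (e2 v hv) (e1 g (Conn.refl g)) (e2 g (Conn.refl g)) h
    · right; left
      exact hzz _ _ hvv (hR.four hd) (e1 v hv) (e2 v hv) (e1 d hcd) (e2 d hcd) h
    · right; right
      refine hzz _ _ hvv ?_ (e1 v hv) (e2 v hv) ?_ ?_ ?_
      · have : g + g + (d + d) + (g + g + (d + d)) = ((g + g) + (g + g)) + ((d + d) + (d + d)) := by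
          abel
        rw [this, hR.four hg, hR.four hd, add_zero]
      · rw [map_add s, map_add (f g), e1 g (Conn.refl g), e1 d hcd, add_zero]
      · rw [map_add s, map_add (f d), e2 g (Conn.refl g), e2 d hcd, add_zero]
      · rw [h, map_add s (g + g)]; abel

/-- Section 3 of the text without groups: (3b), (3c), (3d). -/
theorem main [Finite A] (hR : RM R f) (hs : Ez R f s) (hne : R.Nonempty)
    (hlk : ∀ v ∈ R, ∃ w ∈ R, f v w = -1)
    (hC : ∀ g ∈ R, Nat.card (CU s) ≤ (fib R (g + g)).ncard) :
    (∃ g d, T1 R f s g d) ∨ (∃ g d, T2 R f s g d) := by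
  have hov : ∀ g d : A, g ∈ R → f g d = -1 → Ov R f (g + g) (-d) g :=
    fun g d hg h => ⟨hg, rfl, by rw [map_neg, h]; decide⟩
  have hsgn : ∀ g d a : A, g ∈ R → f g d = -1 → Ov R f (g + g) (-d) a → a ≠ g → a ≠ -g := by
    intro g d a hg hgd ha _ h
    have := ha.prod
    rw [h, map_neg, hR.fneg hg, hgd] at this
    exact absurd this (by decide)
  by_cases hinv : ∃ g ∈ R, s g = -g
  · obtain ⟨g, hg, hsg⟩ := hinv
    obtain ⟨d, hd, hgd⟩ := hlk g hg
    rcases tri hR (hR.neg hd) (hov g d hg hgd) with ⟨h1, h2⟩ | ⟨h1, a, ha, hag⟩ |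
      ⟨-, a, b, c, ha, hb, -, hag, hbg, -, hba, -⟩
    · exfalso
      obtain ⟨-, -, hh, hsh, hgh, -⟩ := hroot hR hs hg hd hsg hgd
      have hug : g + g ∈ CU s :=
        mem_CU.2 ⟨hR.four hg, by rw [map_add, hsg, neg_two (hR.four hg)]⟩
      have huh : (d + g - s d) + (d + g - s d) ∈ CU s :=
        mem_CU.2 ⟨hR.four hh, by rw [map_add s (d + g - s d), hsh, neg_two (hR.four hh)]⟩
      have h3 := eq_of_card_two (CU s) ((hC g hg).trans h1) hug huh (hR.two hg) (hR.two hh)
      rcases pair_odd hR hg hh (hR.neg hd) h3.symm (Or.inl (hov g d hg hgd).prod) with h4 | h4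
      · have h5 := h2 _ ⟨hh, h3.symm, h4⟩
        rw [h5, hR.self hg] at hgh
        exact absurd hgh (by decide)
      · have h5 := h2 (-(d + g - s d)) ⟨hR.neg hh, by rw [neg_two (hR.four hh), h3], by
          rw [hR.fneg hh, h4]; decide⟩
        have h6 : d + g - s d = -g := neg_eq_iff_eq_neg.1 h5
        rw [h6, map_neg, hR.self hg] at hgh
        exact absurd hgh (by decide)
    · left
      have hC4 := (hC g hg).trans h1
      rcases exists_pf hR hg ha.mem hd hsg ha.two hag (hsgn g d a hg hgd ha hag) hgd with h | h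
      · exact ⟨g, d, case_one hR hs hlk h hC4⟩
      · exact ⟨g, d, case_one hR hs hlk h hC4⟩
    · exact (not_four_of_inv hR hs hg hd hsg hgd ha hb hag hbg hba).elim
  · right
    push Not at hinv
    obtain ⟨g, hg⟩ := hne
    have hmv : ¬ Conn R f g (s g) := by
      intro h
      obtain ⟨x, hx, h1 | h1⟩ := exists_line hR hs.toIv hg h
      · exact hs.nofix (hx.mem hg) h1
      · exact hinv x (hx.mem hg) h1
    obtain ⟨d, hd, hgd⟩ := hlk g hg
    rcases tri hR (hR.neg hd) (hov g d hg hgd) with ⟨h1, -⟩ | ⟨h1, a, ha, hag⟩ |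
      ⟨h1, a, b, c, ha, hb, hc, hag, hbg, hcg, hba, hca, hcb⟩
    · exfalso
      have h2 := moved_two hR hs.toIv hg (hR.neg hd) (hov g d hg hgd).prod hmv
      have h3 := hC g hg
      omega
    · have hC4 := (hC g hg).trans h1
      have hne' := hsgn g d a hg hgd ha hag
      have hadp : f a d = -1 := by
        have h5 := ha.prod
        rw [map_neg] at h5
        rw [← neg_neg (f a d), h5]
      exact ⟨g, d, case_two hR hs hlk hg (hR.neg ha.mem) hd
        (by rw [neg_two (hR.four ha.mem), ha.two])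
        (fun h => hne' (by rw [← h, neg_neg])) (fun h => hag (neg_injective h)) hgd
        (by rw [hR.fneg ha.mem, hadp]; decide) hmv hC4⟩
    · exfalso
      have h2 := moved_four hR hs.toIv (hR.neg hd) (hov g d hg hgd) ha hb hc hag hbg hcg hba hca
        hcb hmv
      have h3 := hC g hg
      omega

end Main

section Comps

variable {R : Set A} {f : A → A →+ ZMod 4} {s : A →+ A}

/-- the components -/
def comps (R : Set A) (f : A → A →+ ZMod 4) : Set (Set A) :=
  {Y | ∃ v ∈ R, Y = {w | Conn R f v w}}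

/-- the elements of order at most 2 -/
def UU (A : Type*) [AddCommGroup A] : AddSubgroup A where
  carrier := {u | u + u = 0}
  zero_mem' := by simp
  add_mem' := by
    intro a b ha hb
    have h1 : a + a = 0 := ha
    have h2 : b + b = 0 := hb
    have : a + b + (a + b) = (a + a) + (b + b) := by abel
    change a + b + (a + b) = 0
    rw [this, h1, h2, add_zero]
  neg_mem' := by
    intro a ha
    have h1 : a + a = 0 := ha
    change -a + -a = 0
    rw [← neg_add, h1, neg_zero]

theorem mem_UU {u : A} : u ∈ UU A ↔ u + u = 0 := Iff.rfl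

/-- `|U| ≤ |C_U(s)|^2` for an involution `s`. -/
theorem card_UU_le [Finite A] (s : A →+ A) (hs : ∀ a, s (s a) = a) :
    Nat.card (UU A) ≤ Nat.card (CU s) ^ 2 := by
  let τ : UU A →+ CU s :=
    { toFun := fun u => ⟨(u : A) + s u, by
        have hu := mem_UU.1 u.2
        refine mem_CU.2 ⟨?_, by rw [map_add, hs]; abel⟩
        have : (u : A) + s u + (u + s u) = (u + u) + s (u + u) := by rw [map_add]; abel
        rw [this, hu, map_zero, add_zero]⟩
      map_zero' := by ext; simp
      map_add' := by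
        intro a b
        ext
        simp only [AddSubgroup.coe_add, map_add]
        abel }
  have h1 : Nat.card (UU A) = Nat.card (UU A ⧸ τ.ker) * Nat.card τ.ker :=
    AddSubgroup.card_eq_card_quotient_mul_card_addSubgroup τ.ker
  have h2 : Nat.card (UU A ⧸ τ.ker) ≤ Nat.card (CU s) := by
    rw [Nat.card_congr (QuotientAddGroup.quotientKerEquivRange τ).toEquiv]
    exact Nat.card_le_card_of_injective (fun x : τ.range => (x : CU s)) Subtype.val_injective
  have h3 : Nat.card τ.ker ≤ Nat.card (CU s) := by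
    have hk : ∀ x : τ.ker, ((x : UU A) : A) ∈ CU s := by
      intro x
      have hx : τ (x : UU A) = 0 := x.2
      have hx' : ((x : UU A) : A) + s ((x : UU A) : A) = 0 := congrArg Subtype.val hx
      have hu := mem_UU.1 (x : UU A).2
      refine mem_CU.2 ⟨hu, ?_⟩
      rw [← sub_eq_zero]
      have h4 : s ((x : UU A) : A) - ((x : UU A) : A) =
        ((x : UU A) : A) + s ((x : UU A) : A) - (((x : UU A) : A) + ((x : UU A) : A)) := by abel
      rw [h4, hx', hu, sub_zero]
    refine Nat.card_le_card_of_injective (fun x : τ.ker => (⟨((x : UU A) : A), hk x⟩ : CU s)) ?_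
    intro x y hxy
    have h5 : ((x : UU A) : A) = ((y : UU A) : A) := by
      have := congrArg (Subtype.val : CU s → A) hxy
      exact this
    exact Subtype.ext (Subtype.ext h5)
  rw [h1, pow_two]
  exact Nat.mul_le_mul h2 h3

/-- `|U| ≥ 4^c`, `c` the number of components (none isolated). -/
theorem four_pow_le [Finite A] (hR : RM R f) (hlk : ∀ v ∈ R, ∃ w ∈ R, f v w = -1) :
    4 ^ (comps R f).ncard ≤ Nat.card (UU A) := by
  classical
  have hch : ∀ Y : comps R f, ∃ g d, g ∈ R ∧ d ∈ R ∧ f g d = -1 ∧ (Y : Set A) = {w | Conn R f g w} := by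
    rintro ⟨Y, v, hv, hY⟩
    obtain ⟨w, hw, hvw⟩ := hlk v hv
    exact ⟨v, w, hv, hw, hvw, hY⟩
  choose g d hg hd hgd hY using hch
  have hdg : ∀ Y, f (d Y) (g Y) = -1 := fun Y => by rw [hR.symm (hd Y) (hg Y), hgd]
  have : Fintype (comps R f) := Fintype.ofFinite _
  have hne : ∀ Y Y' : comps R f, Y ≠ Y' → ∀ x y, Conn R f (g Y) x → Conn R f (g Y') y →
      f x y = 0 := by
    intro Y Y' hYY x y hx hy
    refine ortho_of_not_conn (hx.mem (hg Y)) (hy.mem (hg Y')) (fun h => hYY ?_)
    have h1 : Conn R f (g Y) (g Y') := (hx.trans h).trans (hy.symm hR)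
    apply Subtype.ext
    rw [hY, hY]
    ext w
    exact ⟨fun h2 => (h1.symm hR).trans h2, fun h2 => h1.trans h2⟩
  have hcd : ∀ Y, Conn R f (g Y) (d Y) := fun Y =>
    Conn.step (hg Y) (hd Y) (by rw [hgd]; decide)
  have h := card_ge (ι := comps R f × Fin 2) (UU A)
    (fun i => if i.2 = 0 then g i.1 + g i.1 else d i.1 + d i.1)
    (fun i => if i.2 = 0 then f (d i.1) else f (g i.1)) (by
      rintro ⟨Y, i⟩ ⟨Y', j⟩
      by_cases hYY : Y = Y'
      · subst hYY
        fin_cases i <;> fin_cases j <;>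
          simp [map_add, hdg, hgd, hR.self (hg Y), hR.self (hd Y)] <;> decide
      · have h1 := hne Y Y' hYY
        have e1 := h1 _ _ (Conn.refl _) (Conn.refl _)
        have e2 := h1 _ _ (Conn.refl _) (hcd Y')
        have e3 := h1 _ _ (hcd Y) (Conn.refl _)
        have e4 := h1 _ _ (hcd Y) (hcd Y')
        have e5 : ((Y, i) : comps R f × Fin 2) ≠ (Y', j) := fun h => hYY (congrArg Prod.fst h)
        rw [if_neg e5]
        fin_cases i <;> fin_cases j <;> simp [map_add, e1, e2, e3, e4]) (by
      rintro ⟨Y, i⟩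
      fin_cases i
      · exact mem_UU.2 (hR.four (hg Y))
      · exact mem_UU.2 (hR.four (hd Y)))
  rw [Fintype.card_prod, Fintype.card_fin] at h
  have hc : Fintype.card (comps R f) = (comps R f).ncard := by
    rw [← Nat.card_eq_fintype_card]; rfl
  rw [hc, mul_comm, pow_mul] at h
  exact h

/-- (4a): `|C_U(s)| ≥ 2^c`, for every involution `s` of the group `A`. -/
theorem two_pow_le [Finite A] (hR : RM R f) (hlk : ∀ v ∈ R, ∃ w ∈ R, f v w = -1) (s : A →+ A)
    (hs : ∀ a, s (s a) = a) : 2 ^ (comps R f).ncard ≤ Nat.card (CU s) := by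
  have h1 := (four_pow_le hR hlk).trans (card_UU_le s hs)
  have h2 : (4 : ℕ) ^ (comps R f).ncard = (2 ^ (comps R f).ncard) ^ 2 := by
    rw [← pow_mul, mul_comm, pow_mul]
    norm_num
  rw [h2] at h1
  exact (Nat.pow_le_pow_iff_left (by norm_num)).1 h1

end Comps

end Cfsg.Agent.Cit.Nil.CV.RootMod
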