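import Cfsg.Agent.Cit.Nil.CV.Dead
import Cfsg.Agent.Cit.Nil.CV.RootMod

/-!
# S1309 (CV): `A` as an additive group with a root system modulo 4

Helper 542.  `AT h hA` = `A` written additively, `rA`, `fA` roots and functionals, `rm` : `RootMod.RM` (in the symmetric
case), `cjA hg` = conjugation by `g ∈ N(A)`, `iv_of`, `ez_of`.
-/

set_option autoImplicit false
set_option linter.style.haveILetI false
set_option linter.unusedSectionVars false

namespace Cfsg.Agent.Cit.Nil.CV.Glue

open Subgroup Cfsg Cit Tau Cit.CV XLevel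

variable {G : Type*} [Group G] [Finite G] {Om : Set (Subgroup G)} {U : Subgroup G → Subgroup G}
  {A B K L M N : Subgroup G} {g s v w x y : G}

/-- `A` as an additive group -/
def AT (_h : CVW Om U) (_hA : IsA Om U A) : Type _ := Additive ↥A

instance (h : CVW Om U) (hA : IsA Om U A) : AddCommGroup (AT h hA) :=
  { (inferInstance : AddGroup (Additive ↥A)) with
    add_comm := fun a b => by
      have h1 := h.comm hA (Additive.toMul (α := ↥A) a).2 (Additive.toMul (α := ↥A) b).2
      exact congrArg Additive.ofMul (Subtype.ext h1) }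

instance (h : CVW Om U) (hA : IsA Om U A) : Finite (AT h hA) := inferInstanceAs (Finite (Additive ↥A))

variable {h : CVW Om U} {hA : IsA Om U A}

/-- the value in `G` -/
def vl (a : AT h hA) : G := ((Additive.toMul (α := ↥A) a : ↥A) : G)

/-- the element of `AT` -/
def mk (h : CVW Om U) (hA : IsA Om U A) (a : G) (ha : a ∈ A) : AT h hA := Additive.ofMul (⟨a, ha⟩ : ↥A)

@[simp] theorem vl_mk {a : G} (ha : a ∈ A) : vl (mk h hA a ha) = a := rfl

theorem vl_mem (a : AT h hA) : vl a ∈ A := (Additive.toMul (α := ↥A) a).2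

@[simp] theorem mk_vl (a : AT h hA) : mk h hA (vl a) (vl_mem a) = a := rfl

@[simp] theorem vl_add (a b : AT h hA) : vl (a + b) = vl a * vl b := rfl

@[simp] theorem vl_zero : vl (0 : AT h hA) = 1 := rfl

@[simp] theorem vl_neg (a : AT h hA) : vl (-a) = (vl a)⁻¹ := rfl

@[simp] theorem vl_sub (a b : AT h hA) : vl (a - b) = vl a * (vl b)⁻¹ := by rw [sub_eq_add_neg, vl_add, vl_neg]

theorem vl_inj {a b : AT h hA} (hab : vl a = vl b) : a = b := congrArg Additive.ofMul (Subtype.ext hab)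

/-- the roots -/
def rA (h : CVW Om U) (hA : IsA Om U A) : Set (AT h hA) := {v | vl v ∈ RR Om U A}

open Classical in
/-- the functionals -/
noncomputable def fA (h : CVW Om U) (hA : IsA Om U A) (v : AT h hA) : AT h hA →+ ZMod 4 :=
  if hv : vl v ∈ RR Om U A then
    AddMonoidHom.mk' (fun a => al Om U (vl v) (vl a)) (fun a b => h.al_mul hA hv (vl_mem a) (vl_mem b))
  else 0

theorem fA_eq {v : AT h hA} (hv : v ∈ rA h hA) (a : AT h hA) : fA h hA v a = al Om U (vl v) (vl a) := by
  have hv' : vl v ∈ RR Om U A := hv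
  rw [fA, dif_pos hv']
  rfl

/-- conjugation -/
def cjA (h : CVW Om U) (hA : IsA Om U A) (hg : g ∈ normalizer (A : Set G)) : AT h hA →+ AT h hA :=
  AddMonoidHom.mk' (fun a => mk h hA (g * vl a * g⁻¹) ((mem_normalizer_iff.mp hg _).mp (vl_mem a))) (by
    intro a b
    apply vl_inj
    simp only [vl_mk, vl_add]
    group)

@[simp] theorem vl_cjA (hg : g ∈ normalizer (A : Set G)) (a : AT h hA) : vl (cjA h hA hg a) = g * vl a * g⁻¹ := rfl

theorem rA_mem_neg {v : AT h hA} (hv : v ∈ rA h hA) : -v ∈ rA h hA := by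
  change vl (-v) ∈ RR Om U A
  rw [vl_neg]
  exact CVW.RR_inv hv

theorem four_ne (hv4 : orderOf v = 4) : v * v ≠ 1 := by
  intro hh
  have h3 : v ^ 2 = 1 := by rw [pow_two]; exact hh
  have h4 := orderOf_dvd_of_pow_eq_one h3
  rw [hv4] at h4
  exact absurd (Nat.le_of_dvd (by norm_num) h4) (by norm_num)

theorem four_pow (hv4 : orderOf v = 4) : v * v * (v * v) = 1 := by
  have h1 : v ^ 4 = 1 := by rw [← hv4]; exact pow_orderOf_eq_one v
  rw [← h1]
  simp [pow_succ, mul_assoc]

/-- **the root system modulo 4** -/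
theorem rm (h : CVW Om U) (hA : IsA Om U A)
    (hsym : ∀ v ∈ RR Om U A, ∀ w ∈ RR Om U A, al Om U v w = al Om U w v) :
    RootMod.RM (rA h hA) (fA h hA) where
  neg hv := rA_mem_neg hv
  fneg := by
    intro v hv a
    rw [fA_eq (rA_mem_neg hv), fA_eq hv, vl_neg]
    exact h.al_neg hA hv (vl_mem a)
  self := by
    intro v hv
    rw [fA_eq hv]
    exact h.al_self hA hv
  small := by
    intro v w hv hw h1 h2
    rw [fA_eq hv]
    have h3 : al Om U (vl v) (vl w) ≠ 2 := by
      intro h4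
      rcases h.al_two hA hv hw h4 with h5 | h5
      · exact h1 (vl_inj h5)
      · exact h2 (vl_inj (by rw [vl_neg]; exact h5))
    revert h3
    generalize al Om U (vl v) (vl w) = i
    revert i
    decide
  symm := by
    intro v w hv hw
    rw [fA_eq hv, fA_eq hw]
    exact hsym _ hv _ hw
  add := by
    intro v w hv hw h1
    rw [fA_eq hv] at h1
    change vl (v + w) ∈ RR Om U A
    have h2 := h.rf_mem hA hv hw
    rw [rf, h1, neg_neg, pw_one] at h2
    rw [vl_add, h.comm hA (vl_mem v) (vl_mem w)]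
    exact h2
  fadd := by
    intro v w hv hw h1 a
    have h1' := h1
    rw [fA_eq hv] at h1
    have h2 := h.rf_mem hA hv hw
    have h3 : rf Om U (vl v) (vl w) = vl (v + w) := by
      rw [rf, h1, neg_neg, pw_one, vl_add, h.comm hA (vl_mem v) (vl_mem w)]
    have hvw : v + w ∈ rA h hA := by
      change vl (v + w) ∈ RR Om U A
      rw [← h3]; exact h2
    rw [fA_eq hvw, fA_eq hv, fA_eq hw, ← h3]
    -- `a = rf v b`
    have h4 : ∀ b ∈ A, rf Om U (vl v) (rf Om U (vl v) b) = b := by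
      intro b hb
      have h5 := h.al_rf_left hA hv hv hb
      rw [h.al_self hA hv] at h5
      have h6 : al Om U (vl v) (rf Om U (vl v) b) = -al Om U (vl v) b := by
        rw [h5]; generalize al Om U (vl v) b = i; revert i; decide
      rw [rf, h6, neg_neg, rf, mul_assoc, ← pw_add hv.2.1, neg_add_cancel, pw_zero, mul_one]
    have hrfa : rf Om U (vl v) (vl a) ∈ A := CVW.rf_mem_A hv (vl_mem a)
    have h5 := h.al_rf hA hv hw hrfa
    rw [h4 _ (vl_mem a)] at h5
    rw [h5, h.al_rf_left hA hv hw (vl_mem a), ← hsym _ hv _ hw, h1]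
    ring
  four := by
    intro v hv
    apply vl_inj
    rw [vl_add, vl_add, vl_zero]
    exact four_pow hv.2.1
  two := by
    intro v hv h1
    have h2 := congrArg vl h1
    rw [vl_add, vl_zero] at h2
    exact four_ne hv.2.1 h2

theorem iv_of (hg : g ∈ normalizer (A : Set G)) (hgg : ∀ a ∈ A, g * g * a = a * (g * g)) :
    RootMod.Iv (rA h hA) (fA h hA) (cjA h hA hg) where
  invol := by
    intro a
    apply vl_inj
    rw [vl_cjA, vl_cjA]
    have h1 : g * g * vl a * (g * g)⁻¹ = vl a := by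
      rw [hgg _ (vl_mem a), mul_inv_cancel_right]
    calc g * (g * vl a * g⁻¹) * g⁻¹ = g * g * vl a * (g * g)⁻¹ := by group
      _ = vl a := h1
  maps := by
    intro v hv
    exact h.RR_conj hg hv
  iso := by
    intro v hv a
    have h1 : cjA h hA hg v ∈ rA h hA := h.RR_conj hg hv
    rw [fA_eq h1, fA_eq hv, vl_cjA, vl_cjA]
    exact h.al_conj hA hg hv (vl_mem a)

/-- **`s = zz N` in `N(A)` centralising no root** -/
theorem ez_of (hN : N ∈ Om) (hs : zz N ∈ normalizer (A : Set G))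
    (hno : ∀ v ∈ RR Om U A, zz N * v * (zz N)⁻¹ ≠ v) : RootMod.Ez (rA h hA) (fA h hA) (cjA h hA hs) where
  toIv := iv_of hs (fun a _ => by rw [h.hyp.zz_mul hN, one_mul, mul_one])
  nofix := by
    intro v hv h1
    exact hno _ hv (by rw [← vl_cjA hs, h1])
  noinv := by
    intro v w hv hw h1 h2 h3
    have h4 : zz N * vl v * (zz N)⁻¹ = (vl v)⁻¹ := by rw [← vl_cjA hs, h1, vl_neg]
    rw [fA_eq hv] at h2
    refine (h.inverted hA hN hs hv hw (by rw [h2]; decide) (by rw [h2]; decide) h4).2.1 ?_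
    rw [← vl_cjA hs, h3, vl_neg]
  norefl := by
    intro v w hv hw h1 h2 h3
    have h4 : zz N * vl v * (zz N)⁻¹ = (vl v)⁻¹ := by rw [← vl_cjA hs, h1, vl_neg]
    rw [fA_eq hv] at h2
    refine (h.inverted hA hN hs hv hw (by rw [h2]; decide) (by rw [h2]; decide) h4).2.2.1 ?_
    rw [← vl_cjA hs, h3, vl_sub, rf, h2, pw_neg_one hv.2.1]

/-- no isolated root -/
theorem hlk_of (hlk : ∀ v ∈ RR Om U A, ∃ w ∈ RR Om U A, al Om U v w ≠ 0 ∧ al Om U v w ≠ 2) :
    ∀ v ∈ rA h hA, ∃ w ∈ rA h hA, fA h hA v w = -1 := by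
  intro v hv
  obtain ⟨w, hw, h0, h2⟩ := hlk _ hv
  have h1 : al Om U (vl v) w = -1 ∨ al Om U (vl v) w = 1 := by
    revert h0 h2
    generalize al Om U (vl v) w = i
    revert i
    decide
  rcases h1 with h1 | h1
  · exact ⟨mk h hA w hw.1, hw, by rw [fA_eq hv]; exact h1⟩
  · refine ⟨mk h hA w⁻¹ (A.inv_mem hw.1), CVW.RR_inv hw, ?_⟩
    rw [fA_eq hv, vl_mk, h.al_inv hA hv hw.1, h1]

theorem closure_rA (h : CVW Om U) (hA : IsA Om U A) : AddSubgroup.closure (rA h hA) = ⊤ := by
  rw [eq_top_iff]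
  intro a _
  have key : ∀ b ∈ A, b ∈ A ∧ ∀ hb : b ∈ A, mk h hA b hb ∈ AddSubgroup.closure (rA h hA) := by
    refine CVW.exists_gen hA ⟨A.one_mem, fun _ => ?_⟩ ?_ ?_
    · exact (AddSubgroup.closure (rA h hA)).zero_mem
    · intro b hb c hc h1 h2
      exact ⟨A.mul_mem hb hc, fun _ => (AddSubgroup.closure (rA h hA)).add_mem (h1.2 hb) (h2.2 hc)⟩
    · intro v hv
      exact ⟨hv.1, fun _ => AddSubgroup.subset_closure hv⟩
  exact (key (vl a) (vl_mem a)).2 (vl_mem a)

/-! ### The case (T1) -/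

section abstract

open RootMod

variable {X : Type*} [AddCommGroup X] {R : Set X} {f : X → X →+ ZMod 4} {s s2 : X →+ X} {g d g2 d2 : X}

/-- the action of `s` in the case (T1) -/
theorem t1_act (hR : RM R f) (t : T1 R f s g d) {v : X} (hv : v ∈ R) :
    (f g v + f g v = 0 → s v + v = 0) ∧ (f g v + f g v = 2 → s v + v = g + g) := by
  have h4g := hR.four t.hg
  have key : ∀ e : X, (e = g ∨ e = d ∨ e = g + d ∨ e = d - g ∨ e = g + g - d ∨ e = d + d - g) →
      ((f g e + f g e = 0 ∧ s e + e = 0) ∨ (f g e + f g e = 2 ∧ s e + e = g + g)) := by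
    intro e he
    have hgg := hR.self t.hg
    have hgd := t.gd
    rcases he with rfl | rfl | rfl | rfl | rfl | rfl
    · exact Or.inl ⟨by rw [hgg]; decide, by rw [t.sg]; abel⟩
    · exact Or.inr ⟨by rw [hgd]; decide, by rw [t.sd]; abel⟩
    · exact Or.inr ⟨by rw [map_add, hgg, hgd]; decide, by rw [map_add, t.sg, t.sd]; abel⟩
    · exact Or.inr ⟨by rw [map_sub, hgg, hgd]; decide, by rw [map_sub, t.sg, t.sd]; abel⟩
    · refine Or.inr ⟨by rw [map_sub, map_add, hgg, hgd]; decide, ?_⟩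
      rw [map_sub, map_add, t.sg, t.sd]
      have h1 : -g + -g - (g + g - d) + (g + g - d) = (g + g) - ((g + g) + (g + g)) := by abel
      rw [h1, h4g, sub_zero]
    · refine Or.inl ⟨by rw [map_sub, map_add, hgg, hgd]; decide, ?_⟩
      rw [map_sub, map_add, t.sg, t.sd]
      have h1 : g + g - d + (g + g - d) - -g + (d + d - g) = (g + g) + (g + g) := by abel
      rw [h1, h4g]
  obtain ⟨e, he, hve⟩ := t.all v hv
  rcases hve with rfl | rfl
  · rcases key v he with ⟨h1, h2⟩ | ⟨h1, h2⟩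
    · exact ⟨fun _ => h2, fun h3 => by rw [h1] at h3; exact absurd h3 (by decide)⟩
    · exact ⟨fun h3 => by rw [h1] at h3; exact absurd h3 (by decide), fun _ => h2⟩
  · have e1 : f g (-e) + f g (-e) = -(f g e + f g e) := by rw [map_neg]; ring
    have e2 : s (-e) + -e = -(s e + e) := by rw [map_neg]; abel
    rw [e1, e2]
    rcases key e he with ⟨h1, h2⟩ | ⟨h1, h2⟩
    · rw [h1, h2]
      exact ⟨fun _ => neg_zero, fun h3 => absurd h3 (by decide)⟩
    · rw [h1, h2, neg_eq_of_add_eq_zero_left h4g]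
      exact ⟨fun h3 => absurd h3 (by decide), fun _ => rfl⟩

theorem t1_linked (hR : RM R f) (hcl : AddSubgroup.closure R = ⊤) (t : T1 R f s g d) (t2 : T1 R f s2 g2 d2)
    (hne : s ≠ s2) : f g2 g = 1 ∨ f g2 g = -1 := by
  have hgg := hR.self t2.hg
  have hgd := t2.gd
  obtain ⟨e, he, hge⟩ := t2.all g t.hg
  have h4 := hR.four t2.hg
  have h4d := hR.four t2.hd
  -- the case of equal involutions
  have same : g + g = g2 + g2 → False := by
    intro h2
    apply hne
    have hroot : ∀ v ∈ R, s v = s2 v := by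
      intro v hv
      have h5 : f g v + f g v = f g2 v + f g2 v := by
        rw [hR.symm t.hg hv, hR.symm t2.hg hv, ← map_add, ← map_add, h2]
      have h6 := t1_act hR t hv
      have h7 := t1_act hR t2 hv
      have h8 : f g v + f g v = 0 ∨ f g v + f g v = 2 := by
        generalize f g v = x
        revert x
        decide
      rcases h8 with h8 | h8
      · have h9 := h6.1 h8
        rw [← h7.1 (by rw [← h5]; exact h8)] at h9
        exact add_right_cancel h9
      · have h9 := h6.2 h8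
        rw [h2, ← h7.2 (by rw [← h5]; exact h8)] at h9
        exact add_right_cancel h9
    ext v
    have h9 : v ∈ AddSubgroup.closure R := by rw [hcl]; trivial
    induction h9 using AddSubgroup.closure_induction with
    | mem v hv => exact hroot v hv
    | zero => rw [map_zero, map_zero]
    | add x y _ _ hx hy => rw [map_add, map_add, hx, hy]
    | neg x _ hx => rw [map_neg, map_neg, hx]
  have hneg : ∀ e : X, f g2 e = 1 ∨ f g2 e = -1 → g = e ∨ g = -e → f g2 g = 1 ∨ f g2 g = -1 := by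
    rintro e h1 (rfl | rfl)
    · exact h1
    · rw [map_neg]
      rcases h1 with h1 | h1 <;> rw [h1]
      · exact Or.inr rfl
      · exact Or.inl (neg_neg 1)
  rcases he with rfl | rfl | rfl | rfl | rfl | rfl
  · exfalso
    rcases hge with rfl | rfl
    · exact same rfl
    · exact same (by rw [neg_two h4])
  · exact hneg _ (Or.inr hgd) hge
  · exact hneg _ (Or.inl (by rw [map_add, hgg, hgd]; decide)) hge
  · exact hneg _ (Or.inl (by rw [map_sub, hgg, hgd]; decide)) hge
  · exact hneg _ (Or.inl (by rw [map_sub, map_add, hgg, hgd]; decide)) hge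
  · exfalso
    have h5 : (d2 + d2 - g2) + (d2 + d2 - g2) = g2 + g2 := by
      have h6 : (d2 + d2 - g2) + (d2 + d2 - g2) = ((d2 + d2) + (d2 + d2)) + (-g2 + -g2) := by abel
      rw [h6, h4d, zero_add, neg_two h4]
    rcases hge with rfl | rfl
    · exact same h5
    · exact same (by rw [neg_two (by rw [h5]; exact h4), h5])

end abstract

theorem rf_mul (h : CVW Om U) (hA : IsA Om U A) (hv : v ∈ RR Om U A) {a b : G} (ha : a ∈ A) (hb : b ∈ A) :
    rf Om U v (a * b) = rf Om U v a * rf Om U v b := by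
  rw [rf, rf, rf, h.al_mul hA hv ha hb, neg_add, pw_add hv.2.1]
  have h4 := pw_comm (h.comm hA hb hv.1) (-al Om U v a)
  calc a * b * (pw v (-al Om U v a) * pw v (-al Om U v b)) = a * (b * pw v (-al Om U v a)) * pw v (-al Om U v b) := by
        group
    _ = _ := by rw [h4]; group

/-- (T1) for two different involutions of `B` is impossible -/
theorem dead_T1 (h : CVW Om U) (hA : IsA Om U A)
    (hsym : ∀ v ∈ RR Om U A, ∀ w ∈ RR Om U A, al Om U v w = al Om U w v)
    {N2 : Subgroup G} (hN : N ∈ Om) (hN2 : N2 ∈ Om) (hsA : zz N ∈ normalizer (A : Set G))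
    (hs2A : zz N2 ∈ normalizer (A : Set G)) (hsB : zz N ∈ B) (hs2B : zz N2 ∈ B)
    (hCB : centralizer {zz N} ≤ normalizer (B : Set G))
    (hcb : ∀ b ∈ B, (∀ a ∈ A, b * a = a * b) → b = 1) (hne : zz N ≠ zz N2)
    {g d g2 d2 : AT h hA} (t : RootMod.T1 (rA h hA) (fA h hA) (cjA h hA hsA) g d)
    (t2 : RootMod.T1 (rA h hA) (fA h hA) (cjA h hA hs2A) g2 d2) : False := by
  have hR := rm h hA hsym
  have hmaps : cjA h hA hsA ≠ cjA h hA hs2A := by
    intro h1
    have h2 : zz N * zz N2 = 1 := by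
      apply hcb _ (B.mul_mem hsB hs2B)
      intro a ha
      have h3 := congrArg vl (DFunLike.congr_fun h1 (mk h hA a ha))
      rw [vl_cjA, vl_cjA, vl_mk] at h3
      have h4 := h.hyp.zz_mul hN
      have h5 := h.hyp.zz_mul hN2
      have h6 : zz N * (zz N2 * a * (zz N2)⁻¹) * (zz N)⁻¹ = a := by
        rw [← h3]
        calc zz N * (zz N * a * (zz N)⁻¹) * (zz N)⁻¹ = (zz N * zz N) * a * (zz N * zz N)⁻¹ := by group
          _ = a := by rw [h4]; group
      have h7 : zz N * zz N2 * a * (zz N * zz N2)⁻¹ = a := by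
        rw [← h6]
        simp only [h6]
        calc zz N * zz N2 * a * (zz N * zz N2)⁻¹ = zz N * (zz N2 * a * (zz N2)⁻¹) * (zz N)⁻¹ := by group
          _ = a := h6
      exact mul_inv_eq_iff_eq_mul.mp h7
    apply hne
    rw [← h.hyp.zz_inv hN2]
    exact eq_inv_of_mul_eq_one_left h2
  have hlk := t1_linked hR (closure_rA h hA) t t2 hmaps
  have h4d := hR.four t.hd
  have h4g := hR.four t.hg
  have hgg := hR.self t.hg
  have hdg : fA h hA d g = -1 := by rw [hR.symm t.hd t.hg, t.gd]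
  have hg'g' : (d + d - g) + (d + d - g) = g + g := by
    have h6 : (d + d - g) + (d + d - g) = ((d + d) + (d + d)) + (-g + -g) := by abel
    rw [h6, h4d, zero_add, RootMod.neg_two h4g]
  have hgg' : fA h hA g (d + d - g) = 0 := by rw [map_sub, map_add, hgg, t.gd]; decide
  have hg'g : fA h hA (d + d - g) g = 0 := by rw [hR.symm t.g2 t.hg, hgg']
  have hg'd : fA h hA (d + d - g) d = 1 := by
    rw [hR.symm t.g2 t.hd, map_sub, map_add, hR.self t.hd, hdg]; decide
  have hsg : zz N * vl g * (zz N)⁻¹ = (vl g)⁻¹ := by rw [← vl_cjA hsA, t.sg, vl_neg]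
  have hsd : zz N * vl d * (zz N)⁻¹ = vl (g + g - d) := by rw [← vl_cjA hsA, t.sd]
  have hsg' : zz N * vl (d + d - g) * (zz N)⁻¹ = (vl (d + d - g))⁻¹ := by
    rw [← vl_cjA hsA, ← vl_neg]
    congr 1
    rw [map_sub, map_add, t.sg, t.sd]
    have h6 : g + g - d + (g + g - d) - -g = ((g + g) + (g + g)) + -(d + d - g) := by abel
    rw [h6, h4g, zero_add]
  refine Dead.dead h hA hN hCB hcb (g := vl g) (g' := vl (d + d - g)) (d := vl d) (g2 := vl g2) t.hg t.g2 t.hd
    ?_ ?_ ?_ hsg hsg' ?_ ?_ ?_ ?_ ?_ ?_ hN2 hs2B hs2A t2.hg ?_ ?_ ?_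
  · rw [← vl_add, hg'g', vl_add]
  · intro h1
    have h2 := vl_inj h1
    rw [h2, hgg] at hgg'
    exact absurd hgg' (by decide)
  · intro h1
    rw [← vl_neg] at h1
    have h2 := vl_inj h1
    rw [h2, map_neg, hgg] at hgg'
    exact absurd hgg' (by decide)
  · rw [← fA_eq t.hg, t.gd]; decide
  · rw [← fA_eq t.hg, t.gd]; decide
  · rw [← fA_eq t.g2, hg'd]; decide
  · rw [← fA_eq t.g2, hg'd]; decide
  · -- the action
    let p : G → Prop := fun a => zz N * a * (zz N)⁻¹ = rf Om U (vl g) (rf Om U (vl (d + d - g)) a)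
    have pmul : ∀ a ∈ A, ∀ b ∈ A, p a → p b → p (a * b) := by
      intro a ha b hb h1 h2
      change zz N * (a * b) * (zz N)⁻¹ = _
      rw [rf_mul h hA t.g2 ha hb, rf_mul h hA t.hg (CVW.rf_mem_A t.g2 ha) (CVW.rf_mem_A t.g2 hb), ← h1, ← h2]
      group
    have p1 : p 1 := by
      change zz N * 1 * (zz N)⁻¹ = _
      have h1 : rf Om U (vl (d + d - g)) 1 = 1 := by rw [rf, h.al_one hA t.g2, neg_zero, pw_zero, mul_one]
      have h2 : rf Om U (vl g) 1 = 1 := by rw [rf, h.al_one hA t.hg, neg_zero, pw_zero, mul_one]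
      rw [h1, h2, mul_one, mul_inv_cancel]
    have pinv : ∀ a ∈ A, p a → p a⁻¹ := by
      intro a ha h1
      have hai := A.inv_mem ha
      have h2 : rf Om U (vl g) (rf Om U (vl (d + d - g)) a) * rf Om U (vl g) (rf Om U (vl (d + d - g)) a⁻¹) = 1 := by
        rw [← rf_mul h hA t.hg (CVW.rf_mem_A t.g2 ha) (CVW.rf_mem_A t.g2 hai), ← rf_mul h hA t.g2 ha hai,
          mul_inv_cancel]
        have := p1
        change zz N * 1 * (zz N)⁻¹ = _ at this
        rw [← this, mul_one, mul_inv_cancel]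
      have h1' : zz N * a * (zz N)⁻¹ = rf Om U (vl g) (rf Om U (vl (d + d - g)) a) := h1
      rw [← h1'] at h2
      change zz N * a⁻¹ * (zz N)⁻¹ = _
      rw [eq_inv_of_mul_eq_one_right h2]
      group
    have pg : p (vl g) := by
      change zz N * vl g * (zz N)⁻¹ = _
      have h1 : rf Om U (vl (d + d - g)) (vl g) = vl g := by
        rw [rf, ← fA_eq t.g2, hg'g, neg_zero, pw_zero, mul_one]
      have h2 : rf Om U (vl g) (vl g) = (vl g)⁻¹ := by
        rw [rf, ← fA_eq t.hg, hgg, show (-2 : ZMod 4) = 1 + 1 by decide, pw_add t.hg.2.1, pw_one]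
        rw [eq_inv_iff_mul_eq_one]
        rw [← four_pow t.hg.2.1]
        group
      rw [h1, h2, hsg]
    have pd : p (vl d) := by
      change zz N * vl d * (zz N)⁻¹ = _
      have h1 : rf Om U (vl (d + d - g)) (vl d) = vl (d - (d + d - g)) := by
        rw [rf, ← fA_eq t.g2, hg'd, pw_neg_one t.g2.2.1]
        exact (vl_sub _ _).symm
      have h2 : rf Om U (vl g) (vl (d - (d + d - g))) = vl (d - (d + d - g) + g) := by
        rw [rf, ← fA_eq t.hg, map_sub, t.gd, hgg', sub_zero, neg_neg, pw_one, vl_add]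
      rw [h1, h2, hsd]
      congr 1
      abel
    refine CVW.exists_gen hA p1 pmul ?_
    intro v hv
    have hvg := vl_mem g
    have hvd := vl_mem d
    have pe : ∀ e : AT h hA, (e = g ∨ e = d ∨ e = g + d ∨ e = d - g ∨ e = g + g - d ∨ e = d + d - g) → p (vl e) := by
      rintro e (rfl | rfl | rfl | rfl | rfl | rfl)
      · exact pg
      · exact pd
      · rw [vl_add]; exact pmul _ hvg _ hvd pg pd
      · rw [vl_sub]; exact pmul _ hvd _ (A.inv_mem hvg) pd (pinv _ hvg pg)
      · rw [vl_sub, vl_add]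
        exact pmul _ (A.mul_mem hvg hvg) _ (A.inv_mem hvd) (pmul _ hvg _ hvg pg pg) (pinv _ hvd pd)
      · rw [vl_sub, vl_add]
        exact pmul _ (A.mul_mem hvd hvd) _ (A.inv_mem hvg) (pmul _ hvd _ hvd pd pd) (pinv _ hvg pg)
    obtain ⟨e, he, hve⟩ := t.all (mk h hA v hv.1) hv
    rcases hve with hve | hve
    · have h1 := congrArg vl hve
      rw [vl_mk] at h1
      rw [h1]
      exact pe e he
    · have h1 := congrArg vl hve
      rw [vl_mk, vl_neg] at h1
      rw [h1]
      exact pinv _ (vl_mem e) (pe e he)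
  · rw [hsd, ← vl_add, ← vl_add]
    congr 1
    abel
  · rw [← vl_cjA hs2A, t2.sg, vl_neg]
  · rw [← fA_eq t2.hg]
    rcases hlk with h1 | h1 <;> rw [h1] <;> decide
  · rw [← fA_eq t2.hg]
    rcases hlk with h1 | h1 <;> rw [h1] <;> decide

end Cfsg.Agent.Cit.Nil.CV.Glue
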