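import Cfsg.Agent.Cit.Nil.CV.Inh
import Cfsg.Agent.Cit.Nil.CV.XLevel
import Cfsg.Agent.Lib.Cores

/-!
# (6b)(CV): the theorem NIL, first part

`cn g x = g x g⁻¹`; `Q8 K z` : `K` is a quaternion group of order 8 (elementary form).
`NW Om U` : the world of a minimal counterexample to NIL: all `zz K ∈ O₂(G)`, no `U K ≤ O₂(G)`, and
`C(K) ∩ C(N)` contains no involution as soon as `TP Om U K N` (`V_K`, `V_N` do not commute).
-/

set_option autoImplicit false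
set_option linter.style.haveILetI false
set_option linter.unusedSectionVars false

namespace Cfsg.Agent.Cit.CV

open Subgroup Cfsg Cit Tau

namespace NilT

variable {G : Type*} [Group G]

/-! ### Conjugation -/

/-- conjugation -/
def cn (g x : G) : G := g * x * g⁻¹

section cn

variable {g h x y : G}

theorem cn_def : cn g x = g * x * g⁻¹ := rfl

theorem cn_mul : cn g (x * y) = cn g x * cn g y := by simp [cn, mul_assoc]

theorem cn_cn : cn g (cn h x) = cn (g * h) x := by simp [cn, mul_assoc]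

theorem cn_one : cn g 1 = (1 : G) := by simp [cn]

theorem one_cn : cn 1 x = x := by simp [cn]

theorem cn_inv : cn g x⁻¹ = (cn g x)⁻¹ := by simp [cn, mul_assoc]

theorem cn_eq_iff : cn g x = x ↔ Commute g x := by
  rw [cn, mul_inv_eq_iff_eq_mul]; exact Iff.rfl

theorem cn_of (h : Commute g x) : cn g x = x := cn_eq_iff.2 h

theorem cn_inj : cn g x = cn g y ↔ x = y := by simp [cn]

theorem cn_inv_cn : cn g⁻¹ (cn g x) = x := by rw [cn_cn, inv_mul_cancel, one_cn]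

theorem cn_cn_inv : cn g (cn g⁻¹ x) = x := by rw [cn_cn, mul_inv_cancel, one_cn]

theorem cn_comm (hh : Commute x y) : Commute (cn g x) (cn g y) := by
  show cn g x * cn g y = cn g y * cn g x
  rw [← cn_mul, ← cn_mul, hh.eq]

theorem cn_comm_iff : Commute (cn g x) (cn g y) ↔ Commute x y := by
  refine ⟨fun hh => ?_, cn_comm⟩
  have := cn_comm (g := g⁻¹) hh
  rwa [cn_inv_cn, cn_inv_cn] at this

theorem cn_pow (n : ℕ) : cn g (x ^ n) = cn g x ^ n := by simp [cn, conj_pow]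

theorem cn_mem {K : Subgroup G} (hx : x ∈ K) : cn g x ∈ cj g K := conj_mem_cj hx

end cn

/-! ### Quaternion groups of order 8 -/

/-- `K` is quaternion of order 8 with involution `z` -/
structure Q8 (K : Subgroup G) (z : G) : Prop where
  z_mem : z ∈ K
  z_ne : z ≠ 1
  z_mul : z * z = 1
  sq : ∀ k ∈ K, k = 1 ∨ k = z ∨ k * k = z
  cz : ∀ k ∈ K, Commute k z
  ex : ∃ v ∈ K, ∃ y ∈ K, v ≠ 1 ∧ v ≠ z ∧ y ≠ 1 ∧ y ≠ z ∧ y ≠ v ∧ y ≠ v * z

/-- `k ∈ K` is not in `⟨z⟩` -/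
def Nt (K : Subgroup G) (z k : G) : Prop := k ∈ K ∧ k ≠ 1 ∧ k ≠ z

/-- `l ∈ K` is not in `⟨k⟩` -/
def Ind (K : Subgroup G) (z k l : G) : Prop := Nt K z l ∧ l ≠ k ∧ l ≠ k * z

namespace Q8

variable {K : Subgroup G} {z k l : G}

theorem exists_ind' (q : Q8 K z) : ∃ v y, Nt K z v ∧ Ind K z v y := by
  obtain ⟨v, hv, y, hy, h1, h2, h3, h4, h5, h6⟩ := q.ex
  exact ⟨v, y, ⟨hv, h1, h2⟩, ⟨hy, h3, h4⟩, h5, h6⟩

theorem sqz (q : Q8 K z) (hk : Nt K z k) : k * k = z := by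
  rcases q.sq k hk.1 with h | h | h
  · exact absurd h hk.2.1
  · exact absurd h hk.2.2
  · exact h

theorem zinv (q : Q8 K z) : z⁻¹ = z := inv_eq_of_mul_eq_one_left q.z_mul

theorem inv_eq (q : Q8 K z) (hk : Nt K z k) : k⁻¹ = k * z := by
  rw [inv_eq_iff_mul_eq_one, ← mul_assoc, q.sqz hk, q.z_mul]

theorem inv_eq' (q : Q8 K z) (hk : Nt K z k) : k⁻¹ = z * k := by
  rw [q.inv_eq hk, (q.cz k hk.1).eq]

theorem nt_mul (q : Q8 K z) (hk : Nt K z k) (hl : Ind K z k l) : Nt K z (k * l) := by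
  refine ⟨K.mul_mem hk.1 hl.1.1, fun h => hl.2.2 ?_, fun h => hl.2.1 ?_⟩
  · rw [← q.inv_eq hk]; exact eq_inv_of_mul_eq_one_right h
  · have h1 : l = k⁻¹ * z := by rw [← h]; group
    rw [h1, q.inv_eq hk, mul_assoc, q.z_mul, mul_one]

theorem nt_mul_z (q : Q8 K z) (hk : Nt K z k) : Nt K z (k * z) := by
  refine ⟨K.mul_mem hk.1 q.z_mem, fun h => hk.2.2 ?_, fun h => hk.2.1 (mul_eq_right.1 h)⟩
  rw [← q.zinv]
  exact eq_inv_of_mul_eq_one_left h

theorem nt_inv (q : Q8 K z) (hk : Nt K z k) : Nt K z k⁻¹ := by rw [q.inv_eq hk]; exact q.nt_mul_z hk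

/-- independent elements anticommute -/
theorem anti (q : Q8 K z) (hk : Nt K z k) (hl : Ind K z k l) : cn l k = k * z := by
  have h1 := q.sqz (q.nt_mul hk hl)
  have h2 : l * k * l = k := by
    have : l * k * l = k⁻¹ * (k * l * (k * l)) := by group
    rw [this, h1, q.inv_eq hk, mul_assoc, q.z_mul, mul_one]
  have h3 : cn l k = (l * k * l) * (l * l)⁻¹ := by rw [cn]; group
  rw [h3, h2, q.sqz hl.1, q.zinv]

theorem ind_symm (q : Q8 K z) (hk : Nt K z k) (hl : Ind K z k l) : Ind K z l k := by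
  refine ⟨hk, Ne.symm hl.2.1, fun h => hl.2.2 ?_⟩
  rw [h, mul_assoc, q.z_mul, mul_one]

theorem ind_mul (q : Q8 K z) (hk : Nt K z k) (hl : Ind K z k l) : Ind K z k (k * l) := by
  refine ⟨q.nt_mul hk hl, fun h => hl.1.2.1 (mul_eq_left.1 h), fun h => hl.1.2.2 (mul_left_cancel h)⟩

theorem ind_mul' (q : Q8 K z) (hk : Nt K z k) (hl : Ind K z k l) : Ind K z l (k * l) := by
  refine ⟨q.nt_mul hk hl, fun h => hk.2.1 (mul_eq_right.1 h), fun h => hk.2.2 ?_⟩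
  rw [(q.cz l hl.1.1).eq] at h
  exact mul_right_cancel h

theorem exists_ind (q : Q8 K z) (hk : Nt K z k) : ∃ l, Ind K z k l := by
  obtain ⟨v, y, hv, hy⟩ := q.exists_ind'
  by_cases h1 : Ind K z k v
  · exact ⟨v, h1⟩
  · refine ⟨y, hy.1, ?_, ?_⟩
    · rintro rfl
      exact h1 (q.ind_symm hv hy)
    · rintro rfl
      refine h1 ⟨hv, ?_, ?_⟩
      · rintro rfl
        exact hy.2.2 rfl
      · rintro rfl
        exact hy.2.1 rfl

/-- what commutes with two independent elements commutes with `K` -/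
theorem cov (q : Q8 K z) (hk : Nt K z k) (hl : Ind K z k l) {x : G} (hx1 : Commute k x) (hx2 : Commute l x) :
    ∀ y ∈ K, Commute y x := by
  have hz : Commute z x := by rw [← q.sqz hk]; exact hx1.mul_left hx1
  intro y hy
  by_cases h1 : Ind K z k y
  · -- `l⁻¹ y` commutes with `k`
    have e1 := q.anti hk hl
    have e2 := q.anti hk h1
    have e3 : cn (l⁻¹ * y) k = k := by rw [← cn_cn, e2, ← e1, cn_inv_cn]
    have h2 : ¬ Ind K z k (l⁻¹ * y) := by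
      intro h3
      rw [q.anti hk h3] at e3
      exact q.z_ne (mul_eq_left.1 e3)
    have h3 : l⁻¹ * y = 1 ∨ l⁻¹ * y = z ∨ l⁻¹ * y = k ∨ l⁻¹ * y = k * z := by
      by_contra hcon
      push Not at hcon
      exact h2 ⟨⟨K.mul_mem (K.inv_mem hl.1.1) hy, hcon.1, hcon.2.1⟩, hcon.2.2.1, hcon.2.2.2⟩
    have h4 : Commute (l⁻¹ * y) x := by
      rcases h3 with h | h | h | h <;> rw [h]
      · exact Commute.one_left x
      · exact hz
      · exact hx1
      · exact hx1.mul_left hz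
    have h5 : y = l * (l⁻¹ * y) := by group
    rw [h5]
    exact hx2.mul_left h4
  · have h3 : y = 1 ∨ y = z ∨ y = k ∨ y = k * z := by
      by_contra hcon
      push Not at hcon
      exact h1 ⟨⟨hy, hcon.1, hcon.2.1⟩, hcon.2.2.1, hcon.2.2.2⟩
    rcases h3 with h | h | h | h <;> rw [h]
    · exact Commute.one_left x
    · exact hz
    · exact hx1
    · exact hx1.mul_left hz

/-- centre -/
theorem cen (q : Q8 K z) (hk : k ∈ K) (hc : ∀ y ∈ K, Commute y k) : k = 1 ∨ k = z := by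
  by_contra hcon
  push Not at hcon
  have hk' : Nt K z k := ⟨hk, hcon.1, hcon.2⟩
  obtain ⟨l, hl⟩ := q.exists_ind hk'
  have h1 := q.anti hk' hl
  rw [cn_of (hc l hl.1.1)] at h1
  exact q.z_ne (mul_eq_left.1 h1.symm)

theorem conj (q : Q8 K z) (g : G) : Q8 (cj g K) (cn g z) := by
  refine ⟨cn_mem q.z_mem, fun h => q.z_ne ?_, ?_, ?_, ?_, ?_⟩
  · rwa [← cn_one (g := g), cn_inj] at h
  · rw [← cn_mul, q.z_mul, cn_one]
  · rintro _ ⟨k, hk, rfl⟩
    show cn g k = 1 ∨ cn g k = cn g z ∨ cn g k * cn g k = cn g z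
    rw [← cn_mul, cn_inj, cn_inj]
    nth_rewrite 1 [← cn_one (g := g)]
    rw [cn_inj]
    exact q.sq k hk
  · rintro _ ⟨k, hk, rfl⟩
    exact cn_comm (q.cz k hk)
  · obtain ⟨v, hv, y, hy, h1, h2, h3, h4, h5, h6⟩ := q.ex
    refine ⟨cn g v, cn_mem hv, cn g y, cn_mem hy, ?_, ?_, ?_, ?_, ?_, ?_⟩
    · rwa [Ne, ← cn_one (g := g), cn_inj]
    · rwa [Ne, cn_inj]
    · rwa [Ne, ← cn_one (g := g), cn_inj]
    · rwa [Ne, cn_inj]
    · rwa [Ne, cn_inj]
    · rwa [Ne, ← cn_mul, cn_inj]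

end Q8

/-! ### T-pairs -/

/-- `V_K`, `V_N` do not commute -/
def TP (Om : Set (Subgroup G)) (U : Subgroup G → Subgroup G) (K N : Subgroup G) : Prop :=
  K ∈ Om ∧ N ∈ Om ∧ ¬ ∀ v ∈ U K, Commute v (zz N)

section tp

variable [Finite G] {Om : Set (Subgroup G)} {U : Subgroup G → Subgroup G} {K N K' N' : Subgroup G} {v w : G}

theorem tp_iff (h : CVW Om U) (hK : K ∈ Om) (hN : N ∈ Om) (hv : v ∈ U K) (hv4 : orderOf v = 4) :
    TP Om U K N ↔ ¬ Commute v (zz N) := by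
  refine ⟨fun ht hc => ht.2.2 fun x hx => ?_, fun hc => ⟨hK, hN, fun hh => hc (hh v hv)⟩⟩
  obtain ⟨n, rfl⟩ := h.exists_pw_U hK hv hv4 hx
  exact (pw_comm hc.symm.eq n).symm

theorem comm_vw (h : CVW Om U) (hK : K ∈ Om) (hN : N ∈ Om) (hv : v ∈ U K) (hv4 : orderOf v = 4) (hw : w ∈ U N)
    (hw4 : orderOf w = 4) (hc : Commute v (zz N)) : Commute v w := by
  have h1 := h.norm_h3 hK hN (h.vch.le K hK hv) hv4.ge hc.eq
  have hv2 : IsPGroup 2 (zpowers v) := (h.two K hK).to_le (zpowers_le.2 (h.vch.le K hK hv))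
  have hT : IsPGroup 2 (zpowers v ⊔ N : Subgroup G) :=
    hv2.to_sup_of_normal_right' (h.two N hN) (zpowers_le.2 h1)
  exact h.vch.commute h.hyp hT hK hN hv hw hv4 hw4 (mem_sup_left (mem_zpowers v)) (mem_sup_right (h.vch.le N hN hw))

theorem tp_iff' (h : CVW Om U) (hK : K ∈ Om) (hN : N ∈ Om) (hv : v ∈ U K) (hv4 : orderOf v = 4) (hw : w ∈ U N)
    (hw4 : orderOf w = 4) : TP Om U K N ↔ ¬ Commute v w := by
  rw [tp_iff h hK hN hv hv4, not_iff_not]
  refine ⟨comm_vw h hK hN hv hv4 hw hw4, fun hc => ?_⟩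
  rw [← h.sq_eq hN hw hw4]
  exact hc.mul_right hc

theorem TP.symm (ht : TP Om U K N) (h : CVW Om U) : TP Om U N K := by
  obtain ⟨v, hv, hv4⟩ := h.exists_v ht.1
  obtain ⟨w, hw, hw4⟩ := h.exists_v ht.2.1
  rw [tp_iff' h ht.2.1 ht.1 hw hw4 hv hv4]
  rw [tp_iff' h ht.1 ht.2.1 hv hv4 hw hw4] at ht
  exact fun hc => ht hc.symm

theorem TP.right (ht : TP Om U K N) (h : CVW Om U) (hN' : N' ∈ Om) (hz : zz N' = zz N) : TP Om U K N' := by
  obtain ⟨v, hv, hv4⟩ := h.exists_v ht.1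
  rw [tp_iff h ht.1 hN' hv hv4, hz]
  rwa [tp_iff h ht.1 ht.2.1 hv hv4] at ht

theorem TP.of_zz (ht : TP Om U K N) (h : CVW Om U) (hK' : K' ∈ Om) (hN' : N' ∈ Om) (hz : zz K' = zz K)
    (hz' : zz N' = zz N) : TP Om U K' N' :=
  (((ht.right h hN' hz').symm h).right h hK' hz).symm h

theorem zz_cn (h : CVW Om U) (hK : K ∈ Om) (g : G) : zz (cj g K) = cn g (zz K) := h.hyp.zz_cj hK g

theorem TP.cj (ht : TP Om U K N) (h : CVW Om U) (g : G) : TP Om U (cj g K) (cj g N) := by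
  obtain ⟨v, hv, hv4⟩ := h.exists_v ht.1
  rw [tp_iff h (h.hyp.conj K ht.1 g) (h.hyp.conj N ht.2.1 g) (h.vch.conj_mem ht.1 hv g) (orderOf_conj_four hv4 g),
    zz_cn h ht.2.1, ← cn_def, cn_comm_iff]
  rwa [tp_iff h ht.1 ht.2.1 hv hv4] at ht

theorem TP.zz_ne (ht : TP Om U K N) (h : CVW Om U) : zz K ≠ zz N := by
  intro hz
  apply ht.2.2
  intro x hx
  rw [← hz]
  exact h.hyp.comm_zz ht.1 (le_normalizer (h.vch.le K ht.1 hx))

end tp

/-! ### The world NW -/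

/-- the world of a minimal counterexample -/
structure NW (Om : Set (Subgroup G)) (U : Subgroup G → Subgroup G) : Prop where
  h : CVW Om U
  all : ∀ K ∈ Om, zz K ∈ pCore 2 G
  bad : ∀ K ∈ Om, ¬ U K ≤ pCore 2 G
  cen : ∀ K N, TP Om U K N → ∀ x : G, (∀ k ∈ K, Commute k x) → (∀ n ∈ N, Commute n x) → x * x = 1 → x = 1

/-- the subgroup generated by the `zz K` -/
def ZO (Om : Set (Subgroup G)) : Subgroup G := closure {x | ∃ K ∈ Om, x = zz K}

namespace NW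

variable [Finite G] {Om : Set (Subgroup G)} {U : Subgroup G → Subgroup G} {K N K' N' L : Subgroup G}
  {a b g k l n v w x y : G} (c : NW Om U)
include c

theorem pnorm : (pCore 2 G).Normal := Lib.Cores.pCore_normal 2

theorem zz_mul (hK : K ∈ Om) : zz K * zz K = 1 := c.h.hyp.zz_mul hK

theorem zz_inv (hK : K ∈ Om) : (zz K)⁻¹ = zz K := c.h.hyp.zz_inv hK

/-- (2) -/
theorem comm_of_P (hK : K ∈ Om) (hp : g ∈ pCore 2 G) (hne : cj g K ≠ K) (ha : a ∈ cj g K) (hb : b ∈ K) :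
    Commute a b := by
  haveI := c.pnorm
  have hS : IsPGroup 2 (pCore 2 G ⊔ K : Subgroup G) :=
    (Lib.Cores.pCore_isPGroup 2).to_sup_of_normal_left (c.h.two K hK)
  have h1 : cj g K ≤ pCore 2 G ⊔ K := by
    rintro _ ⟨k, hk, rfl⟩
    exact mul_mem (mul_mem (mem_sup_left hp) (mem_sup_right hk)) (inv_mem (mem_sup_left hp))
  have hOm : ∀ {M : Subgroup G}, M ∈ Om → M ≤ pCore 2 G ⊔ K → M ∈ OmS Om (pCore 2 G ⊔ K) := by
    intro M hM hle
    refine ⟨hM, ?_⟩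
    rw [relIndex_eq_one.2 hle]
    norm_num
  exact c.h.hyp.comm hS (hOm (c.h.hyp.conj K hK g) h1) (hOm hK le_sup_right) hne ⟨ha, h1 ha⟩ ⟨hb, mem_sup_right hb⟩

/-- (6): no `zz N` inverts `V_K` -/
theorem no_inv (hN : N ∈ Om) (hK : K ∈ Om) (hv : v ∈ U K) (hv4 : orderOf v = 4) : cn (zz N) v ≠ v⁻¹ := by
  intro hs
  haveI := c.pnorm
  obtain ⟨y, hy, hyX⟩ := c.h.exists_y hK
  obtain ⟨hd, hodd⟩ := Nil.CV.XLevel.inv_y c.h hN hK hv hv4 hs hy hyX
  obtain ⟨i, hi⟩ := Nil.CV.XLevel.gen_of_odd c.h hK hd hodd (c.h.U_le_XX hK hv)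
  apply c.bad K hK
  rw [c.h.U_eq hK hv hv4, zpowers_le, hi]
  apply zpow_mem
  have h1 : (zz N * y * (zz N)⁻¹)⁻¹ * y = zz N * (y⁻¹ * (zz N)⁻¹ * y) := by group
  rw [h1]
  refine mul_mem (c.all N hN) ?_
  have h2 := c.pnorm.conj_mem _ (inv_mem (c.all N hN)) y⁻¹
  rwa [inv_inv] at h2

/-- members over the same involution -/
theorem comm_over (hK : K ∈ Om) (hL : L ∈ Om) (hz : zz K = zz L) (hne : K ≠ L) (ha : a ∈ K) (hb : b ∈ L) :
    Commute a b := c.h.comm_of_zz_eq hK hL hz hne ha hb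

theorem zz_cen (hK : K ∈ Om) (hk : k ∈ K) : Commute k (zz K) := c.h.hyp.comm_zz hK (le_normalizer hk)

/-- (7) -/
theorem zz_comm (hK : K ∈ Om) (hN : N ∈ Om) : Commute (zz K) (zz N) := by
  obtain ⟨v, hv, hv4⟩ := c.h.exists_v hK
  by_cases ht : TP Om U K N
  swap
  · rw [tp_iff c.h hK hN hv hv4, not_not] at ht
    rw [← c.h.sq_eq hK hv hv4]
    exact ht.mul_left ht
  have hz := c.zz_mul hK
  have hs := c.zz_mul hN
  have hzi := c.zz_inv hK
  have hsi := c.zz_inv hN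
  have hzm := c.h.hyp.zz_mem hK
  have hsm := c.h.hyp.zz_mem hN
  by_cases h1 : cj (zz N) K = K
  · have h2 := zz_cn c.h hK (zz N)
    rw [h1] at h2
    exact (cn_eq_iff.1 h2.symm).symm
  by_cases h2 : cj (zz K) N = N
  · have h3 := zz_cn c.h hN (zz K)
    rw [h2] at h3
    exact cn_eq_iff.1 h3.symm
  have e1 : zz K * zz N * (zz K * zz N) = zz K * cn (zz N) (zz K) := by rw [cn, hsi]; group
  have e2 : zz K * zz N * (zz K * zz N) = cn (zz K) (zz N) * zz N := by rw [cn, hzi]; group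
  have k1 : ∀ k ∈ K, Commute k (zz K * zz N * (zz K * zz N)) := by
    intro k hk
    rw [e1]
    exact (c.zz_cen hK hk).mul_right (c.comm_of_P hK (c.all N hN) h1 (cn_mem hzm) hk).symm
  have k2 : ∀ n ∈ N, Commute n (zz K * zz N * (zz K * zz N)) := by
    intro n hn
    rw [e2]
    exact (c.comm_of_P hN (c.all K hK) h2 (cn_mem hsm) hn).symm.mul_right (c.zz_cen hN hn)
  have h3 := c.cen K N ht (zz K * zz N * (zz K * zz N)) k1 k2 ?_
  · show zz K * zz N = zz N * zz K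
    rw [mul_eq_one_iff_eq_inv, mul_inv_rev, hsi, hzi] at h3
    exact h3
  · have h4 : Commute (zz K) (cn (zz N) (zz K)) := (c.comm_of_P hK (c.all N hN) h1 (cn_mem hzm) hzm).symm
    rw [e1]
    calc zz K * cn (zz N) (zz K) * (zz K * cn (zz N) (zz K))
        = zz K * (cn (zz N) (zz K) * zz K) * cn (zz N) (zz K) := by group
      _ = zz K * (zz K * cn (zz N) (zz K)) * cn (zz N) (zz K) := by rw [h4.eq]
      _ = (zz K * zz K) * (cn (zz N) (zz K) * cn (zz N) (zz K)) := by group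
      _ = 1 := by rw [hz, ← cn_mul, hz, cn_one, mul_one]

/-! #### `ZO` -/

theorem zz_mem_ZO (hK : K ∈ Om) : zz K ∈ ZO Om := subset_closure ⟨K, hK, rfl⟩

theorem ZO_comm (ha : a ∈ ZO Om) (hb : b ∈ ZO Om) : Commute a b := by
  have h1 : ZO Om ≤ centralizer {x | ∃ K ∈ Om, x = zz K} := by
    rw [ZO, closure_le]
    rintro _ ⟨K, hK, rfl⟩
    rw [SetLike.mem_coe, mem_centralizer_iff]
    rintro _ ⟨N, hN, rfl⟩
    exact (c.zz_comm hN hK).eq
  have h2 : ZO Om ≤ centralizer (ZO Om : Set G) := by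
    nth_rewrite 1 [ZO]
    rw [closure_le]
    intro x hx
    rw [SetLike.mem_coe, mem_centralizer_iff]
    intro y hy
    exact ((mem_centralizer_iff.1 (h1 hy)) x hx).symm
  exact ((mem_centralizer_iff.1 (h2 ha)) b hb).symm

theorem ZO_sq (ha : a ∈ ZO Om) : a * a = 1 := by
  have h1 : a ∈ ZO Om ∧ a * a = 1 := by
    unfold ZO at ha
    induction ha using closure_induction with
    | mem x hx => obtain ⟨K, hK, rfl⟩ := hx; exact ⟨c.zz_mem_ZO hK, c.zz_mul hK⟩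
    | one => exact ⟨one_mem _, one_mul 1⟩
    | mul x y _ _ hx hy =>
      refine ⟨mul_mem hx.1 hy.1, ?_⟩
      calc x * y * (x * y) = x * (y * x) * y := by group
        _ = x * (x * y) * y := by rw [(c.ZO_comm hx.1 hy.1).eq]
        _ = (x * x) * (y * y) := by group
        _ = 1 := by rw [hx.2, hy.2, one_mul]
    | inv x _ hx => exact ⟨inv_mem hx.1, by rw [← mul_inv_rev, hx.2, inv_one]⟩
  exact h1.2

theorem ZO_inv (ha : a ∈ ZO Om) : a⁻¹ = a := inv_eq_of_mul_eq_one_left (c.ZO_sq ha)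

theorem ZO_cn (ha : a ∈ ZO Om) (g : G) : cn g a ∈ ZO Om := by
  unfold ZO at ha
  induction ha using closure_induction with
  | mem x hx =>
    obtain ⟨K, hK, rfl⟩ := hx
    rw [← zz_cn c.h hK]
    exact c.zz_mem_ZO (c.h.hyp.conj K hK g)
  | one => rw [cn_one]; exact one_mem _
  | mul x y _ _ hx hy => rw [cn_mul]; exact mul_mem hx hy
  | inv x _ hx => rw [cn_inv]; exact inv_mem hx

theorem ZO_le : ZO Om ≤ pCore 2 G := by
  rw [ZO, closure_le]
  rintro _ ⟨K, hK, rfl⟩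
  exact c.all K hK

/-- (8) -/
theorem cj_ne (ht : TP Om U K N) : cj (zz N) K ≠ K := by
  intro h1
  obtain ⟨v, hv, hv4⟩ := c.h.exists_v ht.1
  rcases c.h.conj_or ht.1 (mem_normalizer_iff_cj.2 h1) hv hv4 with h2 | h2
  · rw [tp_iff c.h ht.1 ht.2.1 hv hv4] at ht
    exact ht (cn_eq_iff.1 h2).symm
  · exact c.no_inv ht.2.1 ht.1 hv hv4 h2

/-- (11) -/
theorem tp_iff_cj (hK : K ∈ Om) (hL : L ∈ Om) : TP Om U K L ↔ cj (zz L) K ≠ K := by
  refine ⟨c.cj_ne, fun h1 => ?_⟩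
  obtain ⟨v, hv, hv4⟩ := c.h.exists_v hK
  rw [tp_iff c.h hK hL hv hv4]
  intro hc
  exact h1 (mem_normalizer_iff_cj.1 (c.h.norm_of_comm hK hv hv4 hc.symm.eq))

theorem zz_cj_zz (hK : K ∈ Om) (hN : N ∈ Om) : zz (cj (zz N) K) = zz K := by
  rw [zz_cn c.h hK]
  exact cn_of (c.zz_comm hN hK)

theorem cj_comm (ht : TP Om U K N) (ha : a ∈ cj (zz N) K) (hb : b ∈ K) : Commute a b :=
  c.comm_of_P ht.1 (c.all N ht.2.1) (c.cj_ne ht) ha hb

/-- `[k, s]`, `s = zz N` -/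
theorem mul_cn (hN : N ∈ Om) (k : G) : zz N * cn k (zz N) = cn (zz N) k * k⁻¹ := by
  have hsi := c.zz_inv hN
  rw [cn, cn, hsi]
  group

/-- the centre of a member -/
theorem cen_K (hK : K ∈ Om) (hk : k ∈ K) (hc : ∀ x ∈ K, Commute x k) : k = 1 ∨ k = zz K := by
  obtain ⟨v, hv, hv4⟩ := c.h.exists_v hK
  obtain ⟨y, hy, hyX⟩ := c.h.exists_y hK
  have hvv : v ≠ v⁻¹ := by
    intro h1
    have h2 : v * v = 1 := by nth_rewrite 1 [h1]; exact inv_mul_cancel v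
    rw [c.h.sq_eq hK hv hv4] at h2
    exact c.h.hyp.zz_ne hK h2
  have hkX : k ∈ XX U K := by
    rw [c.h.mem_XX_iff hK hv hv4 hk]
    exact (hc v (c.h.vch.le K hK hv)).symm.eq
  have h1 := (c.h.y_facts hK hy hyX).2.2 k hkX
  have h2 : y * k * y⁻¹ = k := cn_of (hc y hy)
  rw [h2] at h1
  have h3 : k * k = 1 := by nth_rewrite 1 [h1]; exact inv_mul_cancel k
  by_cases hk1 : k = 1
  · exact Or.inl hk1
  · right
    refine c.h.hyp.uniq K hK k hk (orderOf_eq_prime ?_ hk1)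
    rw [pow_two, h3]

theorem sq_mem (ht : TP Om U K N) (hk : k ∈ K) : k * k = 1 ∨ k * k = zz K := by
  have hs := c.all N ht.2.1
  have h1 : cn (zz N) k ∈ cj (zz N) K := cn_mem hk
  have h2 : zz N * cn k (zz N) ∈ ZO Om :=
    mul_mem (c.zz_mem_ZO ht.2.1) (c.ZO_cn (c.zz_mem_ZO ht.2.1) k)
  have h3 := c.ZO_sq h2
  rw [c.mul_cn ht.2.1] at h3
  have h4 := c.cj_comm ht h1 hk
  have h5 : k * k = cn (zz N) k * cn (zz N) k := by
    have h6 : cn (zz N) k * cn (zz N) k * (k⁻¹ * k⁻¹) = 1 := by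
      rw [← h3]
      calc cn (zz N) k * cn (zz N) k * (k⁻¹ * k⁻¹) = cn (zz N) k * (cn (zz N) k * k⁻¹) * k⁻¹ := by group
        _ = cn (zz N) k * (k⁻¹ * cn (zz N) k) * k⁻¹ := by rw [h4.inv_right.eq]
        _ = _ := by group
    rw [mul_eq_one_iff_eq_inv] at h6
    rw [h6, mul_inv_rev, inv_inv]
  refine c.cen_K ht.1 (K.mul_mem hk hk) fun x hx => ?_
  rw [h5]
  have h6 := (c.cj_comm ht h1 hx).symm
  exact h6.mul_right h6

/-- (8): `K` is quaternion of order 8 -/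
theorem q8 (ht : TP Om U K N) : Q8 K (zz K) := by
  obtain ⟨v, hv, hv4⟩ := c.h.exists_v ht.1
  obtain ⟨y, hy, hyX⟩ := c.h.exists_y ht.1
  have hvK := c.h.vch.le K ht.1 hv
  have hvX := c.h.U_le_XX ht.1 hv
  have hzX : zz K ∈ XX U K := by
    rw [← c.h.sq_eq ht.1 hv hv4]
    exact mul_mem hvX hvX
  refine ⟨c.h.hyp.zz_mem ht.1, c.h.hyp.zz_ne ht.1, c.zz_mul ht.1, ?_, fun k hk => c.zz_cen ht.1 hk,
    v, hvK, y, hy, ?_, ?_, ?_, ?_, ?_, ?_⟩
  · intro k hk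
    rcases c.sq_mem ht hk with h1 | h1
    · by_cases hk1 : k = 1
      · exact Or.inl hk1
      · right; left
        refine c.h.hyp.uniq K ht.1 k hk (orderOf_eq_prime ?_ hk1)
        rw [pow_two, h1]
    · exact Or.inr (Or.inr h1)
  · rintro rfl
    rw [orderOf_one] at hv4
    omega
  · intro h1
    have h2 := c.h.sq_eq ht.1 hv hv4
    rw [h1, c.zz_mul ht.1] at h2
    exact c.h.hyp.zz_ne ht.1 h2.symm
  · rintro rfl
    exact hyX (one_mem _)
  · rintro rfl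
    exact hyX hzX
  · rintro rfl
    exact hyX hvX
  · rintro rfl
    exact hyX (mul_mem hvX hzX)

/-- (8): `C_K(s) = ⟨z⟩` -/
theorem cen_s (ht : TP Om U K N) (hk : k ∈ K) (hc : Commute k (zz N)) : k = 1 ∨ k = zz K := by
  refine c.cen_K ht.1 hk fun x hx => ?_
  have h1 : k ∈ cj (zz N) K := by
    have := cn_mem (g := zz N) hk
    rwa [cn_of hc.symm] at this
  exact (c.cj_comm ht h1 hx).symm

theorem eq_of_cn (ht : TP Om U K N) (hk : k ∈ K) (hl : l ∈ K) (he : cn k (zz N) = cn l (zz N)) :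
    l = k ∨ l = k * zz K := by
  have h1 : cn (k⁻¹ * l) (zz N) = zz N := by rw [← cn_cn, ← he, cn_inv_cn]
  rcases c.cen_s ht (K.mul_mem (K.inv_mem hk) hl) (cn_eq_iff.1 h1) with h2 | h2
  · left
    rw [inv_mul_eq_one] at h2
    exact h2.symm
  · right
    rw [← h2]; group

end NW

end NilT

end Cfsg.Agent.Cit.CV
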