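import Cfsg.Agent.Cit.Nil.CV.NilA

/-!
# (6b)(CV): the theorem NIL, second part

The world `NW Om U` is impossible as soon as there is a T-pair: (9)-(18) of the text (R18, helper748, 06:04Z).
-/

set_option autoImplicit false
set_option linter.style.haveILetI false
set_option linter.unusedSectionVars false

namespace Cfsg.Agent.Cit.CV

open Subgroup Cfsg Cit Tau

namespace NilT

variable {G : Type*} [Group G]

namespace NW

variable [Finite G] {Om : Set (Subgroup G)} {U : Subgroup G → Subgroup G} {K N K' N' L : Subgroup G}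
  {a b g k k' l n n' m u v w x y : G} (c : NW Om U)
include c

/-- two T-pairs `(K, N)`, `(K', N)` over the same involution with a common value -/
theorem over_eq (ht : TP Om U K N) (hK' : K' ∈ Om) (hz : zz K' = zz K) (hk : k ∈ K)
    (hk' : Nt K' (zz K') k') (he : cn k (zz N) = cn k' (zz N)) : K' = K ∨ K' = cj (zz N) K := by
  by_contra hcon
  push Not at hcon
  have ht' : TP Om U K' N := ht.of_zz c.h hK' ht.2.1 hz rfl
  have cA : ∀ x ∈ K', ∀ y ∈ K, Commute x y := fun x hx y hy => c.comm_over hK' ht.1 hz hcon.1 hx hy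
  have cB : ∀ x ∈ K', ∀ y ∈ cj (zz N) K, Commute x y := fun x hx y hy =>
    c.comm_over hK' (c.h.hyp.conj K ht.1 _) (by rw [hz, c.zz_cj_zz ht.1 ht.2.1]) hcon.2 hx hy
  have e1 : cn (zz N) k * k⁻¹ = cn (zz N) k' * k'⁻¹ := by
    rw [← c.mul_cn ht.2.1, ← c.mul_cn ht.2.1, he]
  have h1 : ∀ x ∈ K', Commute x k' := by
    intro x hx
    have h2 : Commute x (cn (zz N) k' * k'⁻¹) := by
      rw [← e1]
      exact (cB x hx _ (cn_mem hk)).mul_right (cA x hx k hk).inv_right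
    have h3 : Commute x (cn (zz N) k') := (c.cj_comm ht' (cn_mem hk'.1) hx).symm
    have h4 : k' = (cn (zz N) k' * k'⁻¹)⁻¹ * cn (zz N) k' := by group
    rw [h4]
    exact h2.inv_right.mul_right h3
  rcases c.cen_K hK' hk'.1 h1 with h2 | h2
  · exact hk'.2.1 h2
  · exact hk'.2.2 h2

/-- (9) -/
theorem nine (ht : TP Om U K N) (ha : a ∈ ZO Om) : cj a K = K ∨ cj a K = cj (zz N) K := by
  obtain ⟨k, -, hk, -⟩ := (c.q8 ht).exists_ind'
  have hza : cn a (zz K) = zz K := cn_of (c.ZO_comm ha (c.zz_mem_ZO ht.1))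
  have hz : zz (cj a K) = zz K := by rw [zz_cn c.h ht.1, hza]
  refine c.over_eq ht (c.h.hyp.conj K ht.1 a) hz hk.1 (k' := cn a k) ⟨cn_mem hk.1, ?_, ?_⟩ ?_
  · intro h1
    rw [← cn_one (g := a), cn_inj] at h1
    exact hk.2.1 h1
  · intro h1
    rw [zz_cn c.h ht.1, cn_inj] at h1
    exact hk.2.2 h1
  · have h1 : cn (cn a k) (zz N) = cn a (cn k (cn a⁻¹ (zz N))) := by simp [cn, mul_assoc]
    rw [h1, c.ZO_inv ha, cn_of (c.ZO_comm ha (c.zz_mem_ZO ht.2.1)),
      cn_of (c.ZO_comm ha (c.ZO_cn (c.zz_mem_ZO ht.2.1) k))]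

/-- the product of two moving elements is not moving -/
theorem lam_mul (ht : TP Om U K N) (ha : a ∈ ZO Om) (hb : b ∈ ZO Om) (ha1 : cj a K ≠ K) (hb1 : cj b K ≠ K) :
    cj (a * b) K = K := by
  have h1 := (c.nine ht ha).resolve_left ha1
  have h2 := (c.nine ht hb).resolve_left hb1
  rw [cj_mul, h2, ← cj_mul, (c.ZO_comm ha (c.zz_mem_ZO ht.2.1)).eq, cj_mul, h1, ← cj_mul, c.zz_mul ht.2.1, cj_one]

/-- (10) -/
theorem ten (hK : K ∈ Om) (ha : a ∈ ZO Om) (ha1 : cj a K = K) (hk : k ∈ K) : cn k a = a ∨ cn k a = a * zz K := by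
  have h1 : a * cn k a ∈ ZO Om := mul_mem ha (c.ZO_cn ha k)
  have h2 : a * cn k a = cn a k * k⁻¹ := by
    have h3 := c.ZO_inv ha
    rw [cn, cn, h3]; group
  have h3 : cn a k * k⁻¹ ∈ K := by
    refine K.mul_mem ?_ (K.inv_mem hk)
    have := cn_mem (g := a) hk
    rwa [ha1] at this
  have h4 := c.ZO_sq h1
  by_cases h5 : a * cn k a = 1
  · left
    have h6 := c.ZO_inv ha
    rw [mul_eq_one_iff_inv_eq, h6] at h5
    exact h5.symm
  · right
    have h6 : a * cn k a = zz K := by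
      refine c.h.hyp.uniq K hK _ (by rw [h2]; exact h3) (orderOf_eq_prime ?_ h5)
      rw [pow_two, h4]
    rw [← h6, ← mul_assoc, c.ZO_sq ha, one_mul]

theorem cent_v (hL : L ∈ Om) (hK : K ∈ Om) (h1 : cj (zz L) K = K) (hv : v ∈ U K) (hv4 : orderOf v = 4) :
    Commute v (zz L) := by
  by_contra h2
  rw [← tp_iff c.h hK hL hv hv4, c.tp_iff_cj hK hL] at h2
  exact h2 h1

/-- (12) -/
theorem twelve (ht : TP Om U K N) (hw : w ∈ U N) (hw4 : orderOf w = 4) : TP Om U K (cj w K) := by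
  obtain ⟨v, hv, hv4⟩ := c.h.exists_v ht.1
  by_contra hcon
  rw [tp_iff' c.h ht.1 (c.h.hyp.conj K ht.1 w) hv hv4 (c.h.vch.conj_mem ht.1 hv w) (orderOf_conj_four hv4 w),
    not_not] at hcon
  have hcon' : Commute v (cn w v) := hcon
  have hw2 : w * w = zz N := c.h.sq_eq ht.2.1 hw hw4
  have hvK := c.h.vch.le K ht.1 hv
  have e2 : Commute v (cn (w * w) v) := by
    rw [hw2]
    exact (c.cj_comm ht (cn_mem hvK) hvK).symm
  have e3 : Commute v (cn (w * w * w) v) := by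
    have h1 : Commute (cn w v) (cn w (cn (w * w * w) v)) := by
      have h2 : cn w (cn (w * w * w) v) = v := by
        have h3 : w * (w * w * w) = 1 := by
          calc w * (w * w * w) = (w * w) * (w * w) := by group
            _ = 1 := by rw [hw2, c.zz_mul ht.2.1]
        rw [cn_cn, h3, one_cn]
      rw [h2]
      exact hcon'.symm
    exact cn_comm_iff.1 h1
  have hw4' : w ^ 4 = 1 := by rw [← hw4]; exact pow_orderOf_eq_one w
  -- all powers
  have key : ∀ i : ℕ, Commute v (cn (w ^ i) v) := by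
    intro i
    have h1 : w ^ i = w ^ (i % 4) := by
      conv_lhs => rw [← Nat.div_add_mod i 4, pow_add, pow_mul, hw4', one_pow, one_mul]
    rw [h1]
    have h2 : i % 4 < 4 := Nat.mod_lt _ (by norm_num)
    interval_cases i % 4
    · rw [pow_zero, one_cn]
    · rw [pow_one]; exact hcon'
    · rw [pow_two]; exact e2
    · rw [pow_succ, pow_two]; exact e3
  have key2 : ∀ i j : ℕ, Commute (cn (w ^ i) v) (cn (w ^ j) v) := by
    have aux : ∀ i d : ℕ, Commute (cn (w ^ i) v) (cn (w ^ (i + d)) v) := by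
      intro i d
      rw [pow_add, ← cn_cn]
      exact cn_comm (key d)
    intro i j
    rcases le_total i j with h1 | h1
    · obtain ⟨d, rfl⟩ := Nat.exists_eq_add_of_le h1
      exact aux i d
    · obtain ⟨d, rfl⟩ := Nat.exists_eq_add_of_le h1
      exact (aux j d).symm
  set A : Subgroup G := closure {x | ∃ i : ℕ, x = cn (w ^ i) v} with hA
  have hAc : ∀ a ∈ A, ∀ b ∈ A, Commute a b := by
    have h1 : A ≤ centralizer {x | ∃ i : ℕ, x = cn (w ^ i) v} := by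
      rw [hA, closure_le]
      rintro _ ⟨i, rfl⟩
      rw [SetLike.mem_coe, mem_centralizer_iff]
      rintro _ ⟨j, rfl⟩
      exact (key2 j i).eq
    intro a ha b hb
    have h2 : A ≤ centralizer {a} := by
      rw [hA, closure_le]
      intro x hx
      rw [SetLike.mem_coe, mem_centralizer_singleton_iff]
      exact (mem_centralizer_iff.1 (h1 ha)) x hx
    exact (mem_centralizer_singleton_iff.1 (h2 hb)).symm
  have hA4 : ∀ a ∈ A, a ^ 4 = 1 := by
    have h1 : ∀ a ∈ A, a ∈ A ∧ a ^ 4 = 1 := by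
      intro a ha
      have ha' := ha
      rw [hA] at ha'
      induction ha' using closure_induction with
      | mem x hx =>
        refine ⟨ha, ?_⟩
        obtain ⟨i, rfl⟩ := hx
        rw [← cn_pow, ← hv4, pow_orderOf_eq_one, cn_one]
      | one => exact ⟨ha, one_pow 4⟩
      | mul x y hx' hy' hx hy =>
        have hx2 := hx hx'
        have hy2 := hy hy'
        exact ⟨ha, by rw [(hAc x hx' y hy').mul_pow, hx2.2, hy2.2, one_mul]⟩
      | inv x hx' hx => exact ⟨ha, by rw [inv_pow, (hx hx').2, inv_one]⟩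
    exact fun a ha => (h1 a ha).2
  have hA2 : IsPGroup 2 A := by
    intro a
    refine ⟨2, ?_⟩
    apply Subtype.ext
    have := hA4 a.1 a.2
    simpa using this
  have hwA : zpowers w ≤ normalizer (A : Set G) := by
    rw [zpowers_le, mem_normalizer_iff_cj]
    refine Subgroup.eq_of_le_of_card_ge ?_ (card_cj w A).ge
    rw [cj_def, map_le_iff_le_comap, hA, closure_le]
    rintro _ ⟨i, rfl⟩
    show cn w (cn (w ^ i) v) ∈ A
    rw [cn_cn, ← pow_succ']
    exact subset_closure ⟨i + 1, rfl⟩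
  have hw2' : IsPGroup 2 (zpowers w) := (c.h.two N ht.2.1).to_le (zpowers_le.2 (c.h.vch.le N ht.2.1 hw))
  have hT : IsPGroup 2 (zpowers w ⊔ A : Subgroup G) := hw2'.to_sup_of_normal_right' hA2 hwA
  refine (tp_iff' c.h ht.1 ht.2.1 hv hv4 hw hw4).1 ht (c.h.vch.commute c.h.hyp hT ht.1 ht.2.1 hv hw hv4 hw4
    (mem_sup_right (subset_closure ⟨0, ?_⟩)) (mem_sup_left (mem_zpowers w)))
  rw [pow_zero, one_cn]

/-! ### (13) -/

/-- (13) -/
theorem prod (ht : TP Om U K N) (hw : Nt N (zz N) w) (hu : Ind N (zz N) w u) :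
    zz K * cn w (zz K) * cn u (zz K) * cn (w * u) (zz K) = zz N := by
  have hN := c.q8 (ht.symm c.h)
  have hzi := c.zz_inv ht.1
  have hz := c.zz_mul ht.1
  have hzO := c.zz_mem_ZO ht.1
  -- `z z^n = n^z n⁻¹`
  have e : ∀ n, zz K * cn n (zz K) = cn (zz K) n * n⁻¹ := fun n => c.mul_cn ht.1 n
  have hc : ∀ n ∈ N, ∀ m ∈ N, Commute (cn (zz K) n) m := fun n hn m hm =>
    c.cj_comm (ht.symm c.h) (cn_mem hn) hm
  have e1 : cn u (zz K) * cn (w * u) (zz K) = (zz K * cn u (zz K)) * (zz K * cn (w * u) (zz K)) := by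
    have h1 := (c.ZO_comm hzO (c.ZO_cn hzO u)).eq
    calc cn u (zz K) * cn (w * u) (zz K) = cn u (zz K) * (zz K * zz K) * cn (w * u) (zz K) := by rw [hz]; group
      _ = (cn u (zz K) * zz K) * zz K * cn (w * u) (zz K) := by group
      _ = (zz K * cn u (zz K)) * zz K * cn (w * u) (zz K) := by rw [h1]
      _ = _ := by group
  have hwN := hw.1
  have huN := hu.1.1
  have hww := hN.sqz hw
  have huu := hN.sqz hu.1
  have hwu := hN.sqz (hN.nt_mul hw hu)
  obtain ⟨p, hp⟩ : ∃ p, p = cn (zz K) w := ⟨_, rfl⟩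
  obtain ⟨q, hq⟩ : ∃ q, q = cn (zz K) u := ⟨_, rfl⟩
  have hpc : ∀ m ∈ N, Commute p m := by rw [hp]; exact hc w hwN
  have hqc : ∀ m ∈ N, Commute q m := by rw [hq]; exact hc u huN
  have hpq : p * q * (p * q) = zz N := by
    rw [hp, hq, ← cn_mul, ← cn_mul, hwu]
    exact cn_of (c.ZO_comm hzO (c.zz_mem_ZO ht.2.1))
  rw [mul_assoc, e1, e, e, e, cn_mul, ← hp, ← hq]
  have h2 : (w * u)⁻¹ = u⁻¹ * w⁻¹ := mul_inv_rev w u
  calc p * w⁻¹ * (q * u⁻¹ * (p * q * (w * u)⁻¹)) = p * w⁻¹ * (q * (u⁻¹ * (p * q)) * (u⁻¹ * w⁻¹)) := by rw [h2]; group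
    _ = p * w⁻¹ * (q * ((p * q) * u⁻¹) * (u⁻¹ * w⁻¹)) := by
        rw [((hpc u⁻¹ (N.inv_mem huN)).mul_left (hqc u⁻¹ (N.inv_mem huN))).eq]
    _ = p * (w⁻¹ * (q * (p * q))) * ((u * u)⁻¹ * w⁻¹) := by group
    _ = p * ((q * (p * q)) * w⁻¹) * ((u * u)⁻¹ * w⁻¹) := by
        rw [((hqc w⁻¹ (N.inv_mem hwN)).mul_left ((hpc w⁻¹ (N.inv_mem hwN)).mul_left (hqc w⁻¹ (N.inv_mem hwN)))).eq]
    _ = (p * q * (p * q)) * (w⁻¹ * (u * u)⁻¹ * w⁻¹) := by group
    _ = zz N * (w⁻¹ * (zz N * w⁻¹)) := by rw [hpq, huu, hN.zinv, mul_assoc]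
    _ = zz N * (w⁻¹ * (w⁻¹ * zz N)) := by rw [(hN.cz w⁻¹ (N.inv_mem hwN)).eq]
    _ = zz N * ((w * w)⁻¹ * zz N) := by group
    _ = zz N := by rw [hww, hN.zinv, hN.z_mul, mul_one]

/-- the product formula, second form -/
theorem prod' (ht : TP Om U K N) (hw : Nt N (zz N) w) (hu : Ind N (zz N) w u) :
    cn u (zz K) * cn (w * u) (zz K) = zz K * (cn w (zz K) * zz N) := by
  have h1 := c.prod ht hw hu
  have hzO := c.zz_mem_ZO ht.1
  have h2 := (c.ZO_comm hzO (c.ZO_cn hzO w)).eq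
  have h3 : cn w (zz K) * cn w (zz K) = 1 := by rw [← cn_mul, c.zz_mul ht.1, cn_one]
  calc cn u (zz K) * cn (w * u) (zz K)
      = (zz K * (cn w (zz K) * cn w (zz K)) * zz K) * (cn u (zz K) * cn (w * u) (zz K)) := by
        rw [h3, mul_one, c.zz_mul ht.1, one_mul]
    _ = zz K * cn w (zz K) * (cn w (zz K) * zz K) * (cn u (zz K) * cn (w * u) (zz K)) := by group
    _ = zz K * cn w (zz K) * (zz K * cn w (zz K)) * (cn u (zz K) * cn (w * u) (zz K)) := by rw [h2]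
    _ = zz K * cn w (zz K) * (zz K * cn w (zz K) * cn u (zz K) * cn (w * u) (zz K)) := by group
    _ = _ := by rw [h1, mul_assoc]

/-- distinctness -/
theorem cn_ne (ht : TP Om U K N) (hw : Nt N (zz N) w) (hu : Ind N (zz N) w u) : cn u (zz K) ≠ cn (w * u) (zz K) := by
  intro h1
  have hN := c.q8 (ht.symm c.h)
  rcases c.eq_of_cn (ht.symm c.h) hu.1.1 (N.mul_mem hw.1 hu.1.1) h1 with h2 | h2
  · exact hw.2.1 (mul_eq_right.1 h2)
  · rw [(hN.cz u hu.1.1).eq] at h2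
    exact hw.2.2 (mul_right_cancel h2)

theorem cn_ne' (ht : TP Om U K N) (hw : Nt N (zz N) w) (hu : Ind N (zz N) w u) : cn w (zz K) ≠ cn u (zz K) := by
  intro h1
  rcases c.eq_of_cn (ht.symm c.h) hw.1 hu.1.1 h1 with h2 | h2
  · exact hu.2.1 h2
  · exact hu.2.2 h2

/-! ### (14) -/

theorem nt_of_four (hK : K ∈ Om) (hv : v ∈ U K) (hv4 : orderOf v = 4) : Nt K (zz K) v := by
  refine ⟨c.h.vch.le K hK hv, ?_, ?_⟩
  · rintro rfl
    rw [orderOf_one] at hv4
    omega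
  · rintro rfl
    rw [c.h.hyp.orderOf_zz hK] at hv4
    omega

theorem cj_zz (hK : K ∈ Om) : cj (zz K) K = K :=
  mem_normalizer_iff_cj.1 (le_normalizer (c.h.hyp.zz_mem hK))

theorem no_q (hN : N ∈ Om) (hL : L ∈ Om) (hw : w ∈ U N) (hw4 : orderOf w = 4) (hx : x = zz L) :
    x * cn w x ≠ zz N := by
  intro h1
  have hqi : x⁻¹ = x := by rw [hx]; exact c.zz_inv hL
  have e1 : cn w x = x⁻¹ * zz N := by rw [← h1]; group
  have hww : w * w = zz N := c.h.sq_eq hN hw hw4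
  have e2 : zz N * w = w⁻¹ := by
    rw [eq_inv_iff_mul_eq_one, mul_assoc, hww, c.zz_mul hN]
  refine c.no_inv hL hN hw hw4 ?_
  rw [← hx]
  calc cn x w = x⁻¹ * w * x := by rw [cn, hqi]
    _ = x⁻¹ * cn w x * w := by rw [cn]; group
    _ = x⁻¹ * (x⁻¹ * zz N) * w := by rw [e1]
    _ = (x * x)⁻¹ * (zz N * w) := by group
    _ = w⁻¹ := by rw [e2, hx, c.zz_mul hL, inv_one, one_mul]

/-- (14) -/
theorem fourteen (ht : TP Om U K N) (hn : Nt N (zz N) n) : TP Om U K (cj n K) := by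
  have hN := c.q8 (ht.symm c.h)
  have hK := c.q8 ht
  obtain ⟨w, hw, hw4⟩ := c.h.exists_v ht.2.1
  have hwt := c.nt_of_four ht.2.1 hw hw4
  by_cases hind : Ind N (zz N) w n
  swap
  · have h1 : n = w ∨ n = w * zz N := by
      by_contra hcon
      push Not at hcon
      exact hind ⟨hn, hcon.1, hcon.2⟩
    rcases h1 with rfl | rfl
    · exact c.twelve ht hw hw4
    · rw [← hN.inv_eq hwt]
      exact c.twelve ht ((U N).inv_mem hw) (by rw [orderOf_inv, hw4])
  have hzO := c.zz_mem_ZO ht.1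
  have hsO := c.zz_mem_ZO ht.2.1
  have hwO := c.ZO_cn hzO w
  have hnO := c.ZO_cn hzO n
  have hwnO := c.ZO_cn hzO (w * n)
  have hpr := c.prod' ht hwt hind
  rw [c.tp_iff_cj ht.1 (c.h.hyp.conj K ht.1 n), zz_cn c.h ht.1]
  intro h1
  have hT1 : cj (cn w (zz K)) K ≠ K := by
    rw [← zz_cn c.h ht.1, ← c.tp_iff_cj ht.1 (c.h.hyp.conj K ht.1 w)]
    exact c.twelve ht hw hw4
  have h2 : cj (cn (w * n) (zz K)) K = K := by
    have e1 : cn (w * n) (zz K) = cn n (zz K) * (zz K * (cn w (zz K) * zz N)) := by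
      rw [← hpr, ← mul_assoc, c.ZO_sq hnO, one_mul]
    rw [e1, cj_mul, cj_mul, c.lam_mul ht hwO hsO hT1 (c.cj_ne ht), c.cj_zz ht.1, h1]
  obtain ⟨v, hv, hv4⟩ := c.h.exists_v ht.1
  have hvt := c.nt_of_four ht.1 hv hv4
  have hv1 : Commute v (cn n (zz K)) := by
    rw [← zz_cn c.h ht.1]
    exact c.cent_v (c.h.hyp.conj K ht.1 n) ht.1 (by rw [zz_cn c.h ht.1]; exact h1) hv hv4
  have hv2 : Commute v (cn (w * n) (zz K)) := by
    rw [← zz_cn c.h ht.1]
    exact c.cent_v (c.h.hyp.conj K ht.1 _) ht.1 (by rw [zz_cn c.h ht.1]; exact h2) hv hv4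
  obtain ⟨y, hy⟩ := hK.exists_ind hvt
  have hw1 : cn w (cn n (zz K)) = cn (w * n) (zz K) := cn_cn
  have hw2 : cn w (cn (w * n) (zz K)) = cn n (zz K) := by
    rw [← hw1, cn_cn, c.h.sq_eq ht.2.1 hw hw4]
    exact cn_of (c.ZO_comm hsO hnO)
  have hne := c.cn_ne ht hwt hind
  set t1 := cn n (zz K) with ht1
  set t2 := cn (w * n) (zz K) with ht2
  set zw := cn w (zz K) with hzw
  -- `t1 t2` does not commute with `y`
  have hcase : ¬ Commute y (t1 * t2) := by
    intro hyc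
    have hall := hK.cov hvt hy (hv1.mul_right hv2) hyc
    have hall2 : ∀ k ∈ cj w K, Commute k (t1 * t2) := by
      rintro _ ⟨k, hk, rfl⟩
      have e1 : t1 * t2 = cn w (t1 * t2) := by rw [cn_mul, hw1, hw2, (c.ZO_comm hnO hwnO).eq]
      show Commute (cn w k) (t1 * t2)
      rw [e1]
      exact cn_comm (hall k hk)
    have h3 := c.cen K (cj w K) (c.twelve ht hw hw4) (t1 * t2) hall hall2 (c.ZO_sq (mul_mem hnO hwnO))
    rw [mul_eq_one_iff_eq_inv, c.ZO_inv hwnO] at h3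
    exact hne h3
  have hsz : t1 * zz K * (t2 * zw) = zz N := by
    have e1 : t1 * zz K * (t2 * zw) = t1 * t2 * (zz K * zw) :=
      Commute.mul_mul_mul_comm (c.ZO_comm hzO hwnO) _ _
    have hb := mul_mem hzO hwO
    calc t1 * zz K * (t2 * zw) = zz K * (zw * zz N) * (zz K * zw) := by rw [e1, hpr]
      _ = (zz K * zw) * (zz N * (zz K * zw)) := by group
      _ = (zz K * zw) * ((zz K * zw) * zz N) := by rw [(c.ZO_comm hsO hb).eq]
      _ = zz N := by rw [← mul_assoc, c.ZO_sq hb, one_mul]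
  have hyc := c.ten ht.1 hnO h1 hy.1.1
  have hyd := c.ten ht.1 hwnO h2 hy.1.1
  rcases hyc with h3 | h3 <;> rcases hyd with h4 | h4
  · refine hcase (cn_eq_iff.1 ?_)
    rw [cn_mul, h3, h4]
  · refine c.no_q ht.2.1 (c.h.hyp.conj _ (c.h.hyp.conj K ht.1 (w * n)) y) hw hw4 (x := t2 * zz K) ?_ ?_
    · rw [zz_cn c.h (c.h.hyp.conj K ht.1 (w * n)), zz_cn c.h ht.1, ← ht2, h4]
    · rw [cn_mul, hw2, ← hzw]
      have e1 : t2 * zz K * (t1 * zw) = t2 * t1 * (zz K * zw) :=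
        Commute.mul_mul_mul_comm (c.ZO_comm hzO hnO) _ _
      have e2 : t1 * zz K * (t2 * zw) = t1 * t2 * (zz K * zw) :=
        Commute.mul_mul_mul_comm (c.ZO_comm hzO hwnO) _ _
      rw [e1, (c.ZO_comm hwnO hnO).eq, ← e2, hsz]
  · refine c.no_q ht.2.1 (c.h.hyp.conj _ (c.h.hyp.conj K ht.1 n) y) hw hw4 (x := t1 * zz K) ?_ ?_
    · rw [zz_cn c.h (c.h.hyp.conj K ht.1 n), zz_cn c.h ht.1, ← ht1, h3]
    · rw [cn_mul, hw1, ← hzw, hsz]
  · refine hcase (cn_eq_iff.1 ?_)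
    rw [cn_mul, h3, h4]
    have e2 : t1 * zz K * (t2 * zz K) = t1 * t2 * (zz K * zz K) :=
      Commute.mul_mul_mul_comm (c.ZO_comm hzO hwnO) _ _
    rw [e2, c.zz_mul ht.1, mul_one]

end NW

end NilT

end Cfsg.Agent.Cit.CV
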