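import Cfsg.Agent.Cit.Nil.CV.NilB

/-!
# (6b)(CV): the theorem NIL, third part

(16)-(18) of the text (R18, helper748, 06:04Z): `NW.false_of_tp`.
-/

set_option autoImplicit false
set_option linter.style.haveILetI false
set_option linter.unusedSectionVars false

namespace Cfsg.Agent.Cit.CV

open Subgroup Cfsg Cit Tau

namespace NilT

variable {G : Type*} [Group G]

namespace NW

variable [Finite G] {Om : Set (Subgroup G)} {U : Subgroup G → Subgroup G} {K N K' N' L : Subgroup G}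
  {a b g k k' l n n' m u v w x y : G} (c : NW Om U)
include c

theorem zs_norm (ht : TP Om U K N) (hn : Nt N (zz N) n) : cj (cn n (zz K) * zz N) K = K := by
  refine c.lam_mul ht (c.ZO_cn (c.zz_mem_ZO ht.1) n) (c.zz_mem_ZO ht.2.1) ?_ (c.cj_ne ht)
  rw [← zz_cn c.h ht.1, ← c.tp_iff_cj ht.1 (c.h.hyp.conj K ht.1 n)]
  exact c.fourteen ht hn

theorem zs_mem (hK : K ∈ Om) (hN : N ∈ Om) : cn n (zz K) * zz N ∈ ZO Om :=
  mul_mem (c.ZO_cn (c.zz_mem_ZO hK) n) (c.zz_mem_ZO hN)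

/-- (16): `z^n s` does not centralise `K` -/
theorem sixteen (ht : TP Om U K N) (hn : Nt N (zz N) n) : ¬ ∀ k ∈ K, Commute k (cn n (zz K) * zz N) := by
  intro hall
  have hN := c.q8 (ht.symm c.h)
  have hK := c.q8 ht
  obtain ⟨u, hu⟩ := hN.exists_ind hn
  have hpr := c.prod' ht hn hu
  have hzO := c.zz_mem_ZO ht.1
  have huO := c.ZO_cn hzO u
  have hnuO := c.ZO_cn hzO (n * u)
  have h1 : ∀ k ∈ K, Commute k (cn u (zz K) * cn (n * u) (zz K)) := by
    intro k hk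
    rw [hpr]
    exact (c.zz_cen ht.1 hk).mul_right (hall k hk)
  have e1 : cn n (cn u (zz K) * cn (n * u) (zz K)) = cn u (zz K) * cn (n * u) (zz K) := by
    rw [cn_mul, cn_cn, cn_cn, ← mul_assoc, hN.sqz hn]
    nth_rewrite 2 [← cn_cn]
    rw [cn_of (c.ZO_comm (c.zz_mem_ZO ht.2.1) huO)]
    exact c.ZO_comm hnuO huO
  have h2 : ∀ k ∈ cj n K, Commute k (cn u (zz K) * cn (n * u) (zz K)) := by
    rintro _ ⟨k, hk, rfl⟩
    show Commute (cn n k) (cn u (zz K) * cn (n * u) (zz K))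
    rw [← e1]
    exact cn_comm (h1 k hk)
  have h3 := c.cen K (cj n K) (c.fourteen ht hn) _ h1 h2 (c.ZO_sq (mul_mem huO hnuO))
  rw [mul_eq_one_iff_eq_inv, c.ZO_inv hnuO] at h3
  exact c.cn_ne ht hn hu h3

/-- (16), second form -/
theorem sixteen' (ht : TP Om U K N) (hn : Nt N (zz N) n) (hk : Nt K (zz K) k)
    (hc : Commute k (cn n (zz K) * zz N)) (hl : Ind K (zz K) k l) :
    cn l (cn n (zz K) * zz N) = cn n (zz K) * zz N * zz K := by
  rcases c.ten ht.1 (c.zs_mem ht.1 ht.2.1) (c.zs_norm ht hn) hl.1.1 with h1 | h1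
  · exact absurd ((c.q8 ht).cov hk hl hc (cn_eq_iff.1 h1)) (c.sixteen ht hn)
  · exact h1

/-- (17) -/
theorem seventeen (ht : TP Om U K N) (hn : Nt N (zz N) n) (hk : Nt K (zz K) k)
    (hc : Commute k (cn n (zz K) * zz N)) : cn k (zz N) = cn n (zz K) := by
  have hN := c.q8 (ht.symm c.h)
  have hK := c.q8 ht
  have hzO := c.zz_mem_ZO ht.1
  have hsO := c.zz_mem_ZO ht.2.1
  have hnO := c.ZO_cn hzO n
  have hkO := c.ZO_cn hsO k
  have hsi := c.zz_inv ht.2.1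
  have hfO := mul_mem hkO hnO
  -- `f = s^k z^n = (k (s k⁻¹ s⁻¹)) (z^n s)`
  have ef : cn k (zz N) * cn n (zz K) = k * cn (zz N) k⁻¹ * (cn n (zz K) * zz N) := by
    have e1 : k * cn (zz N) k⁻¹ = cn k (zz N) * zz N := by rw [cn, cn, hsi]; group
    rw [e1]
    calc cn k (zz N) * cn n (zz K) = cn k (zz N) * (zz N * zz N) * cn n (zz K) := by
          rw [c.zz_mul ht.2.1, mul_one]
      _ = cn k (zz N) * zz N * (zz N * cn n (zz K)) := by group
      _ = _ := by rw [(c.ZO_comm hsO hnO).eq]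
  have hkc : ∀ x ∈ K, Commute (cn (zz N) k⁻¹) x := fun x hx => c.cj_comm ht (cn_mem (K.inv_mem hk.1)) hx
  obtain ⟨l, hl⟩ := hK.exists_ind hk
  have f1 : ∀ x ∈ K, Commute x (cn k (zz N) * cn n (zz K)) := by
    refine hK.cov hk hl ?_ ?_
    · rw [ef]
      exact ((Commute.refl k).mul_right (hkc k hk.1).symm).mul_right hc
    · rw [← cn_eq_iff, ef, cn_mul, cn_mul, hK.anti hk hl, cn_of (hkc l hl.1.1).symm, c.sixteen' ht hn hk hc hl]
      have hzO' := hzO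
      have h2 : Commute (zz K) (cn (zz N) k⁻¹) := (hkc _ (c.h.hyp.zz_mem ht.1)).symm
      have hm := c.zs_mem (n := n) ht.1 ht.2.1
      calc k * zz K * cn (zz N) k⁻¹ * (cn n (zz K) * zz N * zz K)
          = k * (zz K * cn (zz N) k⁻¹) * ((cn n (zz K) * zz N) * zz K) := by group
        _ = k * (cn (zz N) k⁻¹ * zz K) * (zz K * (cn n (zz K) * zz N)) := by
            rw [h2.eq, (c.ZO_comm hm hzO).eq]
        _ = k * cn (zz N) k⁻¹ * (zz K * zz K) * (cn n (zz K) * zz N) := by group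
        _ = _ := by rw [c.zz_mul ht.1, mul_one]
  -- `f` normalises `N`
  have f2 : cj (cn k (zz N) * cn n (zz K)) N = N := by
    refine c.lam_mul (ht.symm c.h) hkO hnO ?_ ?_
    · rw [← zz_cn c.h ht.2.1, ← c.tp_iff_cj ht.2.1 (c.h.hyp.conj N ht.2.1 k)]
      exact c.fourteen (ht.symm c.h) hk
    · rw [← zz_cn c.h ht.1, ← c.tp_iff_cj ht.2.1 (c.h.hyp.conj K ht.1 n)]
      have h1 := (ht.symm c.h).cj c.h n
      rwa [mem_normalizer_iff_cj.1 (le_normalizer hn.1)] at h1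
  -- some nontrivial element of `N` centralises `f`
  obtain ⟨m, hm, hmf⟩ : ∃ m, Nt N (zz N) m ∧ cn m (cn k (zz N) * cn n (zz K)) = cn k (zz N) * cn n (zz K) := by
    obtain ⟨u, hu⟩ := hN.exists_ind hn
    rcases c.ten ht.2.1 hfO f2 hn.1 with h1 | h1
    · exact ⟨n, hn, h1⟩
    rcases c.ten ht.2.1 hfO f2 hu.1.1 with h2 | h2
    · exact ⟨u, hu.1, h2⟩
    refine ⟨n * u, hN.nt_mul hn hu, ?_⟩
    rw [← cn_cn, h2, cn_mul, h1, cn_of (hN.cz n hn.1), mul_assoc, c.zz_mul ht.2.1, mul_one]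
  have f3 : ∀ x ∈ cj m K, Commute x (cn k (zz N) * cn n (zz K)) := by
    rintro _ ⟨x, hx, rfl⟩
    show Commute (cn m x) (cn k (zz N) * cn n (zz K))
    rw [← hmf]
    exact cn_comm (f1 x hx)
  have h3 := c.cen K (cj m K) (c.fourteen ht hm) _ f1 f3 (c.ZO_sq hfO)
  rwa [mul_eq_one_iff_eq_inv, c.ZO_inv hnO] at h3

/-- (17a) -/
theorem seventeen_a (ht : TP Om U K N) (hk : Nt K (zz K) k) :
    ∃ n, Nt N (zz N) n ∧ cn k (zz N) = cn n (zz K) := by
  have hN := c.q8 (ht.symm c.h)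
  have hK := c.q8 ht
  obtain ⟨w, u, hw, hu⟩ := hN.exists_ind'
  by_contra hcon
  push Not at hcon
  have key : ∀ n, Nt N (zz N) n → cn k (cn n (zz K) * zz N) = cn n (zz K) * zz N * zz K := by
    intro n hn
    rcases c.ten ht.1 (c.zs_mem ht.1 ht.2.1) (c.zs_norm ht hn) hk.1 with h1 | h1
    · exact absurd (c.seventeen ht hn hk (cn_eq_iff.1 h1)) (hcon n hn)
    · exact h1
  have hzO := c.zz_mem_ZO ht.1
  have hsO := c.zz_mem_ZO ht.2.1
  have hwO := c.ZO_cn hzO w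
  have huO := c.ZO_cn hzO u
  have hwuO := c.ZO_cn hzO (w * u)
  have hpr := c.prod' ht hw hu
  -- the product of the three is `z`
  have e1 : (cn w (zz K) * zz N) * ((cn u (zz K) * zz N) * (cn (w * u) (zz K) * zz N)) = zz K := by
    have h1 : (cn u (zz K) * zz N) * (cn (w * u) (zz K) * zz N) = cn u (zz K) * cn (w * u) (zz K) * (zz N * zz N) :=
      Commute.mul_mul_mul_comm (c.ZO_comm hsO hwuO) _ _
    rw [h1, c.zz_mul ht.2.1, mul_one, hpr]
    have h2 := c.zs_mem (n := w) ht.1 ht.2.1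
    rw [(c.ZO_comm hzO h2).eq, ← mul_assoc, c.ZO_sq h2, one_mul]
  have e2 := congrArg (cn k) e1
  rw [cn_mul (x := cn w (zz K) * zz N), cn_mul (x := cn u (zz K) * zz N), key w hw, key u hu.1,
    key (w * u) (hN.nt_mul hw hu), cn_of (hK.cz k hk.1)] at e2
  have h1 : cn u (zz K) * zz N * zz K * (cn (w * u) (zz K) * zz N * zz K) =
      (cn u (zz K) * zz N) * (cn (w * u) (zz K) * zz N) * (zz K * zz K) :=
    Commute.mul_mul_mul_comm (c.ZO_comm hzO (c.zs_mem ht.1 ht.2.1)) _ _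
  rw [h1, c.zz_mul ht.1, mul_one, mul_assoc (cn w (zz K) * zz N)] at e2
  have h2 : Commute (zz K) ((cn u (zz K) * zz N) * (cn (w * u) (zz K) * zz N)) :=
    c.ZO_comm hzO (mul_mem (c.zs_mem ht.1 ht.2.1) (c.zs_mem ht.1 ht.2.1))
  rw [h2.eq, ← mul_assoc, e1, c.zz_mul ht.1] at e2
  exact c.h.hyp.zz_ne ht.1 e2.symm

/-- (17b) -/
theorem seventeen_b (ht : TP Om U K N) (hn : Nt N (zz N) n) :
    ∃ k, Nt K (zz K) k ∧ cn k (zz N) = cn n (zz K) := by
  have hK := c.q8 ht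
  obtain ⟨v, y, hv, hy⟩ := hK.exists_ind'
  rcases c.ten ht.1 (c.zs_mem ht.1 ht.2.1) (c.zs_norm ht hn) hv.1 with h1 | h1
  · exact ⟨v, hv, c.seventeen ht hn hv (cn_eq_iff.1 h1)⟩
  rcases c.ten ht.1 (c.zs_mem ht.1 ht.2.1) (c.zs_norm ht hn) hy.1.1 with h2 | h2
  · exact ⟨y, hy.1, c.seventeen ht hn hy.1 (cn_eq_iff.1 h2)⟩
  refine ⟨v * y, hK.nt_mul hv hy, c.seventeen ht hn (hK.nt_mul hv hy) (cn_eq_iff.1 ?_)⟩
  rw [← cn_cn, h2, cn_mul, h1, cn_of (hK.cz v hv.1), mul_assoc, c.zz_mul ht.1, mul_one]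

/-- (17c) -/
theorem seventeen_c (ht : TP Om U K N) (hn : Nt N (zz N) n) (hk : Nt K (zz K) k) (he : cn k (zz N) = cn n (zz K))
    (hn' : Ind N (zz N) n n') : cn k (cn n' (zz K)) = cn (n * n') (zz K) := by
  have hzO := c.zz_mem_ZO ht.1
  have hsO := c.zz_mem_ZO ht.2.1
  have hnO := c.ZO_cn hzO n
  have hn'O := c.ZO_cn hzO n'
  have hpr := c.prod' ht hn hn'
  have h1 : cn k (cn n' (zz K) * zz N) = cn n' (zz K) * zz N * zz K := by
    rcases c.ten ht.1 (c.zs_mem ht.1 ht.2.1) (c.zs_norm ht hn'.1) hk.1 with h1 | h1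
    · have h2 := c.seventeen ht hn'.1 hk (cn_eq_iff.1 h1)
      rw [he] at h2
      exact absurd h2 (c.cn_ne' ht hn hn')
    · exact h1
  rw [cn_mul, he] at h1
  -- `z_{nn'} = z_{n'} z (z_n s)`
  have h2 : cn (n * n') (zz K) = cn n' (zz K) * (zz K * (cn n (zz K) * zz N)) := by
    rw [← hpr, ← mul_assoc, c.ZO_sq hn'O, one_mul]
  rw [h2]
  have h3 : cn k (cn n' (zz K)) = cn n' (zz K) * zz N * zz K * cn n (zz K) := by
    rw [← h1, mul_assoc, c.ZO_sq hnO, mul_one]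
  rw [h3]
  calc cn n' (zz K) * zz N * zz K * cn n (zz K) = cn n' (zz K) * (zz N * (zz K * cn n (zz K))) := by group
    _ = cn n' (zz K) * ((zz K * cn n (zz K)) * zz N) := by rw [(c.ZO_comm hsO (mul_mem hzO hnO)).eq]
    _ = _ := by group

/-- (18): there is no T-pair -/
theorem false_of_tp (ht : TP Om U K N) : False := by
  have hN := c.q8 (ht.symm c.h)
  have hK := c.q8 ht
  have hzO := c.zz_mem_ZO ht.1
  have hsO := c.zz_mem_ZO ht.2.1
  obtain ⟨v, hv, hv4⟩ := c.h.exists_v ht.1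
  have hvt := c.nt_of_four ht.1 hv hv4
  obtain ⟨n, hn, hvn⟩ := c.seventeen_a ht hvt
  obtain ⟨m, hm⟩ := hN.exists_ind hn
  obtain ⟨k, hk, hkm⟩ := c.seventeen_b ht hm.1
  have hcO : ∀ {a b : G}, a ∈ ZO Om → b ∈ ZO Om → cn a b = b := fun ha hb => cn_of (c.ZO_comm ha hb)
  obtain ⟨A, hA⟩ : ∃ A, A = cn n (zz K) := ⟨_, rfl⟩
  obtain ⟨B, hB⟩ : ∃ B, B = cn m (zz K) := ⟨_, rfl⟩
  obtain ⟨C, hC⟩ : ∃ C, C = cn (n * m) (zz K) := ⟨_, rfl⟩
  have hAO : A ∈ ZO Om := by rw [hA]; exact c.ZO_cn hzO n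
  have hBO : B ∈ ZO Om := by rw [hB]; exact c.ZO_cn hzO m
  have hCO : C ∈ ZO Om := by rw [hC]; exact c.ZO_cn hzO _
  have hAB : A ≠ B := by rw [hA, hB]; exact c.cn_ne' ht hn hm
  have sqn : ∀ {x : G}, x ∈ ZO Om → cn n (cn n x) = x := by
    intro x hx
    rw [cn_cn, hN.sqz hn]
    exact hcO hsO hx
  have sqv : ∀ {x : G}, x ∈ ZO Om → cn v (cn v x) = x := by
    intro x hx
    rw [cn_cn, hK.sqz hvt]
    exact hcO hzO hx
  have sqk : ∀ {x : G}, x ∈ ZO Om → cn k (cn k x) = x := by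
    intro x hx
    rw [cn_cn, hK.sqz hk]
    exact hcO hzO hx
  have n_z : cn n (zz K) = A := hA.symm
  have n_A : cn n A = zz K := by rw [hA]; exact sqn hzO
  have n_B : cn n B = C := by rw [hB, hC, cn_cn]
  have n_C : cn n C = B := by rw [← n_B]; exact sqn hBO
  have n_s : cn n (zz N) = zz N := cn_of (hN.cz n hn.1)
  have v_z : cn v (zz K) = zz K := cn_of (hK.cz v hvt.1)
  have v_s : cn v (zz N) = A := by rw [hvn, hA]
  have v_B : cn v B = C := by rw [hB, hC]; exact c.seventeen_c ht hn hvt hvn hm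
  have v_C : cn v C = B := by rw [← v_B]; exact sqv hBO
  have k_z : cn k (zz K) = zz K := cn_of (hK.cz k hk.1)
  have k_s : cn k (zz N) = B := by rw [hkm, hB]
  have k_B : cn k B = zz N := by rw [← k_s]; exact sqk hsO
  have k_A : cn k A = C := by
    rw [hA, hC, c.seventeen_c ht hm.1 hk hkm (hN.ind_symm hn hm)]
    have h1 : m * n = n * m * zz N := by
      have h2 := hN.anti hn hm
      rw [cn, mul_inv_eq_iff_eq_mul] at h2
      rw [h2, mul_assoc, mul_assoc, (hN.cz m hm.1.1).eq]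
    rw [h1, ← cn_cn, hcO hsO hzO]
  have k_C : cn k C = A := by rw [← k_A]; exact sqk hAO
  have inv' : ∀ {g x y : G}, cn g x = y → cn g⁻¹ y = x := by
    intro g x y h1
    rw [← h1, cn_inv_cn]
  obtain ⟨g, hg⟩ : ∃ g, g = n * (k * (n * (v * (k⁻¹ * n⁻¹)))) := ⟨_, rfl⟩
  have hgx : ∀ x, cn g x = cn n (cn k (cn n (cn v (cn k⁻¹ (cn n⁻¹ x))))) := by
    intro x
    rw [hg]
    simp only [cn_cn, mul_assoc]
  have g_z : cn g (zz K) = zz K := by
    rw [hgx, inv' n_A, inv' k_C, v_C, n_B, k_C, n_A]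
  have g_s : cn g (zz N) = zz N := by
    rw [hgx, inv' n_s, inv' k_B, v_B, n_C, k_B, n_s]
  have g_A : cn g A = B := by
    rw [hgx, inv' n_z, inv' k_z, v_z, n_z, k_A, n_C]
  have hgK := c.h.hyp.conj K ht.1 g
  have hvg : cn (cn g v) (zz N) = B := by
    have h1 : cn (cn g v) (zz N) = cn g (cn v (cn g⁻¹ (zz N))) := by simp [cn, mul_assoc]
    rw [h1, inv' g_s, v_s, g_A]
  have hgv4 : orderOf (cn g v) = 4 := orderOf_conj_four hv4 g
  have hgvU : cn g v ∈ U (cj g K) := c.h.vch.conj_mem ht.1 hv g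
  have fin : ∀ x ∈ U K, orderOf x = 4 → cn x (zz N) ≠ B := by
    intro x hx hx4 h1
    rcases c.h.eq_or_inv ht.1 hv hv4 hx hx4 with h2 | h2
    · rw [h2, v_s] at h1
      exact hAB h1
    · rw [h2, hK.inv_eq hvt, ← cn_cn, hcO hzO hsO, v_s] at h1
      exact hAB h1
  rcases c.over_eq ht hgK (by rw [zz_cn c.h ht.1, g_z]) hk.1 (c.nt_of_four hgK hgvU hgv4) (by rw [hvg, k_s]) with h1 | h1
  · rw [h1] at hgvU
    exact fin _ hgvU hgv4 hvg
  · refine fin (cn (zz N) (cn g v)) ?_ (orderOf_conj_four hgv4 _) ?_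
    · have h2 := c.h.vch.conj_mem hgK hgvU (zz N)
      rwa [h1, ← cj_mul, c.zz_mul ht.2.1, cj_one] at h2
    · have h2 : cn (cn (zz N) (cn g v)) (zz N) = cn (zz N) (cn (cn g v) (cn (zz N)⁻¹ (zz N))) := by simp [cn, mul_assoc]
      rw [h2, c.zz_inv ht.2.1, hcO hsO hsO, hvg, hcO hsO hBO]

end NW

end NilT

end Cfsg.Agent.Cit.CV
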