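import Cfsg.Agent.Cit.Nil.CV.NilC
import Cfsg.Agent.SignalizersComponents.CompBasic

/-!
# (6b)(CV): the theorem NIL

`CVW.nil` : in the world `CVW Om U`, `zz K ∈ O₂(G)` implies `U K ≤ O₂(G)`.
(helper748, R18, 06:04Z; it replaces section 5 of helper599's text.)
-/

set_option autoImplicit false
set_option linter.style.haveILetI false
set_option linter.unusedSectionVars false

namespace Cfsg.Agent.Cit.CV

open Subgroup Cfsg Cit Tau

universe u

namespace NilT

section

variable {G : Type*} [Group G] [Finite G] {Om : Set (Subgroup G)} {U : Subgroup G → Subgroup G} {K L N H : Subgroup G}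
  {g v : G}

/-- the class of `K` -/
def cls (K : Subgroup G) : Set (Subgroup G) := {L | ∃ g, L = cj g K}

theorem cls_sub (h : CVW Om U) (hK : K ∈ Om) : cls K ⊆ Om := by
  rintro _ ⟨g, rfl⟩
  exact h.hyp.conj K hK g

theorem cls_cj : ∀ L ∈ cls K, ∀ g, cj g L ∈ cls K := by
  rintro _ ⟨g, rfl⟩ a
  exact ⟨a * g, (cj_mul a g K).symm⟩

theorem self_mem_cls (K : Subgroup G) : K ∈ cls K := ⟨1, (cj_one K).symm⟩

theorem cj_le_pCore : cj g K ≤ pCore 2 G ↔ K ≤ pCore 2 G := by
  have h1 : cj g (pCore 2 G) = pCore 2 G :=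
    mem_normalizer_iff_cj.1 (by rw [normalizer_eq_top_iff.2 (Lib.Cores.pCore_normal 2)]; exact mem_top g)
  nth_rewrite 1 [← h1]
  exact cj_le_cj

/-- a member over a central involution lies in `O₂(G)` -/
theorem le_of_central (h : CVW Om U) (hK : K ∈ Om) (hc : zz K ∈ center G) : K ≤ pCore 2 G := by
  refine SignalizersComponents.CompBasic.subnormal_pGroup_le_pCore ?_ (h.two K hK)
  have h1 := h.hyp.sub K hK
  have h2 : centralizer {zz K} = ⊤ := by
    rw [eq_top_iff]
    intro x _
    rw [mem_centralizer_singleton_iff]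
    exact mem_center_iff.1 hc x
  rw [h2] at h1
  exact IsSubnormal.trans le_top h1 IsSubnormal.top

end

section

variable {G : Type u} [Group G] [Finite G] {Om : Set (Subgroup G)} {U : Subgroup G → Subgroup G} {K L N H : Subgroup G}
  {g v x : G}

/-- NIL for the groups of order smaller than `n` -/
def NilLt (n : ℕ) : Prop := ∀ (G : Type u) [Group G] [Finite G], Nat.card G < n → ∀ (Om : Set (Subgroup G))
  (U : Subgroup G → Subgroup G), CVW Om U → ∀ K ∈ Om, zz K ∈ pCore 2 G → U K ≤ pCore 2 G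

/-- the induction on a proper subgroup -/
theorem ind_sub (h : CVW Om U) (ih : NilLt.{u} (Nat.card G)) (hH : H ≠ ⊤) (hK : K ∈ Om) (hKH : K ≤ H)
    (hz : zz K ∈ pCore 2 G) : U K ≤ (pCore 2 H).map H.subtype := by
  have hcard : Nat.card H < Nat.card G := by
    rw [← card_top (G := G)]
    have h2 : (H : Set G) ⊂ ((⊤ : Subgroup G) : Set G) := by
      rw [Set.ssubset_def]
      refine ⟨fun x _ => mem_top x, fun hh => hH ?_⟩
      rw [eq_top_iff]
      exact hh
    exact Set.Finite.card_lt_card (Set.toFinite _) h2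
  have hK' := subgroupOf_mem_restr hK hKH
  have h1 := ih H hcard _ _ (h.restr H) _ hK' ?_
  · intro x hx
    have hxH : x ∈ H := hKH (h.vch.le K hK hx)
    refine ⟨⟨x, hxH⟩, h1 ?_, rfl⟩
    rw [CV1.mem_uH, map_subgroupOf_eq_of_le hKH]
    exact hx
  · have h2 : (pCore 2 G).subgroupOf H ≤ pCore 2 H :=
      Lib.Cores.le_pCore ((Lib.Cores.pCore_normal 2).subgroupOf H) (Lib.Cores.pCore_isPGroup 2).comap_subtype
    apply h2
    rw [mem_subgroupOf, zz_map h.hyp hK', map_subgroupOf_eq_of_le hKH]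
    exact hz

/-- the induction on a central quotient -/
theorem ind_quo (h : CVW Om U) (ih : NilLt.{u} (Nat.card G)) (hx : x ∈ center G) (hx2 : x * x = 1) (hx1 : x ≠ 1)
    (hne : ∀ K ∈ Om, x ≠ zz K) (hK : K ∈ Om) (hz : zz K ∈ pCore 2 G) : U K ≤ pCore 2 G := by
  haveI : Fact (Nat.Prime 2) := ⟨Nat.prime_two⟩
  have hle : zpowers x ≤ center G := zpowers_le.2 hx
  haveI hn : (zpowers x).Normal := ⟨fun a ha g => by
    rw [mem_center_iff.1 (hle ha) g, mul_inv_cancel_right]; exact ha⟩
  have hord : orderOf x = 2 := orderOf_eq_prime (by rw [pow_two, hx2]) hx1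
  have h2 : IsPGroup 2 (zpowers x) := by
    intro a
    refine ⟨1, ?_⟩
    obtain ⟨a, k, rfl⟩ := a
    apply Subtype.ext
    show ((x ^ k : G)) ^ 2 ^ 1 = 1
    rw [pow_one, ← zpow_natCast, ← zpow_mul, mul_comm, zpow_mul, zpow_natCast, pow_two, hx2, one_zpow]
  have hker : (QuotientGroup.mk' (zpowers x)).ker = zpowers x := QuotientGroup.ker_mk' _
  have hKC : ∀ K ∈ Om, K ⊓ (QuotientGroup.mk' (zpowers x)).ker = ⊥ := by
    intro K hK
    rw [hker, eq_bot_iff]
    rintro a ⟨ha, ha'⟩
    rw [mem_bot]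
    by_contra ha1
    have h3 : a = x := by
      have h4 : a ∈ zpowers x := ha'
      rw [mem_zpowers_iff] at h4
      obtain ⟨k, rfl⟩ := h4
      rcases Int.even_or_odd' k with ⟨j, rfl | rfl⟩
      · rw [zpow_mul, show x ^ (2 : ℤ) = 1 by rw [zpow_ofNat, pow_two, hx2], one_zpow] at ha1
        exact absurd rfl ha1
      · rw [zpow_add, zpow_mul, show x ^ (2 : ℤ) = 1 by rw [zpow_ofNat, pow_two, hx2], one_zpow, one_mul, zpow_one]
    rw [h3] at ha
    exact hne K hK (h.hyp.uniq K hK x ha hord)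
  have hsurj := QuotientGroup.mk'_surjective (zpowers x)
  have hC : (QuotientGroup.mk' (zpowers x)).ker ≤ center G := by rw [hker]; exact hle
  have hcard : Nat.card (G ⧸ zpowers x) < Nat.card G := by
    rw [card_eq_card_quotient_mul_card_subgroup (zpowers x), Nat.card_zpowers, hord]
    have : 0 < Nat.card (G ⧸ zpowers x) := Nat.card_pos
    omega
  have h3 := ih (G ⧸ zpowers x) hcard _ _ (h.imgc hsurj hC hKC) _ ⟨K, hK, rfl⟩ ?_
  · rw [h.imgU_imgc hC hKC hK, map_le_iff_le_comap, Lib.Cores.comap_mk_pCore 2 h2] at h3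
    exact h3
  · rw [QuoCen.zz_map_of_inf h.hyp hK (hKC K hK)]
    have h4 := Lib.Cores.comap_mk_pCore (G := G) 2 h2
    have h5 : zz K ∈ (pCore 2 (G ⧸ zpowers x)).comap (QuotientGroup.mk' (zpowers x)) := by rw [h4]; exact hz
    exact h5

/-- the induction step -/
theorem step (h : CVW Om U) (ih : NilLt.{u} (Nat.card G)) (hK : K ∈ Om) (hz : zz K ∈ pCore 2 G) : U K ≤ pCore 2 G := by
  by_contra hbad
  have h' : CVW (cls K) U := h.sub (cls_sub h hK) cls_cj
  have all : ∀ L ∈ cls K, zz L ∈ pCore 2 G := by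
    rintro _ ⟨g, rfl⟩
    rw [h.hyp.zz_cj hK]
    exact (Lib.Cores.pCore_normal 2).conj_mem _ hz g
  have bad : ∀ L ∈ cls K, ¬ U L ≤ pCore 2 G := by
    rintro _ ⟨g, rfl⟩
    rw [h.vch.cj K hK, cj_le_pCore]
    exact hbad
  have c : NW (cls K) U := by
    refine ⟨h', all, bad, ?_⟩
    intro L N ht x hx1 hx2 hxx
    by_contra hx
    -- `G = ⟨L, N⟩`
    have htop : L ⊔ N = ⊤ := by
      by_contra hne
      have h1 := ind_sub h' ih hne ht.1 le_sup_left (all L ht.1)
      have h2 := ind_sub h' ih hne ht.2.1 le_sup_right (all N ht.2.1)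
      obtain ⟨v, hv, hv4⟩ := h'.exists_v ht.1
      obtain ⟨w, hw, hw4⟩ := h'.exists_v ht.2.1
      exact (tp_iff' h' ht.1 ht.2.1 hv hv4 hw hw4).1 ht (h'.vch.commute h'.hyp ((Lib.Cores.pCore_isPGroup 2).map _)
        ht.1 ht.2.1 hv hw hv4 hw4 (h1 hv) (h2 hw))
    have hxc : x ∈ center G := by
      have h1 : L ⊔ N ≤ centralizer {x} := by
        refine sup_le ?_ ?_
        · intro y hy
          rw [mem_centralizer_singleton_iff]
          exact (hx1 y hy).eq
        · intro y hy
          rw [mem_centralizer_singleton_iff]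
          exact (hx2 y hy).eq
      rw [htop] at h1
      rw [mem_center_iff]
      intro g
      exact mem_centralizer_singleton_iff.1 (h1 (mem_top g))
    refine bad L ht.1 (ind_quo h' ih hxc hxx hx ?_ ht.1 (all L ht.1))
    rintro M hM rfl
    exact bad M hM ((h'.vch.le M hM).trans (le_of_central h' hM hxc))
  -- a T-pair exists
  obtain ⟨v, hv, hv4⟩ := h.exists_v hK
  have hex : ∃ g, ¬ Commute v (cn g v) := by
    by_contra hcon
    push Not at hcon
    set A : Subgroup G := closure {x | ∃ g, x = cn g v} with hA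
    have hgen : ∀ a b, Commute (cn a v) (cn b v) := by
      intro a b
      have h1 := cn_comm (g := a) (hcon (a⁻¹ * b))
      rwa [cn_cn, mul_inv_cancel_left] at h1
    have hAn : A.Normal := by
      refine ⟨fun x hx g => ?_⟩
      rw [hA] at hx
      induction hx using closure_induction with
      | mem x hx =>
        obtain ⟨a, rfl⟩ := hx
        exact subset_closure ⟨g * a, cn_cn⟩
      | one => rw [mul_one, mul_inv_cancel]; exact one_mem _
      | mul x y _ _ hx hy =>
        have h1 : g * (x * y) * g⁻¹ = (g * x * g⁻¹) * (g * y * g⁻¹) := by group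
        rw [h1]; exact mul_mem hx hy
      | inv x _ hx =>
        have h1 : g * x⁻¹ * g⁻¹ = (g * x * g⁻¹)⁻¹ := by group
        rw [h1]; exact inv_mem hx
    have hAc : ∀ a ∈ A, ∀ b ∈ A, Commute a b := by
      have h1 : A ≤ centralizer {x | ∃ g, x = cn g v} := by
        rw [hA, closure_le]
        rintro _ ⟨i, rfl⟩
        rw [SetLike.mem_coe, mem_centralizer_iff]
        rintro _ ⟨j, rfl⟩
        exact (hgen j i).eq
      intro a ha b hb
      have h2 : A ≤ centralizer {a} := by
        rw [hA, closure_le]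
        intro x hx
        rw [SetLike.mem_coe, mem_centralizer_singleton_iff]
        exact (mem_centralizer_iff.1 (h1 ha)) x hx
      exact (mem_centralizer_singleton_iff.1 (h2 hb)).symm
    have hA4 : ∀ a ∈ A, a ∈ A ∧ a ^ 4 = 1 := by
      intro a ha
      have ha' := ha
      rw [hA] at ha'
      induction ha' using closure_induction with
      | mem x hx =>
        refine ⟨ha, ?_⟩
        obtain ⟨i, rfl⟩ := hx
        rw [← cn_pow, ← hv4, pow_orderOf_eq_one, cn_one]
      | one => exact ⟨ha, one_pow 4⟩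
      | mul x y hx' hy' hx hy =>
        have hx2 := hx hx'
        have hy2 := hy hy'
        exact ⟨ha, by rw [(hAc x hx' y hy').mul_pow, hx2.2, hy2.2, one_mul]⟩
      | inv x hx' hx => exact ⟨ha, by rw [inv_pow, (hx hx').2, inv_one]⟩
    have hA2 : IsPGroup 2 A := by
      intro a
      refine ⟨2, ?_⟩
      apply Subtype.ext
      have := (hA4 a.1 a.2).2
      simpa using this
    apply hbad
    rw [h.U_eq hK hv hv4, zpowers_le]
    exact Lib.Cores.le_pCore hAn hA2 (subset_closure ⟨1, one_cn.symm⟩)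
  obtain ⟨g, hg⟩ := hex
  refine c.false_of_tp (K := K) (N := cj g K) ?_
  rw [tp_iff' h' (self_mem_cls K) ⟨g, rfl⟩ hv hv4 (h.vch.conj_mem hK hv g) (orderOf_conj_four hv4 g)]
  exact hg

theorem nil_aux : ∀ n, NilLt.{u} n := by
  intro n
  induction n with
  | zero => intro G _ _ hG; omega
  | succ n ih =>
    intro G _ _ hG Om U h K hK hz
    exact step h (fun G' _ _ hG' => ih G' (by omega)) hK hz

end

end NilT

/-- **THEOREM NIL** -/
theorem CVW.nil {G : Type u} [Group G] [Finite G] {Om : Set (Subgroup G)} {U : Subgroup G → Subgroup G}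
    (h : CVW Om U) {K : Subgroup G} (hK : K ∈ Om) (hz : zz K ∈ pCore 2 G) : U K ≤ pCore 2 G :=
  NilT.nil_aux (Nat.card G + 1) G (Nat.lt_succ_self _) Om U h K hK hz

end Cfsg.Agent.Cit.CV
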