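import Cfsg.Agent.Cit.Nil.CV.Trans
import Cfsg.Agent.Cit.Nil.CV.FW
import Cfsg.Agent.Cit.Nil.CV.EndH
import Cfsg.Agent.Cit.Nil.ROne.Bridge

/-!
# (6b)(CV), rank at least three: assembly

* `cvw_of_cls` : the core-free world for `Om = cls K`;
* `cw_of` : the world of section 3 from the output `IndCV` of the induction;
* `false_of_rankThree` : **there is no component of rank at least three**.
-/

set_option autoImplicit false
set_option linter.style.haveILetI false
set_option linter.unusedSectionVars false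

namespace Cfsg.Agent.Cit.CV

open Subgroup Cfsg Cit Tau Cit.Nil

variable {G : Type*} [Group G] [Finite G] {Om : Set (Subgroup G)} {U : Subgroup G → Subgroup G}
  {A B K L N F : Subgroup G} {a b e f g s t u v w x y : G}

omit [Finite G] in
theorem cls_conj {K : Subgroup G} : ∀ L ∈ cls K, ∀ M ∈ cls K, ∃ g, M = cj g L := by
  rintro _ ⟨g, rfl⟩ _ ⟨h, rfl⟩
  exact ⟨h * g⁻¹, by rw [← cj_mul, inv_mul_cancel_right]⟩

/-- the core-free world (CV) of a class -/
theorem cvw_of_cls (hyp : Hyp (cls K)) (hn : NilK K) (hU : VChoice (cls K) U)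
    (hf : ∀ t : G, orderOf t = 2 → centralizerPPrimeCore 2 t = ⊥) : CVW (cls K) U where
  hyp := hyp
  two := by
    intro L hL
    have h1 : NilK L := AssemblyNil.nil_cls hn L hL
    have h2 : OO L = ⊥ := ROne.OO_eq_bot hyp hL (hf _ (hyp.orderOf_zz hL))
    obtain ⟨Q, hQ⟩ := Hyp.exists_syl L
    have h3 := h1 Q hQ
    rw [h2, bot_sup_eq] at h3
    exact hQ.2.1.to_le h3
  vch := hU
  eqc := by
    intro L hL M hM
    obtain ⟨g, rfl⟩ := cls_conj L hL M hM
    rw [card_cj]

/-- sections 1 and 2 -/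
theorem cw_of (h : CVW Om U) (one : ∀ K ∈ Om, ∀ L ∈ Om, ∃ g, L = cj g K) (hne : Om.Nonempty) (hi : IndCV Om U)
    (hr : ∀ A, IsA Om U A → RkThree Om U A) : CV3.CW Om U := by
  have h2 := twoCV_of h (nilCV_of h hr hi) hr fun A hA => h.exists_mem' hne hA
  exact ⟨h, one, h2.cent, fun A B hA hB hAB => h2.inf A hA B hB hAB, fun A hA v hv => by
    obtain ⟨w, hw, -, -, hl, -⟩ := hr A hA v hv
    exact ⟨w, hw, hl.1, hl.2⟩⟩

/-- **(CV), rank at least three** -/
theorem false_of_rankThree (h : CVW Om U) (one : ∀ K ∈ Om, ∀ L ∈ Om, ∃ g, L = cj g K) (hne : Om.Nonempty)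
    (hi : IndCV Om U) (hr : ∀ A, IsA Om U A → RkThree Om U A) (f : ROne.FSimp F) (h2 : 2 ∣ Nat.card F)
    (hc : CloEnd.Crit1174 F) (hB : CloEnd.Bend F) : False := by
  have hcw := cw_of h one hne hi hr
  have w := fw_of hcw f h2 hne hc
  obtain ⟨H, hH⟩ := exists_se hcw f h2 hne hc
  obtain ⟨A, hA, v, hv⟩ := h.exists_mem hne
  exact Cfsg.Agent.Cit.Nil.CV.EndH.false_of w.fh f hA hv hB hH

end Cfsg.Agent.Cit.CV
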