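import Cfsg.Agent.Cit.Nil.CV.Base
import Cfsg.Agent.Cit.OneQuat

/-!
# (6b)(CV): roots modulo four and the parity

`rf v a = y a y⁻¹` (`y ∈ K \ X_K`); `al_conj`, `rf_mem`, `al_rf`, `al_two`, `al_zero_iff`;
`Ev U L g` : the parity of `g ∈ N(L)`; `not_inv_both`, `not_rf` (`s = zz N` in `N(A)`).
-/

set_option autoImplicit false
set_option linter.style.haveILetI false
set_option linter.unusedSectionVars false

namespace Cfsg.Agent.Cit.CV

open Subgroup Cfsg Cit Tau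

variable {G : Type*} [Group G] {Om : Set (Subgroup G)} {U : Subgroup G → Subgroup G} {A K L N : Subgroup G}
  {a b g s v w x y : G}

/-- the reflection -/
noncomputable def rf (Om : Set (Subgroup G)) (U : Subgroup G → Subgroup G) (v a : G) : G := a * pw v (-al Om U v a)

namespace CVW

variable [Finite G]

/-! ### Roots -/

theorem rf_eq (h : CVW Om U) (hA : IsA Om U A) (hK : K ∈ Om) (hv : v ∈ U K) (hv4 : orderOf v = 4) (hvA : v ∈ A)
    (hy : y ∈ K) (hyX : y ∉ XX U K) (ha : a ∈ A) : y * a * y⁻¹ = rf Om U v a :=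
  h.al_spec hA hK hv hv4 hvA hy hyX ha

theorem RR_inv (hv : v ∈ RR Om U A) : v⁻¹ ∈ RR Om U A := by
  obtain ⟨h1, h2, K, hK, hvK⟩ := hv
  exact ⟨A.inv_mem h1, by rw [orderOf_inv, h2], K, hK, (U K).inv_mem hvK⟩

theorem RR_conj (h : CVW Om U) (hg : g ∈ normalizer (A : Set G)) (hv : v ∈ RR Om U A) :
    g * v * g⁻¹ ∈ RR Om U A := by
  have := (h.RR_cj g).mp hv
  rwa [mem_normalizer_iff_cj.mp hg] at this

theorem al_conj (h : CVW Om U) (hA : IsA Om U A) (hg : g ∈ normalizer (A : Set G)) (hv : v ∈ RR Om U A)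
    (ha : a ∈ A) : al Om U (g * v * g⁻¹) (g * a * g⁻¹) = al Om U v a := by
  have hv' := h.RR_conj hg hv
  obtain ⟨hvA, hv4, K, hK, hvK⟩ := hv
  obtain ⟨y, hy, hyX⟩ := h.exists_y hK
  refine h.al_eq hA (h.hyp.conj K hK g) (h.vch.conj_mem hK hvK g) (orderOf_conj_four hv4 g) hv'.1
    (conj_mem_cj hy) (fun hh => hyX ((conj_mem_XX (h.vch.cj K hK g)).mp hh))
    ((mem_normalizer_iff.mp hg a).mp ha) ?_
  have h1 := h.al_spec hA hK hvK hv4 hvA hy hyX ha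
  calc g * y * g⁻¹ * (g * a * g⁻¹) * (g * y * g⁻¹)⁻¹ = g * (y * a * y⁻¹) * g⁻¹ := by group
    _ = g * a * g⁻¹ * (g * pw v (-al Om U v a) * g⁻¹) := by rw [h1]; group
    _ = _ := by rw [conj_pw]

/-- the member and the reflecting element of a root -/
theorem exists_root (h : CVW Om U) (hA : IsA Om U A) (hv : v ∈ RR Om U A) : ∃ K ∈ Om, v ∈ U K ∧ ∃ y ∈ K, y ∉ XX U K ∧
    y ∈ normalizer (A : Set G) ∧ y * y = v * v ∧ ∀ a ∈ A, y * a * y⁻¹ = rf Om U v a := by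
  obtain ⟨hvA, hv4, K, hK, hvK⟩ := hv
  obtain ⟨y, hy, hyX⟩ := h.exists_y hK
  refine ⟨K, hK, hvK, y, hy, hyX, h.K_le_norm hA hK hvK hv4 hvA hy, ?_, fun a ha => h.rf_eq hA hK hvK hv4 hvA hy hyX ha⟩
  rw [(h.y_facts hK hy hyX).1, h.sq_eq hK hvK hv4]

theorem rf_mem (h : CVW Om U) (hA : IsA Om U A) (hv : v ∈ RR Om U A) (hw : w ∈ RR Om U A) :
    rf Om U v w ∈ RR Om U A := by
  obtain ⟨K, hK, hvK, y, hy, hyX, hyA, -, hrf⟩ := h.exists_root hA hv
  rw [← hrf w hw.1]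
  exact h.RR_conj hyA hw

theorem rf_mem_A (hv : v ∈ RR Om U A) (ha : a ∈ A) : rf Om U v a ∈ A := A.mul_mem ha (pw_mem hv.1 _)

theorem al_rf (h : CVW Om U) (hA : IsA Om U A) (hv : v ∈ RR Om U A) (hw : w ∈ RR Om U A) (ha : a ∈ A) :
    al Om U (rf Om U v w) (rf Om U v a) = al Om U w a := by
  obtain ⟨K, hK, hvK, y, hy, hyX, hyA, -, hrf⟩ := h.exists_root hA hv
  rw [← hrf w hw.1, ← hrf a ha]
  exact h.al_conj hA hyA hw ha

theorem al_one (h : CVW Om U) (hA : IsA Om U A) (hv : v ∈ RR Om U A) : al Om U v 1 = 0 := by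
  have := h.al_mul hA hv A.one_mem A.one_mem
  rw [mul_one] at this
  exact left_eq_add.mp this

theorem al_inv (h : CVW Om U) (hA : IsA Om U A) (hv : v ∈ RR Om U A) (ha : a ∈ A) :
    al Om U v a⁻¹ = -al Om U v a := by
  have := h.al_mul hA hv (A.inv_mem ha) ha
  rw [inv_mul_cancel, h.al_one hA hv] at this
  exact eq_neg_of_add_eq_zero_left this.symm

theorem al_pow (h : CVW Om U) (hA : IsA Om U A) (hv : v ∈ RR Om U A) (ha : a ∈ A) (n : ℕ) :
    al Om U v (a ^ n) = n * al Om U v a := by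
  induction n with
  | zero => simp [h.al_one hA hv]
  | succ n ih =>
    rw [pow_succ, h.al_mul hA hv (A.pow_mem ha n) ha, ih]
    push_cast; ring

theorem al_pw (h : CVW Om U) (hA : IsA Om U A) (hv : v ∈ RR Om U A) (ha : a ∈ A) (n : ZMod 4) :
    al Om U v (pw a n) = n * al Om U v a := by
  rw [pw, h.al_pow hA hv ha, ZMod.natCast_val, ZMod.cast_id]

theorem al_sq (h : CVW Om U) (hA : IsA Om U A) (hv : v ∈ RR Om U A) (ha : a ∈ A) :
    al Om U v (a * a) = 2 * al Om U v a := by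
  rw [h.al_mul hA hv ha ha, two_mul]

theorem al_rf_left (h : CVW Om U) (hA : IsA Om U A) (hv : v ∈ RR Om U A) (hw : w ∈ RR Om U A) (ha : a ∈ A) :
    al Om U w (rf Om U v a) = al Om U w a - al Om U v a * al Om U w v := by
  rw [rf, h.al_mul hA hw ha (pw_mem hv.1 _), h.al_pw hA hw hv.1]
  ring

/-- on involutions the values are `0`, `2` -/
theorem al_of_sq (h : CVW Om U) (hA : IsA Om U A) (hv : v ∈ RR Om U A) (ha : a ∈ A) (h2 : a * a = 1) :
    al Om U v a = 0 ∨ al Om U v a = 2 := by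
  have h1 := h.al_sq hA hv ha
  rw [h2, h.al_one hA hv] at h1
  have : ∀ n : ZMod 4, 0 = 2 * n → n = 0 ∨ n = 2 := by decide
  exact this _ h1

theorem al_two (h : CVW Om U) (hA : IsA Om U A) (hv : v ∈ RR Om U A) (hw : w ∈ RR Om U A)
    (h2 : al Om U v w = 2) : w = v ∨ w = v⁻¹ := by
  obtain ⟨K, hK, hvK, y, hy, hyX, hyA, hyy, hrf⟩ := h.exists_root hA hv
  obtain ⟨hwA, hw4, L, hL, hwL⟩ := hw
  have hv4 := hv.2.1
  have h1 := hrf w hwA
  have hz : pw v (-2) = zz K := by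
    rw [show (-2 : ZMod 4) = 2 by decide, h.pw_two_eq hK hvK hv4]
  rw [rf, h2, hz] at h1
  have hzA := h.zz_mem_A hA hK hvK hv4 hv.1
  have h3 : y * zz L = zz L * y := by
    have h4 : y * zz L * y⁻¹ = zz L := by
      rw [← h.sq_eq hL hwL hw4]
      calc y * (w * w) * y⁻¹ = (y * w * y⁻¹) * (y * w * y⁻¹) := by group
        _ = w * (zz K * w) * zz K := by rw [h1]; group
        _ = w * w * (zz K * zz K) := by rw [h.comm hA hzA hwA]; group
        _ = w * w := by rw [h.hyp.zz_mul hK, mul_one]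
    exact mul_inv_eq_iff_eq_mul.mp h4
  have h5 := h.norm_h3 hK hL hy (by rw [(h.y_facts hK hy hyX).2.1]) h3
  rcases h.conj_or hL h5 hwL hw4 with h6 | h6
  · rw [h1] at h6
    exact absurd (mul_eq_left.mp h6) (h.hyp.zz_ne hK)
  · rw [h1] at h6
    have h7 : zz K = zz L := by
      rw [eq_inv_mul_of_mul_eq h6, ← mul_inv_rev, h.sq_eq hL hwL hw4, h.hyp.zz_inv hL]
    by_cases hKL : K = L
    · subst hKL
      exact h.eq_or_inv hK hvK hv4 hwL hw4
    · have h8 := h.comm_of_zz_eq hK hL h7 hKL hy (h.vch.le L hL hwL)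
      rw [h8, mul_inv_cancel_right] at h1
      exact absurd (left_eq_mul.mp h1) (h.hyp.zz_ne hK)

/-- orthogonal roots: the members commute -/
theorem comm_of_al_zero (h : CVW Om U) (hA : IsA Om U A) (hK : K ∈ Om) (hvK : v ∈ U K) (hv4 : orderOf v = 4)
    (hvA : v ∈ A) (hL : L ∈ Om) (hwL : w ∈ U L) (hw4 : orderOf w = 4) (hwA : w ∈ A)
    (h0 : al Om U v w = 0) : K ≠ L ∧ ∀ a ∈ K, ∀ b ∈ L, a * b = b * a := by
  have hne : K ≠ L := by
    rintro rfl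
    have h1 := h.al_self hA ⟨hvA, hv4, K, hK, hvK⟩
    rcases h.eq_or_inv hK hvK hv4 hwL hw4 with rfl | rfl
    · rw [h1] at h0; exact absurd h0 (by decide)
    · rw [h.al_inv hA ⟨hvA, hv4, K, hK, hvK⟩ hvA, h1] at h0; exact absurd h0 (by decide)
  refine ⟨hne, h.hyp.comm_of_zz_comm hK hL (h.two K hK) (h.two L hL) ?_ hne⟩
  have hzA := h.zz_mem_A hA hL hwL hw4 hwA
  intro a ha
  by_cases haX : a ∈ XX U K
  · exact h.XX_comm hA hK hvK hv4 hvA haX hzA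
  · have h1 := h.al_spec hA hK hvK hv4 hvA ha haX hwA
    rw [h0, neg_zero, pw_zero, mul_one] at h1
    have h2 : a * w = w * a := mul_inv_eq_iff_eq_mul.mp h1
    rw [← h.sq_eq hL hwL hw4]
    exact ((show Commute a w from h2).mul_right h2).eq

theorem al_zero_symm (h : CVW Om U) (hA : IsA Om U A) (hv : v ∈ RR Om U A) (hw : w ∈ RR Om U A)
    (h0 : al Om U v w = 0) : al Om U w v = 0 := by
  obtain ⟨hvA, hv4, K, hK, hvK⟩ := hv
  obtain ⟨hwA, hw4, L, hL, hwL⟩ := hw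
  obtain ⟨y, hy, hyX⟩ := h.exists_y hL
  obtain ⟨-, hc⟩ := h.comm_of_al_zero hA hK hvK hv4 hvA hL hwL hw4 hwA h0
  refine h.al_eq hA hL hwL hw4 hwA hy hyX hvA ?_
  rw [neg_zero, pw_zero, mul_one, ← hc v (h.vch.le K hK hvK) y hy, mul_inv_cancel_right]

theorem al_zero_iff (h : CVW Om U) (hA : IsA Om U A) (hv : v ∈ RR Om U A) (hw : w ∈ RR Om U A) :
    al Om U v w = 0 ↔ al Om U w v = 0 :=
  ⟨h.al_zero_symm hA hv hw, h.al_zero_symm hA hw hv⟩

theorem al_two_symm (h : CVW Om U) (hA : IsA Om U A) (hv : v ∈ RR Om U A) (hw : w ∈ RR Om U A)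
    (h2 : al Om U v w = 2) : al Om U w v = 2 := by
  rcases h.al_two hA hv hw h2 with rfl | rfl
  · exact h2
  · rw [h.al_neg hA hv hv.1, h.al_self hA hv]; decide

/-- the odd bonds: `al w v = ± al v w` -/
theorem al_odd_symm (h : CVW Om U) (hA : IsA Om U A) (hv : v ∈ RR Om U A) (hw : w ∈ RR Om U A)
    (h0 : al Om U v w ≠ 0) (h2 : al Om U v w ≠ 2) : al Om U w v = al Om U v w ∨ al Om U w v = -al Om U v w := by
  have h3 : al Om U w v ≠ 0 := fun hh => h0 (h.al_zero_symm hA hw hv hh)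
  have h4 : al Om U w v ≠ 2 := fun hh => h2 (h.al_two_symm hA hw hv hh)
  revert h0 h2 h3 h4
  generalize al Om U v w = i
  generalize al Om U w v = j
  revert i j
  decide

/-- an element of `A` is determined by its commutation with the generators -/
theorem exists_gen (hA : IsA Om U A) {p : G → Prop} (h1 : p 1) (hm : ∀ a ∈ A, ∀ b ∈ A, p a → p b → p (a * b))
    (hr : ∀ v ∈ RR Om U A, p v) : ∀ a ∈ A, p a := by
  have key : ∀ a ∈ closure (RR Om U A), a ∈ A ∧ p a := by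
    intro a ha
    induction ha using closure_induction'' with
    | mem v hv => exact ⟨hv.1, hr v hv⟩
    | inv_mem v hv => exact ⟨A.inv_mem hv.1, hr _ (RR_inv hv)⟩
    | one => exact ⟨A.one_mem, h1⟩
    | mul x y _ _ hx hy => exact ⟨A.mul_mem hx.1 hy.1, hm x hx.1 y hy.1 hx.2 hy.2⟩
  have h2 : closure (RR Om U A) = A := WW_self hA
  intro a ha
  rw [← h2] at ha
  exact (key a ha).2

/-! ### Parity -/

theorem W2_iff (h : CVW Om U) (hK : K ∈ Om) : W2 U K x ↔ ∃ k ∈ XX U K, x = k * k := by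
  unfold W2
  simp only [h.oo hK, mem_bot]
  refine exists_congr fun k => and_congr Iff.rfl ?_
  rw [inv_mul_eq_one]
  exact eq_comm

theorem W2_mul (h : CVW Om U) (hK : K ∈ Om) (hx : x ∈ XX U K) (hy : y ∈ XX U K) :
    W2 U K (x * y) ↔ (W2 U K x ↔ W2 U K y) := by
  obtain ⟨c, v, n, ρ, l⟩ := TauMain.exists_loc h.hyp h.vch (h.two K hK) (h.mem_OmS_self hK)
  exact l.W2_mul h.hyp h.vch (h.two K hK) (h.mem_OmS_self hK) hx hy

theorem W2_conj (h : CVW Om U) (hK : K ∈ Om) (hg : g ∈ normalizer (K : Set G)) : W2 U K (g * x * g⁻¹) ↔ W2 U K x := by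
  have := conj_W2 (x := x) (h.vch.cj K hK g)
  rwa [mem_normalizer_iff_cj.mp hg] at this

theorem W2_inv (h : CVW Om U) (hK : K ∈ Om) (hx : x ∈ XX U K) : W2 U K x⁻¹ ↔ W2 U K x := by
  have h1 := h.W2_mul hK ((XX U K).inv_mem hx) hx
  rw [inv_mul_cancel] at h1
  have h2 : W2 U K 1 := (h.W2_iff hK).mpr ⟨1, (XX U K).one_mem, by simp⟩
  exact h1.mp h2

/-- `g y g⁻¹ = y x⁻¹`, `x` as below -/
theorem dif_mem (h : CVW Om U) (hL : L ∈ Om) (hg : g ∈ normalizer (L : Set G)) (hy : y ∈ L) (hyX : y ∉ XX U L) :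
    (g * y * g⁻¹)⁻¹ * y ∈ XX U L :=
  inv_mul_mem_XX h.vch hL ((mem_normalizer_iff.mp hg y).mp hy) hy
    (fun hh => hyX ((mem_normalizer_iff.mp (le_normalizer_XX h.vch hL hg) y).mpr hh)) hyX

end CVW

/-- the parity of `g ∈ N(L)` is even -/
def Ev (U : Subgroup G → Subgroup G) (L : Subgroup G) (g : G) : Prop :=
  ∀ y ∈ L, y ∉ XX U L → W2 U L ((g * y * g⁻¹)⁻¹ * y)

namespace CVW

variable [Finite G]

theorem ev_iff (h : CVW Om U) (hL : L ∈ Om) (hg : g ∈ normalizer (L : Set G)) (hy : y ∈ L) (hyX : y ∉ XX U L) :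
    Ev U L g ↔ W2 U L ((g * y * g⁻¹)⁻¹ * y) := by
  refine ⟨fun hh => hh y hy hyX, fun hh y' hy' hyX' => ?_⟩
  have hx : y⁻¹ * y' ∈ XX U L := inv_mul_mem_XX h.vch hL hy hy' hyX hyX'
  have hd := h.dif_mem hL hg hy hyX
  have hgx : g * (y⁻¹ * y') * g⁻¹ ∈ XX U L := (mem_normalizer_iff.mp (le_normalizer_XX h.vch hL hg) _).mp hx
  have h1 : (g * y' * g⁻¹)⁻¹ * y' = (g * (y⁻¹ * y') * g⁻¹)⁻¹ * (((g * y * g⁻¹)⁻¹ * y) * (y⁻¹ * y')) := by group
  rw [h1, h.W2_mul hL ((XX U L).inv_mem hgx) ((XX U L).mul_mem hd hx), h.W2_mul hL hd hx, h.W2_inv hL hgx,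
    h.W2_conj hL hg]
  tauto

theorem ev_mul (h : CVW Om U) (hL : L ∈ Om) (ha : a ∈ normalizer (L : Set G)) (hb : b ∈ normalizer (L : Set G)) :
    Ev U L (a * b) ↔ (Ev U L a ↔ Ev U L b) := by
  obtain ⟨y, hy, hyX⟩ := h.exists_y hL
  rw [h.ev_iff hL (mul_mem ha hb) hy hyX, h.ev_iff hL ha hy hyX, h.ev_iff hL hb hy hyX]
  have h1 : (a * b * y * (a * b)⁻¹)⁻¹ * y = (a * ((b * y * b⁻¹)⁻¹ * y) * a⁻¹) * ((a * y * a⁻¹)⁻¹ * y) := by group
  have h2 := h.dif_mem hL hb hy hyX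
  rw [h1, h.W2_mul hL ((mem_normalizer_iff.mp (le_normalizer_XX h.vch hL ha) _).mp h2) (h.dif_mem hL ha hy hyX),
    h.W2_conj hL ha]
  tauto

theorem ev_sq (h : CVW Om U) (hL : L ∈ Om) (ha : a ∈ normalizer (L : Set G)) : Ev U L (a * a) :=
  (h.ev_mul hL ha ha).mpr Iff.rfl

/-- TAU (1) -/
theorem ev_zz (h : CVW Om U) (hN : N ∈ Om) (hL : L ∈ Om) (hs : zz N ∈ normalizer (L : Set G)) (hw : w ∈ U L)
    (hw4 : orderOf w = 4) : Ev U L (zz N) ↔ zz N * w * (zz N)⁻¹ = w := by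
  obtain ⟨t, ⟨ht1, ht4, ht2, htX⟩, ht⟩ := TauMain.local_zz h.hyp h.vch hN hL hs
  rw [h.ev_iff hL hs ht2 htX]
  unfold TauMain.dl at ht
  simp only at ht
  have h1 : (zz N * t.1 * (zz N)⁻¹)⁻¹ * t.1 ∈ OO L ↔ zz N * w * (zz N)⁻¹ = w := by
    rw [h.oo hL, mem_bot, inv_mul_eq_one]
    rcases h.eq_or_inv hL hw hw4 ht1 ht4 with h2 | h2
    · rw [h2]
    · rw [h2]
      have h3 : zz N * w⁻¹ * (zz N)⁻¹ = (zz N * w * (zz N)⁻¹)⁻¹ := by group
      rw [h3, inv_inj]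
  rw [← h1]
  unfold TauMain.sg at ht
  by_cases hp : (zz N * t.1 * (zz N)⁻¹)⁻¹ * t.1 ∈ OO L <;>
    by_cases hq : W2 U L ((zz N * t.2 * (zz N)⁻¹)⁻¹ * t.2) <;> simp_all

/-- an element of `C(A)` normalises the members -/
theorem norm_of_comm (h : CVW Om U) (hL : L ∈ Om) (hw : w ∈ U L) (hw4 : orderOf w = 4) (hc : x * w = w * x) :
    x ∈ normalizer (L : Set G) :=
  h.norm_of_norm_U hL hw hw4 (by rw [hc, mul_inv_cancel_right]; exact hw)

/-- the elements of `X_K` which are not squares are odd on the members linked to `K` -/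
theorem ev_XX (h : CVW Om U) (hA : IsA Om U A) (hK : K ∈ Om) (hvK : v ∈ U K) (hv : v ∈ RR Om U A)
    (hL : L ∈ Om) (hwL : w ∈ U L) (hw : w ∈ RR Om U A) (h0 : al Om U w v ≠ 0) (h2 : al Om U w v ≠ 2)
    (hx : x ∈ XX U K) : Ev U L x ↔ W2 U K x := by
  obtain ⟨c, y, n, hc, hcU, hu4, hcX, hyX, hcov⟩ := h.exists_coord hK
  have hnorm : ∀ x ∈ XX U K, x ∈ normalizer (L : Set G) := fun x hx =>
    h.norm_of_comm hL hwL hw.2.1 (h.XX_comm hA hK hvK hv.2.1 hv.1 hx hw.1)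
  have hcK := hc.c_mem
  obtain ⟨c', y', n', hc', -, -, hcX', hyX', hcov'⟩ := h.exists_coord hL
  -- the orders agree
  have hnn : n = n' := by
    have h4 := h.eqc K hK L hL
    rw [hc.card, hc'.card] at h4
    have := Nat.pow_right_injective (le_refl 2) h4
    simp only [Nat.add_right_cancel_iff] at this
    exact this
  subst hnn
  -- `c` is odd
  have hodd : ¬ Ev U L c := by
    intro hev
    have key : ∀ j : ℕ, ∃ k ∈ XX U L, (c ^ 2 ^ j * y' * (c ^ 2 ^ j)⁻¹)⁻¹ * y' = k ^ 2 ^ (j + 1) := by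
      intro j
      induction j with
      | zero =>
        obtain ⟨k, hk, hk2⟩ := (h.W2_iff hL).mp (hev y' hc'.v_mem hyX')
        refine ⟨k, hk, ?_⟩
        simpa [pow_two] using hk2
      | succ j ih =>
        obtain ⟨k, hk, hkj⟩ := ih
        set d := c ^ 2 ^ j with hd
        have hdX : d ∈ XX U K := (XX U K).pow_mem hcX _
        have hdL := hnorm d hdX
        have hdk : d * k * d⁻¹ ∈ XX U L := (mem_normalizer_iff.mp (le_normalizer_XX h.vch hL hdL) k).mp hk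
        have h5 : W2 U L (d * k * d⁻¹ * k) := (h.W2_mul hL hdk hk).mpr (h.W2_conj hL hdL)
        obtain ⟨m, hm, hmk⟩ := (h.W2_iff hL).mp h5
        refine ⟨m, hm, ?_⟩
        have hcomm : Commute (d * k * d⁻¹) k := by
          obtain ⟨i, hi⟩ := hcov' _ hdk
          obtain ⟨i', hi'⟩ := hcov' _ hk
          rw [hi, hi']
          exact (Commute.refl c').pow_pow _ _
        have h6 : c ^ 2 ^ (j + 1) = d * d := by rw [hd, ← pow_add, ← two_mul, ← pow_succ']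
        rw [h6]
        calc (d * d * y' * (d * d)⁻¹)⁻¹ * y'
            = d * ((d * y' * d⁻¹)⁻¹ * y') * d⁻¹ * ((d * y' * d⁻¹)⁻¹ * y') := by
              simp only [mul_inv_rev, inv_inv, mul_assoc, inv_mul_cancel_left, mul_inv_cancel_left]
          _ = (d * k * d⁻¹) ^ 2 ^ (j + 1) * k ^ 2 ^ (j + 1) := by rw [hkj, conj_pow]
          _ = (m * m) ^ 2 ^ (j + 1) := by rw [← hcomm.mul_pow, hmk]
          _ = m ^ 2 ^ (j + 1 + 1) := by rw [← pow_two, ← pow_mul, ← pow_succ']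
    obtain ⟨k, hk, hkn⟩ := key n
    have hkk : k ^ 2 ^ (n + 1) * k ^ 2 ^ (n + 1) = 1 := by
      obtain ⟨i, rfl⟩ := hcov' _ hk
      rw [← pow_add, ← two_mul, ← pow_succ', ← pow_mul, mul_comm, pow_mul, ← hc'.ord, pow_orderOf_eq_one, one_pow]
    set u := c ^ 2 ^ n with hu
    have huR : u ∈ RR Om U A := ⟨h.U_le_A hA hK hvK hv.2.1 hv.1 hcU, hu4, K, hK, hcU⟩
    have hau : al Om U w u ≠ 0 ∧ al Om U w u ≠ 2 := by
      rcases h.eq_or_inv hK hvK hv.2.1 hcU hu4 with h5 | h5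
      · rw [h5]; exact ⟨h0, h2⟩
      · rw [h5, h.al_inv hA hw hv.1]
        revert h0 h2
        generalize al Om U w v = i
        revert i
        decide
    have hyX'' : y'⁻¹ ∉ XX U L := fun hh => hyX' ((inv_mem_iff (H := XX U L)).mp hh)
    have h7 := h.al_spec hA hL hwL hw.2.1 hw.1 (L.inv_mem hc'.v_mem) hyX'' huR.1
    rw [inv_inv] at h7
    have h8 : (u * y' * u⁻¹)⁻¹ * y' = pw w (al Om U w u) := by
      calc (u * y' * u⁻¹)⁻¹ * y' = u * (y'⁻¹ * u * y')⁻¹ := by group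
        _ = u * ((pw w (-al Om U w u))⁻¹ * u⁻¹) := by rw [h7, mul_inv_rev]
        _ = u * (pw w (al Om U w u) * u⁻¹) := by rw [pw_neg hw.2.1, inv_inv]
        _ = pw w (al Om U w u) := by
          rw [← mul_assoc, pw_comm (h.comm hA huR.1 hw.1), mul_inv_cancel_right]
    rw [hkn] at h8
    rw [h8, sq_pw hw.2.1] at hkk
    have h9 : pw w (2 * al Om U w u) = pw w 0 := by rw [hkk, pw_zero]
    have h10 := pw_inj hw.2.1 h9
    have h11 : ∀ i : ZMod 4, 2 * i = 0 → i = 0 ∨ i = 2 := by decide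
    rcases h11 _ h10 with h12 | h12
    · exact hau.1 h12
    · exact hau.2 h12
  -- powers of `c`
  have hsq : ∀ k ∈ XX U K, Ev U L (k * k) := fun k hk => h.ev_sq hL (hnorm k hk)
  constructor
  · intro hev
    by_contra hW
    have hWc : ¬ W2 U K c := by
      intro hWc
      obtain ⟨k, hk, hck⟩ := (h.W2_iff hK).mp hWc
      apply hodd
      rw [hck]
      exact hsq k hk
    have h5 : W2 U K (x * c) := (h.W2_mul hK hx hcX).mpr ⟨fun h6 => absurd h6 hW, fun h6 => absurd h6 hWc⟩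
    obtain ⟨k, hk, hxk⟩ := (h.W2_iff hK).mp h5
    have h6 := hsq k hk
    rw [← hxk, h.ev_mul hL (hnorm x hx) (hnorm c hcX)] at h6
    exact hodd (h6.mp hev)
  · intro hW
    obtain ⟨k, hk, rfl⟩ := (h.W2_iff hK).mp hW
    exact hsq k hk

/-- `g` inverting the root `v` -/
theorem al_inverted (h : CVW Om U) (hA : IsA Om U A) (hg : g ∈ normalizer (A : Set G)) (hv : v ∈ RR Om U A)
    (hgv : g * v * g⁻¹ = v⁻¹) (ha : a ∈ A) : al Om U v (g * a * g⁻¹) = -al Om U v a := by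
  have h1 := h.al_conj hA hg hv ha
  rw [hgv, h.al_neg hA hv ((mem_normalizer_iff.mp hg a).mp ha)] at h1
  rw [← h1, neg_neg]

/-- parity is additive on the third member -/
theorem ev_link (h : CVW Om U) (hA : IsA Om U A) (hK : K ∈ Om) (hvK : v ∈ U K) (hv : v ∈ RR Om U A)
    (hL : L ∈ Om) (hwL : w ∈ U L) (hw : w ∈ RR Om U A) (h0 : al Om U w v ≠ 0) (h2 : al Om U w v ≠ 2)
    (hy : y ∈ K) (hyX : y ∉ XX U K) (hgK : g ∈ normalizer (K : Set G)) (hgL : g ∈ normalizer (L : Set G))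
    (hgM : g ∈ normalizer (cj y L : Set G)) : Ev U (cj y L) g ↔ (Ev U K g ↔ Ev U L g) := by
  obtain ⟨t, ht, htX⟩ := h.exists_y hL
  have hM := h.hyp.conj L hL y
  have htX' : y * t * y⁻¹ ∉ XX U (cj y L) := fun hh => htX ((conj_mem_XX (h.vch.cj L hL y)).mp hh)
  have hd := h.dif_mem hK hgK hy hyX
  set x := y⁻¹ * (g * y * g⁻¹) with hx
  have hx' : (g * y * g⁻¹)⁻¹ * y = x⁻¹ := by rw [hx]; group
  rw [hx'] at hd
  have hxX : x ∈ XX U K := (inv_mem_iff (H := XX U K)).mp hd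
  have hxL : x ∈ normalizer (L : Set G) :=
    h.norm_of_comm hL hwL hw.2.1 (h.XX_comm hA hK hvK hv.2.1 hv.1 hxX hw.1)
  have hd' := h.dif_mem hL hgL ht htX
  rw [h.ev_iff hM hgM (conj_mem_cj ht) htX', h.ev_iff hK hgK hy hyX, h.ev_iff hL hgL ht htX, hx',
    h.W2_inv hK hxX, ← h.ev_XX hA hK hvK hv hL hwL hw h0 h2 hxX, h.ev_iff hL hxL ht htX]
  have h1 : (g * (y * t * y⁻¹) * g⁻¹)⁻¹ * (y * t * y⁻¹) =
      y * ((x * ((g * t * g⁻¹)⁻¹ * t) * t⁻¹ * x⁻¹) * t) * y⁻¹ := by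
    rw [hx]; group
  have h3 : (x * ((g * t * g⁻¹)⁻¹ * t) * t⁻¹ * x⁻¹) * t =
      (x * ((g * t * g⁻¹)⁻¹ * t) * x⁻¹) * ((x * t * x⁻¹)⁻¹ * t) := by group
  rw [h1, conj_W2 (h.vch.cj L hL y), h3,
    h.W2_mul hL ((mem_normalizer_iff.mp (le_normalizer_XX h.vch hL hxL) _).mp hd') (h.dif_mem hL hxL ht htX),
    h.W2_conj hL hxL]
  tauto

/-- **(0.2)** `s = zz N` in `N(A)` inverting the root `v`; `w` linked to `v` -/
theorem inverted (h : CVW Om U) (hA : IsA Om U A) (hN : N ∈ Om) (hsA : zz N ∈ normalizer (A : Set G))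
    (hv : v ∈ RR Om U A) (hw : w ∈ RR Om U A) (h0 : al Om U v w ≠ 0) (h2 : al Om U v w ≠ 2)
    (hsv : zz N * v * (zz N)⁻¹ = v⁻¹) :
    zz N * w * (zz N)⁻¹ ≠ w ∧ zz N * w * (zz N)⁻¹ ≠ w⁻¹ ∧ zz N * w * (zz N)⁻¹ ≠ rf Om U v w ∧
      zz N * w * (zz N)⁻¹ ≠ (rf Om U v w)⁻¹ := by
  have hw0 : al Om U w v ≠ 0 := fun hh => h0 (h.al_zero_symm hA hw hv hh)
  have hw2 : al Om U w v ≠ 2 := fun hh => h2 (h.al_two_symm hA hw hv hh)
  obtain ⟨K, hK, hvK, y, hy, hyX, hyA, hyy, hrf⟩ := h.exists_root hA hv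
  obtain ⟨L, hL, hwL, -⟩ := h.exists_root hA hw
  have hv4 := hv.2.1
  have hw4 := hw.2.1
  have hsK : zz N ∈ normalizer (K : Set G) :=
    h.norm_of_norm_U hK hvK hv4 (by rw [hsv]; exact (U K).inv_mem hvK)
  have hne : ∀ {v : G}, orderOf v = 4 → v⁻¹ ≠ v := by
    intro v hv4 hh
    have h3 : v ^ 2 = 1 := by rw [pow_two]; nth_rw 1 [← hh]; exact inv_mul_cancel v
    have h4 := orderOf_dvd_of_pow_eq_one h3
    rw [hv4] at h4
    exact absurd (Nat.le_of_dvd (by norm_num) h4) (by norm_num)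
  have hsEv : ∀ {L : Subgroup G} {w : G}, L ∈ Om → w ∈ U L → orderOf w = 4 → zz N * w * (zz N)⁻¹ = w⁻¹ →
      zz N ∈ normalizer (L : Set G) ∧ ¬ Ev U L (zz N) := by
    intro L w hL hwL hw4 hsw
    have h3 : zz N ∈ normalizer (L : Set G) :=
      h.norm_of_norm_U hL hwL hw4 (by rw [hsw]; exact (U L).inv_mem hwL)
    refine ⟨h3, fun hev => ?_⟩
    rw [h.ev_zz hN hL h3 hwL hw4, hsw] at hev
    exact hne hw4 hev
  have hKodd := (hsEv hK hvK hv4 hsv).2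
  -- the third member
  have hM := h.hyp.conj L hL y
  have hmM : rf Om U v w ∈ U (cj y L) := by rw [← hrf w hw.1]; exact h.vch.conj_mem hL hwL y
  have hm4 : orderOf (rf Om U v w) = 4 := by rw [← hrf w hw.1]; exact orderOf_conj_four hw4 y
  -- the last two alternatives
  have last : y⁻¹ * zz N ∈ normalizer (L : Set G) → False := by
    intro hu
    have hd := h.dif_mem hK hsK hy hyX
    set x := y⁻¹ * (zz N * y * (zz N)⁻¹) with hx
    have hx' : (zz N * y * (zz N)⁻¹)⁻¹ * y = x⁻¹ := by rw [hx]; group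
    have hxX : x ∈ XX U K := by rw [hx'] at hd; exact (inv_mem_iff (H := XX U K)).mp hd
    have hxodd : ¬ W2 U K x := by
      rw [← h.W2_inv hK hxX, ← hx', ← h.ev_iff hK hsK hy hyX]
      exact hKodd
    have hyx := (h.y_facts hK hy hyX).2.2 x hxX
    have h3 : (y⁻¹ * zz N) * (y⁻¹ * zz N) = x * zz K := by
      have h4 : y⁻¹ * x⁻¹ * y = x := by
        rw [← hyx]; group
      calc (y⁻¹ * zz N) * (y⁻¹ * zz N) = (y⁻¹ * zz N) * (y⁻¹ * (zz N)⁻¹) := by rw [h.hyp.zz_inv hN]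
        _ = y⁻¹ * (y⁻¹ * (zz N * y * (zz N)⁻¹))⁻¹ * y * (y * y)⁻¹ := by group
        _ = x * (zz K)⁻¹ := by rw [← hx, h4, (h.y_facts hK hy hyX).1]
        _ = x * zz K := by rw [h.hyp.zz_inv hK]
    have h4 := h.ev_sq hL hu
    have hzX : zz K ∈ XX U K := by
      rw [← h.sq_eq hK hvK hv4]
      exact (XX U K).mul_mem (h.U_le_XX hK hvK) (h.U_le_XX hK hvK)
    have hz2 : W2 U K (zz K) := (h.W2_iff hK).mpr ⟨v, h.U_le_XX hK hvK, (h.sq_eq hK hvK hv4).symm⟩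
    rw [h3, h.ev_XX hA hK hvK hv hL hwL hw hw0 hw2 ((XX U K).mul_mem hxX hzX), h.W2_mul hK hxX hzX] at h4
    exact hxodd (h4.mpr hz2)
  have hconj : ∀ e : G, (e = w ∨ e = w⁻¹) → zz N * w * (zz N)⁻¹ = y * e * y⁻¹ → y⁻¹ * zz N ∈ normalizer (L : Set G) := by
    intro e he hse
    apply h.norm_of_norm_U hL hwL hw4
    have h3 : y⁻¹ * zz N * w * (y⁻¹ * zz N)⁻¹ = e := by
      calc y⁻¹ * zz N * w * (y⁻¹ * zz N)⁻¹ = y⁻¹ * (zz N * w * (zz N)⁻¹) * y := by group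
        _ = e := by rw [hse]; group
    rw [h3]
    rcases he with rfl | rfl
    · exact hwL
    · exact (U L).inv_mem hwL
  refine ⟨fun hh => ?_, fun hh => ?_, fun hh => ?_, fun hh => ?_⟩
  · have h3 := h.al_inverted hA hsA hv hsv hw.1
    rw [hh] at h3
    revert h0 h2 h3
    generalize al Om U v w = i
    revert i
    decide
  · obtain ⟨hsL, hLodd⟩ := hsEv hL hwL hw4 hh
    have h3 : zz N * rf Om U v w * (zz N)⁻¹ = (rf Om U v w)⁻¹ := by
      have h4 : zz N * rf Om U v w * (zz N)⁻¹ = (zz N * w * (zz N)⁻¹) * (zz N * pw v (-al Om U v w) * (zz N)⁻¹) := by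
        rw [rf]; group
      rw [h4, hh, conj_pw, hsv, pw_inv hv4, pw_neg hv4, rf, mul_inv_rev,
        h.comm hA (A.inv_mem hw.1) (A.inv_mem (pw_mem hv.1 _))]
    obtain ⟨hsM, hModd⟩ := hsEv hM hmM hm4 h3
    rw [h.ev_link hA hK hvK hv hL hwL hw hw0 hw2 hy hyX hsK hsL hsM] at hModd
    tauto
  · rw [← hrf w hw.1] at hh
    exact last (hconj w (Or.inl rfl) hh)
  · rw [← hrf w hw.1] at hh
    exact last (hconj w⁻¹ (Or.inr rfl) (by rw [hh]; group))

end CVW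

end Cfsg.Agent.Cit.CV
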