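import Cfsg.Agent.Cit.Nil.CV.SecTwo

/-!
# (6b)(CV), rank at least three, section 4 of helper599's text (shortened)

`TwoCV Om U` : the output of section 2; `ThreeCV Om U` : the output of section 3 (`zz N ∈ N(A)` implies `zz N ∈ A`).
`CVW.strongly` : the involutions of `A` form a strongly closed subset.
-/

set_option autoImplicit false
set_option linter.style.haveILetI false
set_option linter.unusedSectionVars false

namespace Cfsg.Agent.Cit.CV

open Subgroup Cfsg Cit Tau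

variable {G : Type*} [Group G] {Om : Set (Subgroup G)} {U : Subgroup G → Subgroup G} {A B K L N : Subgroup G}
  {a b e f g s t u v w x y : G}

/-- output of section 2 -/
structure TwoCV (Om : Set (Subgroup G)) (U : Subgroup G → Subgroup G) : Prop where
  cent : ∀ A, IsA Om U A → ∀ e ∈ A, e * e = 1 → e ≠ 1 → centralizer {e} ≤ normalizer (A : Set G)
  inf : ∀ A, IsA Om U A → ∀ B, IsA Om U B → A ≠ B → A ⊓ B = ⊥

/-- output of section 3 -/
def ThreeCV (Om : Set (Subgroup G)) (U : Subgroup G → Subgroup G) : Prop :=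
  ∀ A, IsA Om U A → ∀ N ∈ Om, zz N ∈ normalizer (A : Set G) → zz N ∈ A

theorem twoCV_of [Finite G] (h : CVW Om U) (hn : NilCV Om U) (hr : ∀ A, IsA Om U A → RkThree Om U A)
    (hne : ∀ A, IsA Om U A → (RR Om U A).Nonempty) : TwoCV Om U :=
  ⟨fun A hA _ he he2 he1 => h.cent_le hn hA (hr A hA) (hne A hA) he he2 he1,
    fun A hA _ hB hAB => h.inf_bot hn hA (hr A hA) (hne A hA) hB hAB⟩

namespace CVW

variable [Finite G]

/-- G2 bonds: `v w²` is a root -/
theorem gTwo_mem (h : CVW Om U) (hA : IsA Om U A) (hv : v ∈ RR Om U A) (hw : w ∈ RR Om U A) (hl : Lk Om U v w)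
    (hg : al Om U w v = -al Om U v w) : w * w * v ∈ RR Om U A := by
  have hm := h.rf_mem hA hv hw
  have ht := h.rf_mem hA hw hm
  have h1 : al Om U w (rf Om U v w) = -1 := by
    rw [h.al_rf_left hA hv hw hw.1, h.al_self hA hw, hg]
    rw [lk_iff] at hl
    rcases hl with hl | hl <;> rw [hl] <;> decide
  have h2 : rf Om U w (rf Om U v w) = w * w * pw v (-al Om U v w) := by
    rw [rf, h1, neg_neg, pw_one, rf]
    calc w * pw v (-al Om U v w) * w = w * (pw v (-al Om U v w) * w) := by group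
      _ = w * w * pw v (-al Om U v w) := by rw [h.comm hA (pw_mem hv.1 _) hw.1]; group
  rw [h2] at ht
  rcases (lk_iff _ _).mp hl with h3 | h3
  · rw [h3, pw_neg_one hv.2.1] at ht
    have h4 := RR_inv ht
    rwa [mul_inv_rev, inv_inv, mul_inv_rev, sq_inv hw, h.comm hA hv.1 (A.mul_mem hw.1 hw.1)] at h4
  · rwa [h3, neg_neg, pw_one] at ht

/-- G2 bonds: a root linked to `w` and orthogonal to `v` is `± v w²` -/
theorem gTwo_orth (h : CVW Om U) (hA : IsA Om U A) (hv : v ∈ RR Om U A) (hw : w ∈ RR Om U A) (hl : Lk Om U v w)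
    (hg : al Om U w v = -al Om U v w) (hu : u ∈ RR Om U A) (huw : Lk Om U u w) (huv : al Om U u v = 0) :
    u * u = v * v := by
  have ht := h.gTwo_mem hA hv hw hl hg
  have h1 : al Om U u (w * w * v) = 2 := by
    rw [h.al_mul hA hu (A.mul_mem hw.1 hw.1) hv.1, h.al_sq hA hu hw.1, huv, add_zero, (lk_iff' _ _).mp huw]
  have h2 : w * w * v * (w * w * v) = v * v := by
    have h3 : w ^ 4 = 1 := by rw [← hw.2.1]; exact pow_orderOf_eq_one w
    calc w * w * v * (w * w * v) = w * w * (v * (w * w)) * v := by group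
      _ = w * w * (w * w * v) * v := by rw [h.comm hA hv.1 (A.mul_mem hw.1 hw.1)]
      _ = w ^ 4 * (v * v) := by simp [pow_succ, mul_assoc]
      _ = v * v := by rw [h3, one_mul]
  rcases h.al_two hA hu ht h1 with h3 | h3
  · rw [← h3, h2]
  · rw [← sq_inv hu, ← h3, h2]

section moved

variable (h : CVW Om U) (hA : IsA Om U A) (ht : t ∈ normalizer (A : Set G)) (ht2 : t * t = 1)
  (hfix : ∀ v ∈ RR Om U A, t * (v * v) * t⁻¹ ≠ v * v)
include h hA ht ht2 hfix

theorem conj_conj' (a : G) : t * (t * a * t⁻¹) * t⁻¹ = a := by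
  calc t * (t * a * t⁻¹) * t⁻¹ = (t * t) * a * (t * t)⁻¹ := by group
    _ = a := by rw [ht2]; group

/-- `v` and `t v t⁻¹` are orthogonal -/
theorem moved_one (hv : v ∈ RR Om U A) : al Om U v (t * v * t⁻¹) = 0 := by
  have hv' := h.RR_conj ht hv
  by_contra h0
  by_cases h2 : al Om U v (t * v * t⁻¹) = 2
  · have h3 : t * v * t⁻¹ * (t * v * t⁻¹) = v * v := by
      rcases h.al_two hA hv hv' h2 with h3 | h3
      · rw [h3]
      · rw [h3, sq_inv hv]
    apply hfix v hv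
    rw [show t * (v * v) * t⁻¹ = t * v * t⁻¹ * (t * v * t⁻¹) by group]
    exact h3
  · have hl : Lk Om U v (t * v * t⁻¹) := ⟨h0, h2⟩
    have hm := h.rf_mem hA hv hv'
    have h3 := h.sq_rf hA hv hv' hl
    apply hfix _ hm
    rw [h3]
    have h4 : t * (t * v * t⁻¹ * (t * v * t⁻¹) * (v * v)) * t⁻¹ =
        (t * (t * v * t⁻¹) * t⁻¹) * (t * (t * v * t⁻¹) * t⁻¹) * ((t * v * t⁻¹) * (t * v * t⁻¹)) := by group
    rw [h4, h.conj_conj' hA ht ht2 hfix]
    exact h.comm hA (A.mul_mem hv.1 hv.1) (A.mul_mem hv'.1 hv'.1)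

/-- no root is linked to `v` and to `t v t⁻¹` -/
theorem moved_two (hv : v ∈ RR Om U A) (hw : w ∈ RR Om U A) (hl : Lk Om U v w) : al Om U w (t * v * t⁻¹) = 0 := by
  have hv' := h.RR_conj ht hv
  have hw' := h.RR_conj ht hw
  have hlw := h.lk_symm hA hv hw hl
  have o1 := h.moved_one hA ht ht2 hfix hv
  have o2 := h.moved_one hA ht ht2 hfix hw
  by_contra h0
  have h2 : al Om U w (t * v * t⁻¹) ≠ 2 := by
    intro h2
    rcases h.al_two hA hw hv' h2 with h3 | h3
    · rw [h3] at o1; exact hl.1 o1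
    · rw [h3, h.al_inv hA hv hw.1, neg_eq_zero] at o1; exact hl.1 o1
  have hlv' : Lk Om U w (t * v * t⁻¹) := ⟨h0, h2⟩
  have hlv'w := h.lk_symm hA hw hv' hlv'
  -- no G2 bonds
  have g1 : al Om U w v = al Om U v w := by
    rcases h.al_odd_symm hA hv hw hl.1 hl.2 with h3 | h3
    · exact h3
    · exfalso
      have h4 := h.gTwo_orth hA hv hw hl h3 hv' hlv'w (h.al_zero_symm hA hv hv' o1)
      apply hfix v hv
      rw [← h4]
      have h5 : t * (t * v * t⁻¹ * (t * v * t⁻¹)) * t⁻¹ = (t * (t * v * t⁻¹) * t⁻¹) * (t * (t * v * t⁻¹) * t⁻¹) := by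
        group
      rw [h5, h.conj_conj' hA ht ht2 hfix, h4]
  have g2 : al Om U w (t * v * t⁻¹) = al Om U (t * v * t⁻¹) w := by
    rcases h.al_odd_symm hA hv' hw hlv'w.1 hlv'w.2 with h3 | h3
    · exact h3
    · exfalso
      have h4 := h.gTwo_orth hA hv' hw hlv'w h3 hv hl o1
      apply hfix v hv
      rw [h4]
      have h5 : t * (t * v * t⁻¹ * (t * v * t⁻¹)) * t⁻¹ = (t * (t * v * t⁻¹) * t⁻¹) * (t * (t * v * t⁻¹) * t⁻¹) := by
        group
      rw [h5, h.conj_conj' hA ht ht2 hfix, h4]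
  -- transport
  have c1 : al Om U (t * v * t⁻¹) (t * w * t⁻¹) = al Om U v w := h.al_conj hA ht hv hw.1
  have c2 : al Om U (t * w * t⁻¹) (t * v * t⁻¹) = al Om U w v := h.al_conj hA ht hw hv.1
  have c3 : al Om U v (t * w * t⁻¹) = al Om U (t * v * t⁻¹) w := by
    have := h.al_conj hA ht hv' hw.1
    rwa [h.conj_conj' hA ht ht2 hfix] at this
  -- `M = rf w v`, `t M t⁻¹ = rf w' v'`
  have hM := h.rf_mem hA hw hv
  have hM' := h.moved_one hA ht ht2 hfix hM
  have e1 : t * rf Om U w v * t⁻¹ = (t * v * t⁻¹) * pw (t * w * t⁻¹) (-al Om U w v) := by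
    rw [← conj_pw, rf]; group
  rw [h.al_rf' hA hw hv (h.RR_conj ht hM).1, e1, h.al_mul hA hv hv'.1 (pw_mem hw'.1 _), h.al_pw hA hv hw'.1,
    h.al_mul hA hw hv'.1 (pw_mem hw'.1 _), h.al_pw hA hw hw'.1, o1, o2, c3, g2, g1] at hM'
  rw [lk_iff] at hl hlv'w
  rcases hl with h3 | h3 <;> rcases hlv'w with h4 | h4 <;> rw [h3, h4] at hM' <;> exact absurd hM' (by decide)

end moved

/-- an involution of `B` moves all `v * v`, `v` a root of `A ≠ B` -/
theorem not_fix (h : CVW Om U) (h2 : TwoCV Om U) (h3 : ThreeCV Om U) (hA : IsA Om U A) (hB : IsA Om U B)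
    (hAB : A ≠ B) (htB : t ∈ B) (ht2 : t * t = 1) (ht1 : t ≠ 1) (hv : v ∈ RR Om U A) : t * (v * v) * t⁻¹ ≠ v * v := by
  intro he
  obtain ⟨hvA, hv4, K, hK, hvK⟩ := id hv
  have h4 : v * v ∈ centralizer {t} := by
    rw [mem_centralizer_singleton_iff]
    exact (mul_inv_eq_iff_eq_mul.mp he).symm
  have h5 := h2.cent B hB t htB ht2 ht1 h4
  rw [h.sq_eq hK hvK hv4] at h5
  have h6 := h3 B hB K hK h5
  rw [← h.sq_eq hK hvK hv4] at h6
  have h7 : v * v ∈ A ⊓ B := ⟨A.mul_mem hvA hvA, h6⟩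
  rw [h2.inf A hA B hB hAB, mem_bot] at h7
  exact sq_ne_one hv h7

/-- `B ∩ N(A)` contains at most one involution -/
theorem inv_unique (h : CVW Om U) (h2 : TwoCV Om U) (h3 : ThreeCV Om U) (hA : IsA Om U A) (hB : IsA Om U B)
    (hAB : A ≠ B) (hv : v ∈ RR Om U A) (hw : w ∈ RR Om U A) (hl : Lk Om U v w) (htB : t ∈ B) (ht2 : t * t = 1)
    (ht1 : t ≠ 1) (htA : t ∈ normalizer (A : Set G)) (hyB : y ∈ B) (hy2 : y * y = 1) (hy1 : y ≠ 1)
    (hyA : y ∈ normalizer (A : Set G)) : t = y := by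
  by_contra hne
  have hty := h.comm hB htB hyB
  set u := v * v * (t * (v * v) * t⁻¹) with hu
  have hvv := A.mul_mem hv.1 hv.1
  have htv := (mem_normalizer_iff.mp htA _).mp hvv
  have huA : u ∈ A := A.mul_mem hvv htv
  -- `u` commutes with `t`
  have hut : t * u * t⁻¹ = u := by
    have e1 : t * u * t⁻¹ = (t * (v * v) * t⁻¹) * ((t * t) * (v * v) * (t * t)⁻¹) := by rw [hu]; group
    rw [e1, ht2, inv_one, mul_one, one_mul, h.comm hA htv hvv]
  have huB : u ∈ normalizer (B : Set G) := by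
    refine h2.cent B hB t htB ht2 ht1 ?_
    rw [mem_centralizer_singleton_iff]
    exact (mul_inv_eq_iff_eq_mul.mp hut).symm
  -- `u` commutes with `y`
  have huy : y * u * y⁻¹ = u := by
    have h4 : u * y * u⁻¹ * y⁻¹ ∈ A ⊓ B := by
      refine ⟨?_, B.mul_mem ((mem_normalizer_iff.mp huB _).mp hyB) (B.inv_mem hyB)⟩
      have e1 : u * y * u⁻¹ * y⁻¹ = u * (y * u⁻¹ * y⁻¹) := by group
      rw [e1]
      exact A.mul_mem huA ((mem_normalizer_iff.mp hyA _).mp (A.inv_mem huA))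
    rw [h2.inf A hA B hB hAB, mem_bot, mul_inv_eq_one, mul_inv_eq_iff_eq_mul] at h4
    rw [← h4, mul_inv_cancel_right]
  -- `al w u`
  have hft : ∀ v ∈ RR Om U A, t * (v * v) * t⁻¹ ≠ v * v := fun v hv => h.not_fix h2 h3 hA hB hAB htB ht2 ht1 hv
  have hfy : ∀ v ∈ RR Om U A, y * (v * v) * y⁻¹ ≠ v * v := fun v hv => h.not_fix h2 h3 hA hB hAB hyB hy2 hy1 hv
  have hyt2 : y * t * (y * t) = 1 := by
    calc y * t * (y * t) = y * (t * y) * t := by group
      _ = (y * y) * (t * t) := by rw [hty]; group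
      _ = 1 := by rw [hy2, ht2, one_mul]
  have hyt1 : y * t ≠ 1 := by
    intro h1
    apply hne
    have h4 : t = (y * y) * t := by rw [hy2, one_mul]
    rw [h4, mul_assoc, h1, mul_one]
  have hfyt : ∀ v ∈ RR Om U A, y * t * (v * v) * (y * t)⁻¹ ≠ v * v := fun v hv =>
    h.not_fix h2 h3 hA hB hAB (B.mul_mem hyB htB) hyt2 hyt1 hv
  have hytA : y * t ∈ normalizer (A : Set G) := mul_mem hyA htA
  have e2 : al Om U w u = 2 := by
    have e3 : u = v * v * (t * v * t⁻¹ * (t * v * t⁻¹)) := by rw [hu]; group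
    have hv' := h.RR_conj htA hv
    rw [e3, h.al_mul hA hw hvv (A.mul_mem hv'.1 hv'.1), h.al_sq hA hw hv.1, h.al_sq hA hw hv'.1,
      h.moved_two hA htA ht2 hft hv hw hl, (lk_iff' _ _).mp (h.lk_symm hA hv hw hl)]
    decide
  have e4 : al Om U w (y * u * y⁻¹) = 0 := by
    have hv1 := h.RR_conj hyA hv
    have hv2 := h.RR_conj hytA hv
    have e3 : y * u * y⁻¹ = y * v * y⁻¹ * (y * v * y⁻¹) * (y * t * v * (y * t)⁻¹ * (y * t * v * (y * t)⁻¹)) := by
      rw [hu]; group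
    rw [e3, h.al_mul hA hw (A.mul_mem hv1.1 hv1.1) (A.mul_mem hv2.1 hv2.1), h.al_sq hA hw hv1.1, h.al_sq hA hw hv2.1,
      h.moved_two hA hyA hy2 hfy hv hw hl, h.moved_two hA hytA hyt2 hfyt hv hw hl]
    decide
  rw [huy, e2] at e4
  exact absurd e4 (by decide)

/-- **no involution of `B` normalises `A ≠ B`** -/
theorem no_inv (h : CVW Om U) (h2 : TwoCV Om U) (h3 : ThreeCV Om U)
    (hlk : ∀ A, IsA Om U A → ∃ v ∈ RR Om U A, ∃ w ∈ RR Om U A, Lk Om U v w) (hA : IsA Om U A) (hB : IsA Om U B)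
    (hAB : A ≠ B) (htB : t ∈ B) (ht2 : t * t = 1) (htA : t ∈ normalizer (A : Set G)) : t = 1 := by
  by_contra ht1
  obtain ⟨v, hv, w, hw, hl⟩ := hlk A hA
  obtain ⟨v', hv', w', hw', hl'⟩ := hlk B hB
  have hft : ∀ v ∈ RR Om U A, t * (v * v) * t⁻¹ ≠ v * v := fun v hv => h.not_fix h2 h3 hA hB hAB htB ht2 ht1 hv
  -- for each root `v`: the involution `v² (t v² t⁻¹)`
  have key : ∀ v ∈ RR Om U A, v * v * (t * (v * v) * t⁻¹) ∈ A ∧
      v * v * (t * (v * v) * t⁻¹) * (v * v * (t * (v * v) * t⁻¹)) = 1 ∧ v * v * (t * (v * v) * t⁻¹) ≠ 1 ∧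
      v * v * (t * (v * v) * t⁻¹) ∈ normalizer (B : Set G) := by
    intro v hv
    have hvv := A.mul_mem hv.1 hv.1
    have htv := (mem_normalizer_iff.mp htA _).mp hvv
    have h4 : v * v * (v * v) = 1 := by
      have h5 : v ^ 4 = 1 := by rw [← hv.2.1]; exact pow_orderOf_eq_one v
      rw [← h5]; simp [pow_succ, mul_assoc]
    refine ⟨A.mul_mem hvv htv, ?_, ?_, ?_⟩
    · calc v * v * (t * (v * v) * t⁻¹) * (v * v * (t * (v * v) * t⁻¹))
          = v * v * ((t * (v * v) * t⁻¹) * (v * v)) * (t * (v * v) * t⁻¹) := by group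
        _ = v * v * (v * v) * (t * (v * v * (v * v)) * t⁻¹) := by rw [h.comm hA htv hvv]; group
        _ = 1 := by rw [h4, mul_one, mul_inv_cancel, mul_one]
    · intro h1
      apply hft v hv
      exact mul_left_cancel (h1.trans h4.symm)
    · refine h2.cent B hB t htB ht2 ht1 ?_
      rw [mem_centralizer_singleton_iff]
      have e1 : t * (v * v * (t * (v * v) * t⁻¹)) * t⁻¹ = (t * (v * v) * t⁻¹) * ((t * t) * (v * v) * (t * t)⁻¹) := by
        group
      rw [ht2, inv_one, mul_one, one_mul, h.comm hA htv hvv] at e1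
      exact (mul_inv_eq_iff_eq_mul.mp e1).symm
  obtain ⟨a1, a2, a3, a4⟩ := key v hv
  obtain ⟨b1, b2, b3, b4⟩ := key w hw
  have heq := h.inv_unique h2 h3 hB hA (Ne.symm hAB) hv' hw' hl' a1 a2 a3 a4 b1 b2 b3 b4
  -- compare `al w`
  have hlw := h.lk_symm hA hv hw hl
  have e2 : al Om U w (v * v * (t * (v * v) * t⁻¹)) = 2 := by
    have e3 : v * v * (t * (v * v) * t⁻¹) = v * v * (t * v * t⁻¹ * (t * v * t⁻¹)) := by group
    have hv' := h.RR_conj htA hv
    rw [e3, h.al_mul hA hw (A.mul_mem hv.1 hv.1) (A.mul_mem hv'.1 hv'.1), h.al_sq hA hw hv.1, h.al_sq hA hw hv'.1,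
      h.moved_two hA htA ht2 hft hv hw hl, (lk_iff' _ _).mp hlw]
    decide
  have e4 : al Om U w (w * w * (t * (w * w) * t⁻¹)) = 0 := by
    have e3 : w * w * (t * (w * w) * t⁻¹) = w * w * (t * w * t⁻¹ * (t * w * t⁻¹)) := by group
    have hw' := h.RR_conj htA hw
    rw [e3, h.al_mul hA hw (A.mul_mem hw.1 hw.1) (A.mul_mem hw'.1 hw'.1), h.al_sq hA hw hw.1, h.al_sq hA hw hw'.1,
      h.moved_one hA htA ht2 hft hw, h.al_self hA hw]
    decide
  rw [heq, e4] at e2
  exact absurd e2 (by decide)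

end CVW

end Cfsg.Agent.Cit.CV
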