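import Cfsg.Agent.Cit.Nil.CV.SecOne

/-!
# (6b)(CV), rank at least three, section 2 of helper599's text

`OT e` = `O_2(C(e))`; `NilCV Om U` : output of the induction and of section 1: `v ∈ O_2(C(e))` if `al v e = 0`.
`CVW.cent_le` : `C(e) ≤ N(A)` for the involutions `e` of `A`; `CVW.inf_bot` : `A ⊓ B = 1` for `A ≠ B`.
-/

set_option autoImplicit false
set_option linter.style.haveILetI false
set_option linter.unusedSectionVars false

namespace Cfsg.Agent.Cit.CV

open Subgroup Cfsg Cit Tau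

variable {G : Type*} [Group G] {Om : Set (Subgroup G)} {U : Subgroup G → Subgroup G} {A B K L N : Subgroup G}
  {a b e f g s t u v w x y : G}

/-- `O_2(C(e))` -/
def OT (e : G) : Subgroup G := (pCore 2 (centralizer ({e} : Set G))).map (centralizer ({e} : Set G)).subtype

theorem OT_le (e : G) : OT e ≤ centralizer {e} := map_subtype_le _

theorem OT_two (e : G) : IsPGroup 2 (OT e) := (Lib.Cores.pCore_isPGroup 2).map _

theorem OT_norm (e : G) : centralizer {e} ≤ normalizer (OT e : Set G) := by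
  have h1 : ((OT e).subgroupOf (centralizer {e})).Normal := by
    rw [OT, subgroupOf, comap_map_eq_self_of_injective (centralizer ({e} : Set G)).subtype_injective]
    exact Lib.Cores.pCore_normal 2
  exact (normal_subgroupOf_iff_le_normalizer (OT_le e)).1 h1

/-- output of the induction and of section 1 -/
def NilCV (Om : Set (Subgroup G)) (U : Subgroup G → Subgroup G) : Prop :=
  ∀ A, IsA Om U A → ∀ e ∈ A, e * e = 1 → e ≠ 1 → ∀ v ∈ RR Om U A, al Om U v e = 0 → v ∈ OT e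

/-- the literal output of the induction: every root `v` of `A` with `al v e = 0` lies in `O_2(C(e))`, in a component `L2(q)` or
in a component `L3(q)`, `U3(q)` of `C(e)` -/
def IndCV (Om : Set (Subgroup G)) (U : Subgroup G → Subgroup G) : Prop :=
  ∀ A, IsA Om U A → ∀ e ∈ A, e * e = 1 → e ≠ 1 → ∀ v ∈ RR Om U A, al Om U v e = 0 →
    v ∈ OT e ∨ LTwo Om U A e v ∨ ∃ v₂ v₃, LThree Om U A e v v₂ v₃

theorem nilCV_of [Finite G] (h : CVW Om U) (hr : ∀ A, IsA Om U A → RkThree Om U A) (hi : IndCV Om U) : NilCV Om U := by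
  intro A hA e he he2 he1 v hv hve
  rcases hi A hA e he he2 he1 v hv hve with h1 | h1 | ⟨v₂, v₃, h1⟩
  · exact h1
  · obtain ⟨w, hw, -, -, hl, -⟩ := hr A hA v hv
    exact (h.not_lTwo hA hv hw hl he hve h1 he2).elim
  · exact (h.not_lThree hA (hr A hA) h1 he he2).elim

namespace CVW

variable [Finite G]

/-- a 2-element centralising a root or normalising `A` -/
theorem sup_two (hA : IsA Om U A) {P : Subgroup G} (hP : IsPGroup 2 P) (hn : P ≤ normalizer (A : Set G)) :
    IsPGroup 2 (P ⊔ A : Subgroup G) := hP.to_sup_of_normal_right' (isA_two hA) hn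

/-- two weak closures normalising each other on one side are equal -/
theorem eq_of_le_norm (h : CVW Om U) (hA : IsA Om U A) (hB : IsA Om U B) (hn : B ≤ normalizer (A : Set G)) : A = B := by
  have h1 := sup_two hA (isA_two hB) hn
  rw [← h.WW_eq hA h1 le_sup_right, h.WW_eq hB h1 le_sup_left]

/-- roots normalising `A` lie in `A` -/
theorem root_mem (h : CVW Om U) (hA : IsA Om U A) (hv : orderOf v = 4) (hK : K ∈ Om) (hvK : v ∈ U K)
    (hn : v ∈ normalizer (A : Set G)) : v ∈ A := by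
  have hP : IsPGroup 2 (zpowers v) := by
    apply IsPGroup.of_card (n := 2)
    rw [Nat.card_zpowers, hv]
    norm_num
  have h1 := sup_two hA hP ((zpowers_le).2 hn)
  have h2 := h.WW_eq hA h1 le_sup_right
  rw [← h2]
  exact subset_closure ⟨mem_sup_left (mem_zpowers v), hv, K, hK, hvK⟩

/-- `W(O_2(C(e))) ≤ A` -/
theorem WW_OT_le (h : CVW Om U) (hA : IsA Om U A) (he : e ∈ A) : WW Om U (OT e) ≤ A := by
  have h1 : A ≤ centralizer {e} := fun a ha => mem_centralizer_singleton_iff.mpr (h.comm hA ha he)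
  have h2 : IsPGroup 2 (A ⊔ OT e : Subgroup G) := (isA_two hA).to_sup_of_normal_right' (OT_two e) (h1.trans (OT_norm e))
  rw [← h.WW_eq hA h2 le_sup_left]
  exact WW_mono le_sup_right

theorem WW_OT_norm (h : CVW Om U) (e : G) : centralizer {e} ≤ normalizer (WW Om U (OT e) : Set G) :=
  (OT_norm e).trans (h.normalizer_le _)

/-- (2a) -/
theorem cent_four_le (h : CVW Om U) (hn : NilCV Om U) (hA : IsA Om U A) (he : e ∈ A) (he2 : e * e = 1) (he1 : e ≠ 1)
    (hf : f ∈ A) (hf2 : f * f = 1) (hf1 : f ≠ 1) (hef : e ≠ f) :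
    centralizer {e} ⊓ centralizer {f} ≤ normalizer (A : Set G) := by
  have hc := h.comm hA he hf
  have hm : e * f ∈ A := A.mul_mem he hf
  have hm2 : e * f * (e * f) = 1 := by
    calc e * f * (e * f) = e * (f * e) * f := by group
      _ = e * e * (f * f) := by rw [← hc]; group
      _ = 1 := by rw [he2, hf2, one_mul]
  have hm1 : e * f ≠ 1 := by
    intro hh
    apply hef
    rw [eq_inv_of_mul_eq_one_left hh]
    exact inv_eq_of_mul_eq_one_right hf2
  -- the subgroup generated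
  set D := WW Om U (OT e) ⊔ WW Om U (OT f) ⊔ WW Om U (OT (e * f)) with hD
  have hDA : D ≤ A := sup_le (sup_le (h.WW_OT_le hA he) (h.WW_OT_le hA hf)) (h.WW_OT_le hA hm)
  have hAD : A ≤ D := by
    have h1 : closure (RR Om U A) ≤ D := by
      rw [closure_le]
      intro v hv
      have h2 := h.al_mul hA hv he hf
      have h3 := h.al_of_sq hA hv he he2
      have h4 := h.al_of_sq hA hv hf hf2
      have h5 : al Om U v e = 0 ∨ al Om U v f = 0 ∨ al Om U v (e * f) = 0 := by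
        rcases h3 with h3 | h3
        · exact Or.inl h3
        · rcases h4 with h4 | h4
          · exact Or.inr (Or.inl h4)
          · right; right
            rw [h2, h3, h4]; decide
      rcases h5 with h5 | h5 | h5
      · exact mem_sup_left (mem_sup_left (subset_closure ⟨hn A hA e he he2 he1 v hv h5, hv.2⟩))
      · exact mem_sup_left (mem_sup_right (subset_closure ⟨hn A hA f hf hf2 hf1 v hv h5, hv.2⟩))
      · exact mem_sup_right (subset_closure ⟨hn A hA _ hm hm2 hm1 v hv h5, hv.2⟩)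
    have h2 : closure (RR Om U A) = A := WW_self hA
    rwa [h2] at h1
  have hAeq : A = D := le_antisymm hAD hDA
  intro g hg
  have g1 := mem_normalizer_iff_cj.mp (h.WW_OT_norm e hg.1)
  have g2 := mem_normalizer_iff_cj.mp (h.WW_OT_norm f hg.2)
  have hgm : g ∈ centralizer {e * f} := by
    have k1 := mem_centralizer_singleton_iff.mp hg.1
    have k2 := mem_centralizer_singleton_iff.mp hg.2
    rw [mem_centralizer_singleton_iff]
    exact ((show Commute g e from k1).mul_right k2).eq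
  have g3 := mem_normalizer_iff_cj.mp (h.WW_OT_norm (e * f) hgm)
  rw [mem_normalizer_iff_cj, hAeq, hD, cj_sup, cj_sup, g1, g2, g3]

/-- two different roots in `O_2(C(e))` -/
theorem exists_two (h : CVW Om U) (hA : IsA Om U A) (hr : RkThree Om U A) (hne : (RR Om U A).Nonempty) (he : e ∈ A)
    (he2 : e * e = 1) : ∃ v ∈ RR Om U A, ∃ x ∈ RR Om U A, al Om U v e = 0 ∧ al Om U x e = 0 ∧ x ≠ v ∧ x ≠ v⁻¹ := by
  -- a first root
  obtain ⟨v, hv, hve⟩ : ∃ v ∈ RR Om U A, al Om U v e = 0 := by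
    obtain ⟨v, hv⟩ := hne
    rcases h.al_of_sq hA hv he he2 with h1 | h1
    · exact ⟨v, hv, h1⟩
    obtain ⟨w, hw, -, -, hl, -⟩ := hr v hv
    rcases h.al_of_sq hA hw he he2 with h2 | h2
    · exact ⟨w, hw, h2⟩
    refine ⟨rf Om U v w, h.rf_mem hA hv hw, ?_⟩
    rw [h.al_rf' hA hv hw he, h1, h2, (lk_iff' _ _).mp (h.lk_symm hA hv hw hl)]; decide
  -- G2 bonds at `v`
  by_cases hG : ∃ w ∈ RR Om U A, Lk Om U v w ∧ al Om U w v = -al Om U v w
  · obtain ⟨w, hw, hl, hg⟩ := hG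
    obtain ⟨t, ht, -, t1, t2, t3, -⟩ := h.gTwo hA hv hw hl hg
    exact ⟨v, hv, t, ht, hve, t3 e he hve he2, t1, t2⟩
  have hsym : ∀ w ∈ RR Om U A, Lk Om U v w → al Om U w v = al Om U v w := by
    intro w hw hl
    rcases h.al_odd_symm hA hv hw hl.1 hl.2 with h1 | h1
    · exact h1
    · exact absurd ⟨w, hw, hl, h1⟩ hG
  obtain ⟨w, hw, u, hu, hlw, hlu, n1, n2, n3, n4⟩ := hr v hv
  have hvne : ∀ x ∈ RR Om U A, Lk Om U v x → x ≠ v ∧ x ≠ v⁻¹ := by
    intro x hx hl
    refine ⟨?_, ?_⟩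
    · rintro rfl; exact hl.2 (h.al_self hA hv)
    · rintro rfl
      apply hl.2
      rw [h.al_inv hA hv hv.1, h.al_self hA hv]; decide
  rcases h.al_of_sq hA hw he he2 with c1 | c1
  · exact ⟨v, hv, w, hw, hve, c1, hvne w hw hlw⟩
  rcases h.al_of_sq hA hu he he2 with c2 | c2
  · exact ⟨v, hv, u, hu, hve, c2, hvne u hu hlu⟩
  -- the two candidates
  have hm := h.rf_mem hA hv hw
  have cm : al Om U (rf Om U v w) e = 2 := by rw [h.al_rf' hA hv hw he, hve, c1, zero_mul, sub_zero]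
  have hinv : ∀ {p a : G}, p ∈ RR Om U A → a ∈ A → rf Om U p a⁻¹ = (rf Om U p a)⁻¹ := by
    intro p a hp ha
    rw [rf, rf, h.al_inv hA hp ha, neg_neg, mul_inv_rev, pw_neg hp.2.1, inv_inv,
      h.comm hA (A.inv_mem ha) (pw_mem hp.1 _)]
  -- `rf p v` for symmetric bonds
  have hrfv : ∀ p ∈ RR Om U A, Lk Om U v p → rf Om U p v = rf Om U v p ∨ rf Om U p v = (rf Om U v p)⁻¹ := by
    intro p hp hl
    rw [rf, rf, hsym p hp hl]
    have hc := h.comm hA hv.1 hp.1
    rcases (lk_iff _ _).mp hl with h1 | h1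
    · right
      rw [h1, pw_neg_one hp.2.1, pw_neg_one hv.2.1, mul_inv_rev, inv_inv]
    · left
      rw [h1, neg_neg, pw_one, pw_one, hc]
  have fin : ∀ p ∈ RR Om U A, al Om U p e = 2 → Lk Om U p u → Lk Om U v p → (rf Om U v p = w ∨ rf Om U v p = w⁻¹ ∨
      rf Om U v p = rf Om U v w ∨ rf Om U v p = (rf Om U v w)⁻¹) →
      ∃ v ∈ RR Om U A, ∃ x ∈ RR Om U A, al Om U v e = 0 ∧ al Om U x e = 0 ∧ x ≠ v ∧ x ≠ v⁻¹ := by
    intro p hp cp hpu hlp hcase
    have hx := h.rf_mem hA hp hu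
    have hxe : al Om U (rf Om U p u) e = 0 := by
      rw [h.al_rf' hA hp hu he, c2, cp, (lk_iff' _ _).mp (h.lk_symm hA hp hu hpu)]; decide
    have hu' : ∀ q : G, q ∈ A → rf Om U p u = q → u = rf Om U p q := by
      intro q hq hh
      rw [← hh, h.rf_rf hA hp hu.1]
    have hmain : u ≠ rf Om U p v ∧ u ≠ (rf Om U p v)⁻¹ := by
      rcases hrfv p hp hlp with h1 | h1 <;> rw [h1] <;> rcases hcase with h2 | h2 | h2 | h2 <;> rw [h2] <;>
        (try simp only [inv_inv]) <;> tauto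
    refine ⟨v, hv, _, hx, hve, hxe, fun hh => hmain.1 (hu' v hv.1 hh), fun hh => hmain.2 ?_⟩
    rw [hu' v⁻¹ (A.inv_mem hv.1) hh, hinv hp hv.1]
  by_cases hwu : Lk Om U w u
  · exact fin w hw c1 hwu hlw (Or.inr (Or.inr (Or.inl rfl)))
  · have hwu0 : al Om U w u = 0 := by
      by_contra h0
      apply hwu
      refine ⟨h0, fun h2 => ?_⟩
      rcases h.al_two hA hw hu h2 with h3 | h3
      · exact n1 h3
      · exact n2 h3
    have huw0 := h.al_zero_symm hA hw hu hwu0
    refine fin (rf Om U v w) hm cm ?_ ?_ (Or.inl (h.rf_rf hA hv hw.1))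
    · apply h.lk_symm hA hu hm
      unfold Lk
      rw [h.al_rf_left hA hv hu hw.1, huw0, hsym u hu hlu]
      rcases (lk_iff _ _).mp hlw with h1 | h1 <;> rcases (lk_iff _ _).mp hlu with h2 | h2 <;> rw [h1, h2] <;> decide
    · unfold Lk
      rw [h.al_rf_left hA hv hv hw.1, h.al_self hA hv]
      rcases (lk_iff _ _).mp hlw with h1 | h1 <;> rw [h1] <;> decide

/-- **(2b)** `C(e) ≤ N(A)` -/
theorem cent_le (h : CVW Om U) (hn : NilCV Om U) (hA : IsA Om U A) (hr : RkThree Om U A) (hne : (RR Om U A).Nonempty)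
    (he : e ∈ A) (he2 : e * e = 1) (he1 : e ≠ 1) : centralizer {e} ≤ normalizer (A : Set G) := by
  obtain ⟨v, hv, x, hx, hve, hxe, n1, n2⟩ := h.exists_two hA hr hne he he2
  set B := WW Om U (OT e) with hB
  have hvB : v ∈ B := subset_closure ⟨hn A hA e he he2 he1 v hv hve, hv.2⟩
  have hxB : x ∈ B := subset_closure ⟨hn A hA e he he2 he1 x hx hxe, hx.2⟩
  have hBA : B ≤ A := h.WW_OT_le hA he
  -- a four-group in `B`
  obtain ⟨f₁, hf₁, f₂, hf₂, k1, k2, k3, k4, k5⟩ : ∃ f₁ ∈ B, ∃ f₂ ∈ B, f₁ * f₁ = 1 ∧ f₁ ≠ 1 ∧ f₂ * f₂ = 1 ∧ f₂ ≠ 1 ∧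
      f₁ ≠ f₂ := by
    have h4 : ∀ {w : G}, w ∈ RR Om U A → w * w * (w * w) = 1 := by
      intro w hw
      have h3 : w ^ 4 = 1 := by rw [← hw.2.1]; exact pow_orderOf_eq_one w
      have h4 : w * w * (w * w) = w ^ 4 := by simp [pow_succ, mul_assoc]
      rw [h4, h3]
    by_cases hsq : x * x = v * v
    · have hc := h.comm hA hv.1 hx.1
      refine ⟨v * v, B.mul_mem hvB hvB, x * v, B.mul_mem hxB hvB, h4 hv, sq_ne_one hv, ?_, ?_, ?_⟩
      · calc x * v * (x * v) = x * (v * x) * v := by group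
          _ = x * x * (v * v) := by rw [hc]; group
          _ = 1 := by rw [hsq, h4 hv]
      · intro hh
        exact n2 (eq_inv_of_mul_eq_one_left hh)
      · intro hh
        exact n1 (mul_right_cancel hh).symm
    · exact ⟨v * v, B.mul_mem hvB hvB, x * x, B.mul_mem hxB hxB, h4 hv, sq_ne_one hv, h4 hx, sq_ne_one hx,
        fun hh => hsq hh.symm⟩
  intro g hg
  have hgB := mem_normalizer_iff_cj.mp (h.WW_OT_norm e hg)
  have hA' := h.isA_cj hA g
  have hBA' : B ≤ cj g A := by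
    have := cj_mono g hBA
    rwa [hgB] at this
  have h1 := h.cent_four_le hn hA' (hBA' hf₁) k1 k2 (hBA' hf₂) k3 k4 k5
  have h2 : A ≤ centralizer {f₁} ⊓ centralizer {f₂} := fun a ha =>
    ⟨mem_centralizer_singleton_iff.mpr (h.comm hA ha (hBA hf₁)), mem_centralizer_singleton_iff.mpr (h.comm hA ha (hBA hf₂))⟩
  rw [mem_normalizer_iff_cj]
  exact h.eq_of_le_norm hA' hA (h2.trans h1)

/-- **(2c)** -/
theorem inf_bot (h : CVW Om U) (hn : NilCV Om U) (hA : IsA Om U A) (hr : RkThree Om U A) (hne : (RR Om U A).Nonempty)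
    (hB : IsA Om U B) (hAB : A ≠ B) : A ⊓ B = ⊥ := by
  haveI : Fact (Nat.Prime 2) := ⟨Nat.prime_two⟩
  by_contra h0
  have h2 : IsPGroup 2 (A ⊓ B : Subgroup G) := (isA_two hA).to_le inf_le_left
  obtain ⟨n, hn'⟩ := IsPGroup.iff_card.1 h2
  have hn0 : n ≠ 0 := by
    rintro rfl
    rw [pow_zero, card_eq_one] at hn'
    exact h0 hn'
  have hdvd : 2 ∣ Nat.card (A ⊓ B : Subgroup G) := by rw [hn']; exact dvd_pow_self 2 hn0
  obtain ⟨⟨e, heAB⟩, ho⟩ := exists_prime_orderOf_dvd_card' 2 hdvd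
  rw [Subgroup.orderOf_mk] at ho
  have heA : e ∈ A := heAB.1
  have heB : e ∈ B := heAB.2
  have he2 : e * e = 1 := by rw [← pow_two, ← ho, pow_orderOf_eq_one]
  have he1 : e ≠ 1 := by
    rintro rfl
    rw [orderOf_one] at ho
    omega
  have h3 := h.cent_le hn hA hr hne heA he2 he1
  have h4 : B ≤ centralizer {e} := fun b hb => mem_centralizer_singleton_iff.mpr (h.comm hB hb heB)
  exact hAB (h.eq_of_le_norm hA hB (h4.trans h3))

end CVW

end Cfsg.Agent.Cit.CV
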