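import Cfsg.Agent.Cit.Nil.CV.TProdBase

/-!
# The abstract T-type product theorem: the configuration and Lemma A

`TP Z Z0 P O L`: every Sylow 2-subgroup `S` of `G` contains pairwise commuting independent subgroups `P S z`, `z ∈ Z0 S`,
whose involutions form `Z ∩ S`; the `P S w`, `w ≠ z`, are Sylow 2-subgroups of different components `L z w` of `C(z)`
(modulo the core `OC z` of `C(z)`), and `P S z` centralises these components.

LEMMA A: if `z ∈ Z0 S₁ ∩ Z0 S₂` and `u ∈ S₂` lies in the product `TT Z0 P S₁` then `u ∈ TT Z0 P S₂`.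
-/

set_option autoImplicit false
set_option linter.style.haveILetI false

namespace Cfsg.Agent.Cit.Nil.CV.TProd

open Subgroup Cfsg
open Cfsg.Agent.Cit

universe u

section defs

variable {G : Type u} [Group G]

/-- the odd core of `C(z)` -/
def OC (z : G) : Subgroup G := OO (centralizer {z})

/-- the subgroup generated by `Z0 S` -/
def ES (Z0 : Subgroup G → Set G) (S : Subgroup G) : Subgroup G := closure (Z0 S)

/-- the factors at `S` -/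
def PP (Z0 : Subgroup G → Set G) (P : Subgroup G → G → Subgroup G) (S : Subgroup G) : Z0 S → Subgroup G :=
  fun i => P S i

/-- the product of the factors at `S` -/
def TT (Z0 : Subgroup G → Set G) (P : Subgroup G → G → Subgroup G) (S : Subgroup G) : Subgroup G :=
  ⨆ i, PP Z0 P S i

/-- an equivalence relation for the involutions in `C(e)` -/
structure Blk (Z0 : Subgroup G → Set G) (O : G → G → Prop) (e : G) (r : G → G → Prop) : Prop where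
  symm : ∀ x y, r x y → r y x
  trans : ∀ x y z, r x y → r y z → r x z
  conj : ∀ g : G, g * e = e * g → ∀ x y, r x y → r (g * x * g⁻¹) (g * y * g⁻¹)
  orth : ∀ x y, r x y → ¬ O x y
  rep : ∀ S, Syl S ⊤ → e ∈ ES Z0 S → ∀ S', Syl S' ⊤ → e ∈ ES Z0 S' → ∀ z ∈ Z0 S', ∃ w ∈ Z0 S, r z w

/-- **The abstract configuration** -/
structure TP (Z : Set G) (Z0 : Subgroup G → Set G) (P : Subgroup G → G → Subgroup G) (O : G → G → Prop)
    (L : G → G → Subgroup G) : Prop where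
  z_sq : ∀ z ∈ Z, z * z = 1
  z_ne : ∀ z ∈ Z, z ≠ 1
  z_conj : ∀ z ∈ Z, ∀ g : G, g * z * g⁻¹ ∈ Z
  z0_sub : ∀ S, Syl S ⊤ → ∀ z ∈ Z0 S, z ∈ Z
  z0_conj : ∀ S, Syl S ⊤ → ∀ z ∈ Z0 S, ∀ g : G, g * z * g⁻¹ ∈ Z0 (cj g S)
  z0_nt : ∀ S, Syl S ⊤ → (Z0 S).Nontrivial
  p_conj : ∀ S, Syl S ⊤ → ∀ z ∈ Z0 S, ∀ x ∈ P S z, ∀ g : G, g * x * g⁻¹ ∈ P (cj g S) (g * z * g⁻¹)
  p_le : ∀ S, Syl S ⊤ → ∀ z ∈ Z0 S, P S z ≤ S
  p_mem : ∀ S, Syl S ⊤ → ∀ z ∈ Z0 S, z ∈ P S z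
  p_cen : ∀ S, Syl S ⊤ → ∀ z ∈ Z0 S, ∀ x ∈ P S z, x * z = z * x
  p_cen' : ∀ S, Syl S ⊤ → ∀ z ∈ Z0 S, ∀ x ∈ P S z, x * x = 1 → (∀ y ∈ P S z, x * y = y * x) → x = 1 ∨ x = z
  p_card : ∀ S, Syl S ⊤ → ∀ z ∈ Z0 S, 8 ≤ Nat.card (P S z)
  p_two : ∀ S, Syl S ⊤ → ∀ z ∈ Z0 S, ∃ x ∈ P S z, x * x = 1 ∧ x ≠ 1 ∧ x ≠ z
  p_comm : ∀ S, Syl S ⊤ → Comm (PP Z0 P S)
  p_indep : ∀ S, Syl S ⊤ → Indep (PP Z0 P S)
  p_Z : ∀ S, Syl S ⊤ → ∀ z ∈ Z0 S, ∀ x ∈ P S z, x * x = 1 → x ≠ 1 → x ∈ Z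
  z_part : ∀ S, Syl S ⊤ → ∀ x ∈ Z, x ∈ S → ∃ z ∈ Z0 S, x ∈ P S z
  o_symm : ∀ x y, O x y → O y x
  o_conj : ∀ x y, O x y → ∀ g : G, O (g * x * g⁻¹) (g * y * g⁻¹)
  o_iff : ∀ S, Syl S ⊤ → ∀ z ∈ Z0 S, ∀ w ∈ Z0 S, ∀ x ∈ P S z, ∀ y ∈ P S w, x ∈ Z → y ∈ Z → (O x y ↔ z ≠ w)
  ext : ∀ u : G, (∃ k : ℕ, u ^ 2 ^ k = 1) → ∀ J : Set G, (∀ x ∈ J, x ∈ Z ∧ u * x = x * u) → J.Pairwise O →
    ∃ S, Syl S ⊤ ∧ u ∈ S ∧ J ⊆ Z0 S
  stab : ∀ S, Syl S ⊤ → ∀ e ∈ ES Z0 S, e ≠ 1 → ∀ S', Syl S' ⊤ → (∀ x ∈ S, x * e = e * x → x ∈ S') → Z0 S ⊆ Z0 S'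
  blk : ∀ e : G, e ≠ 1 → (∃ S, Syl S ⊤ ∧ e ∈ ES Z0 S) → ∃ r : G → G → Prop, Blk Z0 O e r
  l_le : ∀ z w, O z w → L z w ≤ centralizer {z}
  l_core : ∀ z w, O z w → OC z ≤ L z w
  l_mem : ∀ z w, O z w → w ∈ L z w
  l_conj : ∀ z w, O z w → ∀ x ∈ L z w, ∀ g : G, g * x * g⁻¹ ∈ L (g * z * g⁻¹) (g * w * g⁻¹)
  l_cent : ∀ z w, O z w → ∀ x ∈ L z w, (∀ y ∈ L z w, x * y * x⁻¹ * y⁻¹ ∈ OC z) → x ∈ OC z
  l_comm : ∀ z w w', O z w → O z w' → O w w' → ∀ x ∈ L z w, ∀ y ∈ L z w', x * y * x⁻¹ * y⁻¹ ∈ OC z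
  l_rep : ∀ S, Syl S ⊤ → ∀ z ∈ Z0 S, ∀ w, O z w → ∃ w' ∈ Z0 S, w' ≠ z ∧ L z w = L z w'
  l_fus : ∀ z w w', O z w → O z w' → L z w = L z w' → ∃ a ∈ L z w, a * w * a⁻¹ = w'
  l_syl : ∀ S, Syl S ⊤ → ∀ z ∈ Z0 S, ∀ w ∈ Z0 S, z ≠ w → P S w ≤ L z w ∧ ¬ 2 ∣ (P S w).relIndex (L z w)
  l_triv : ∀ S, Syl S ⊤ → ∀ z ∈ Z0 S, ∀ w, O z w → ∀ x ∈ P S z, ∀ y ∈ L z w, x * y * x⁻¹ * y⁻¹ ∈ OC z

end defs

section oc

variable {G : Type u} [Group G]

theorem oc_le (z : G) : OC z ≤ centralizer {z} := OO_le _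

theorem oc_norm {z c x : G} (hc : c * z = z * c) (hx : x ∈ OC z) : c * x * c⁻¹ ∈ OC z :=
  (mem_normalizer_iff.1 (le_normalizer_OO _ (mem_centralizer_singleton_iff.2 hc)) x).1 hx

theorem oc_odd [Finite G] (z : G) : ¬ 2 ∣ Nat.card (OC z) := odd_OO _

theorem conj_eq_self {z c : G} (hc : c * z = z * c) : c * z * c⁻¹ = z := by rw [hc, mul_inv_cancel_right]

theorem comm_of_conj {z c : G} (hc : c * z * c⁻¹ = z) : c * z = z * c := by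
  calc c * z = c * z * c⁻¹ * c := by group
    _ = z * c := by rw [hc]

theorem inv_comm' {z c : G} (hc : c * z = z * c) : c⁻¹ * z = z * c⁻¹ := by
  have h : z * c⁻¹ = c⁻¹ * (c * z) * c⁻¹ := by group
  rw [h, hc]; group

theorem mul_comm' {z c d : G} (hc : c * z = z * c) (hd : d * z = z * d) : c * d * z = z * (c * d) := by
  rw [mul_assoc, hd, ← mul_assoc, hc, mul_assoc]

theorem cj_self {S : Subgroup G} {g : G} (hg : g ∈ S) : cj g S = S := mem_normalizer_iff_cj.1 (le_normalizer hg)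

theorem le_norm_sup {X A B : Subgroup G} (hA : X ≤ normalizer (A : Set G)) (hB : X ≤ normalizer (B : Set G)) :
    X ≤ normalizer ((A ⊔ B : Subgroup G) : Set G) := by
  intro g hg
  rw [mem_normalizer_iff_cj, cj_sup, mem_normalizer_iff_cj.1 (hA hg), mem_normalizer_iff_cj.1 (hB hg)]

/-- the elements centralising `L z w` modulo `OC z` -/
def CC (L : G → G → Subgroup G) (z w : G) : Subgroup G where
  carrier := {g | g * z = z * g ∧ ∀ y ∈ L z w, g * y * g⁻¹ * y⁻¹ ∈ OC z}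
  one_mem' := ⟨by group, fun y _ => by
    have e : (1 : G) * y * 1⁻¹ * y⁻¹ = 1 := by group
    rw [e]; exact one_mem _⟩
  mul_mem' := by
    rintro g g' ⟨h1, h2⟩ ⟨h3, h4⟩
    refine ⟨mul_comm' h1 h3, fun y hy => ?_⟩
    have e : g * g' * y * (g * g')⁻¹ * y⁻¹ = g * (g' * y * g'⁻¹ * y⁻¹) * g⁻¹ * (g * y * g⁻¹ * y⁻¹) := by group
    rw [e]
    exact mul_mem (oc_norm h1 (h4 y hy)) (h2 y hy)
  inv_mem' := by
    rintro g ⟨h1, h2⟩
    refine ⟨inv_comm' h1, fun y hy => ?_⟩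
    have e : g⁻¹ * y * g⁻¹⁻¹ * y⁻¹ = g⁻¹ * (g * y * g⁻¹ * y⁻¹)⁻¹ * g⁻¹⁻¹ := by group
    rw [e]
    exact oc_norm (inv_comm' h1) (inv_mem (h2 y hy))

theorem mem_CC {L : G → G → Subgroup G} {z w g : G} :
    g ∈ CC L z w ↔ g * z = z * g ∧ ∀ y ∈ L z w, g * y * g⁻¹ * y⁻¹ ∈ OC z := Iff.rfl

/-- `(m c)^n ∈ m^n C` -/
theorem pow_mul_mem {C : Subgroup G} {m c : G} (hn : ∀ x ∈ C, m⁻¹ * x * m ∈ C) (hc : c ∈ C) (n : ℕ) :
    ∃ d ∈ C, (m * c) ^ n = m ^ n * d := by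
  induction n with
  | zero => exact ⟨1, one_mem _, by simp⟩
  | succ n ih =>
    obtain ⟨d, hd, e⟩ := ih
    refine ⟨m⁻¹ * d * m * c, mul_mem (hn d hd) hc, ?_⟩
    rw [pow_succ, e, pow_succ]
    group

end oc

namespace TP

variable {G : Type u} [Group G] {Z : Set G} {Z0 : Subgroup G → Set G} {P : Subgroup G → G → Subgroup G}
  {O : G → G → Prop} {L : G → G → Subgroup G} (h : TP Z Z0 P O L) {S S₁ S₂ : Subgroup G}
include h

theorem comm (hS : Syl S ⊤) {z w x y : G} (hz : z ∈ Z0 S) (hw : w ∈ Z0 S) (hzw : z ≠ w) (hx : x ∈ P S z)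
    (hy : y ∈ P S w) : x * y = y * x :=
  h.p_comm S hS ⟨z, hz⟩ ⟨w, hw⟩ (fun e => hzw (congrArg Subtype.val e)) x hx y hy

theorem tt_le (hS : Syl S ⊤) : TT Z0 P S ≤ S := iSup_le fun i => h.p_le S hS i i.2

omit h in
theorem p_le_tt {z : G} (hz : z ∈ Z0 S) : P S z ≤ TT Z0 P S := le_iSup (PP Z0 P S) ⟨z, hz⟩

theorem tt_cen (hS : Syl S ⊤) {z u : G} (hz : z ∈ Z0 S) (hu : u ∈ TT Z0 P S) : u * z = z * u := by
  have h1 : TT Z0 P S ≤ centralizer {z} := by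
    refine iSup_le fun i x hx => ?_
    rw [mem_centralizer_singleton_iff]
    by_cases hi : (i : G) = z
    · have := h.p_cen S hS i i.2 x hx
      rwa [hi] at this
    · exact h.comm hS i.2 hz hi hx (h.p_mem S hS z hz)
  exact mem_centralizer_singleton_iff.1 (h1 hu)

theorem z0_mem (hS : Syl S ⊤) {z : G} (hz : z ∈ Z0 S) : z ∈ S := h.p_le S hS z hz (h.p_mem S hS z hz)

theorem z0_fix (hS : Syl S ⊤) {z : G} (hz : z ∈ Z0 S) {g : G} (hg : g ∈ S) : g * z * g⁻¹ ∈ Z0 S := by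
  have := h.z0_conj S hS z hz g
  rwa [cj_self hg] at this

theorem p_fix (hS : Syl S ⊤) {z x : G} (hz : z ∈ Z0 S) (hx : x ∈ P S z) {g : G} (hg : g ∈ S) :
    g * x * g⁻¹ ∈ P S (g * z * g⁻¹) := by
  have := h.p_conj S hS z hz x hx g
  rwa [cj_self hg] at this

theorem o_of_ne (hS : Syl S ⊤) {z w : G} (hz : z ∈ Z0 S) (hw : w ∈ Z0 S) (hzw : z ≠ w) : O z w :=
  (h.o_iff S hS z hz w hw z (h.p_mem S hS z hz) w (h.p_mem S hS w hw) (h.z0_sub S hS z hz)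
    (h.z0_sub S hS w hw)).2 hzw

theorem l_norm {z w g x : G} (ho : O z w) (hgz : g * z = z * g) (hgw : g * w = w * g) (hx : x ∈ L z w) :
    g * x * g⁻¹ ∈ L z w := by
  have := h.l_conj z w ho x hx g
  rwa [conj_eq_self hgz, conj_eq_self hgw] at this

/-- the other factors centralise the component `L z w` -/
theorem oth_le_CC (hS : Syl S ⊤) {z w : G} (hz : z ∈ Z0 S) (hw : w ∈ Z0 S) (hzw : w ≠ z) :
    Oth (PP Z0 P S) ⟨w, hw⟩ ≤ CC L z w := by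
  refine Oth_le fun j hj x hx => ?_
  have hjw : (j : G) ≠ w := fun e => hj (Subtype.ext e)
  refine ⟨h.tt_cen hS hz (p_le_tt j.2 hx), fun y hy => ?_⟩
  by_cases hjz : (j : G) = z
  · have hx' : x ∈ P S z := by
      have : x ∈ P S j := hx
      rwa [hjz] at this
    exact h.l_triv S hS z hz w (h.o_of_ne hS hz hw hzw.symm) x hx' y hy
  · exact h.l_comm z j w (h.o_of_ne hS hz j.2 (Ne.symm hjz)) (h.o_of_ne hS hz hw hzw.symm)
      (h.o_of_ne hS j.2 hw hjw) x ((h.l_syl S hS z hz j j.2 (Ne.symm hjz)).1 hx) y hy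

variable [Finite G]

theorem not_mem_oc {z w : G} (hz : z ∈ Z) (hw : z ∈ OC w) : False := by
  refine h.z_ne z hz (eq_one_of_odd (oc_odd w) hw (k := 1) ?_)
  rw [pow_one, pow_two]
  exact h.z_sq z hz

/-- `u ∈ TT S₁ ∩ S₂` fixes the members of `Z0 S₂` if `Z0 S₁` and `Z0 S₂` have a member in common -/
theorem fix (h1 : Syl S₁ ⊤) (h2 : Syl S₂ ⊤) {z u M : G} (hz1 : z ∈ Z0 S₁) (hz2 : z ∈ Z0 S₂) (hu : u ∈ TT Z0 P S₁)
    (hu2 : u ∈ S₂) (hM : M ∈ Z0 S₂) (hMz : M ≠ z) : u * M = M * u := by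
  have huz : u * z = z * u := h.tt_cen h1 hz1 hu
  have ho : O z M := h.o_of_ne h2 hz2 hM hMz.symm
  obtain ⟨w, hw, hwz, hL⟩ := h.l_rep S₁ h1 z hz1 M ho
  have huw : u * w = w * u := h.tt_cen h1 hw hu
  have how : O z w := h.o_of_ne h1 hz1 hw hwz.symm
  by_contra hne
  have hM' : u * M * u⁻¹ ∈ Z0 S₂ := h.z0_fix h2 hM hu2
  have hMM : M ≠ u * M * u⁻¹ := fun e => hne (comm_of_conj e.symm)
  have hM'z : u * M * u⁻¹ ≠ z := by
    intro e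
    apply hMz
    have : M = u⁻¹ * (u * M * u⁻¹) * u := by group
    rw [this, e, mul_assoc, ← huz]; group
  have ho' : O z (u * M * u⁻¹) := h.o_of_ne h2 hz2 hM' hM'z.symm
  have hle : L z M ≤ L z (u * M * u⁻¹) := by
    intro y hy
    have h3 : u⁻¹ * y * u⁻¹⁻¹ ∈ L z M := by
      rw [hL] at hy ⊢
      exact h.l_norm how (inv_comm' huz) (inv_comm' huw) hy
    have h4 := h.l_conj z M ho _ h3 u
    rw [conj_eq_self huz] at h4
    have e : u * (u⁻¹ * y * u⁻¹⁻¹) * u⁻¹ = y := by group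
    rwa [e] at h4
  refine h.not_mem_oc (h.z0_sub S₂ h2 M hM) (h.l_cent z M ho M (h.l_mem z M ho) fun y hy => ?_)
  exact h.l_comm z M _ ho ho' (h.o_of_ne h2 hM hM' hMM) M (h.l_mem z M ho) y (hle hy)

/-- the coordinates of `u ∈ TT S₁ ∩ S₂` away from `z` are in the factors at `S₂`, modulo `OC z` -/
theorem coord_mem (h1 : Syl S₁ ⊤) (h2 : Syl S₂ ⊤) {z u : G} (hz1 : z ∈ Z0 S₁) (hz2 : z ∈ Z0 S₂) (hu : u ∈ TT Z0 P S₁)
    (hu2 : u ∈ S₂) {w x y : G} (hw : w ∈ Z0 S₁) (hwz : w ≠ z) (hx : x ∈ P S₁ w)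
    (hy : y ∈ Oth (PP Z0 P S₁) ⟨w, hw⟩) (he : u = x * y) :
    ∃ M ∈ Z0 S₂, M ≠ z ∧ ∃ p ∈ P S₂ M, ∃ o ∈ OC z, x = p * o := by
  have how : O z w := h.o_of_ne h1 hz1 hw hwz.symm
  obtain ⟨M, hM, hMz, hL⟩ := h.l_rep S₂ h2 z hz2 w how
  have ho : O z M := h.o_of_ne h2 hz2 hM hMz.symm
  have huM : u * M = M * u := h.fix h1 h2 hz1 hz2 hu hu2 hM hMz
  have hsyl := h.l_syl S₂ h2 z hz2 M hM hMz.symm
  have hPn : P S₂ M ≤ normalizer (OC z : Set G) := by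
    intro p hp
    exact le_normalizer_OO _ (h.l_le z M ho (hsyl.1 hp))
  have hxL : x ∈ L z M := by
    rw [← hL]
    exact (h.l_syl S₁ h1 z hz1 w hw hwz.symm).1 hx
  have hxz : x * z = z * x := mem_centralizer_singleton_iff.1 (h.l_le z M ho hxL)
  obtain ⟨k, hk⟩ := pow_two_pow_eq_one h1.2.1 (h.p_le S₁ h1 w hw hx)
  have hyC := h.oth_le_CC h1 hz1 hw hwz hy
  rw [mem_CC, hL] at hyC
  refine ⟨M, hM, hMz, sup_decomp hPn (mem_of_odd_index (sup_le hsyl.1 (h.l_core z M ho)) ?_ hxL ?_ (k := k)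
    (by rw [hk]; exact one_mem _))⟩
  · intro h3
    apply hsyl.2
    rw [← relIndex_mul_relIndex (P S₂ M) (P S₂ M ⊔ OC z) (L z M) le_sup_left (sup_le hsyl.1 (h.l_core z M ho))]
    exact h3.trans (Dvd.intro_left _ rfl)
  · intro d hd
    obtain ⟨p, hp, o, ho', rfl⟩ := sup_decomp hPn hd
    have h3 : u * p * u⁻¹ ∈ P S₂ M := by
      have := h.p_fix h2 hM hp hu2
      rwa [conj_eq_self huM] at this
    have e : x * (p * o) * x⁻¹ = (x * (y * p * y⁻¹ * p⁻¹) * x⁻¹)⁻¹ * (u * p * u⁻¹) * (x * o * x⁻¹) := by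
      rw [he]; group
    rw [e]
    refine mul_mem (mul_mem (inv_mem (mem_sup_right (oc_norm hxz (hyC.2 p (hsyl.1 hp))))) (mem_sup_left h3))
      (mem_sup_right (oc_norm hxz ho'))

/-- **LEMMA A**, the part away from `z` -/
theorem part_ne (h1 : Syl S₁ ⊤) (h2 : Syl S₂ ⊤) {z u : G} (hz1 : z ∈ Z0 S₁) (hz2 : z ∈ Z0 S₂) {w : G}
    (hw : w ∈ Z0 S₁) (hwz : w ≠ z) (hu : u ∈ P S₁ w) (hu2 : u ∈ S₂) : ∃ M ∈ Z0 S₂, u ∈ P S₂ M := by
  obtain ⟨M, hM, -, p, hp, o, ho, e⟩ := h.coord_mem h1 h2 hz1 hz2 (p_le_tt hw hu) hu2 hw hwz hu (one_mem _)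
    (mul_one u).symm
  refine ⟨M, hM, ?_⟩
  have h3 : o ∈ S₂ := by
    have : o = p⁻¹ * u := by rw [e]; group
    rw [this]
    exact mul_mem (inv_mem (h.p_le S₂ h2 M hM hp)) hu2
  obtain ⟨k, hk⟩ := pow_two_pow_eq_one h2.2.1 h3
  rw [e, eq_one_of_odd (oc_odd z) ho hk, mul_one]
  exact hp

/-- the part of the product at `S₁` away from `z` is in the one at `S₂`, modulo `OC z` -/
theorem oth_mem (h1 : Syl S₁ ⊤) (h2 : Syl S₂ ⊤) {z u : G} (hz1 : z ∈ Z0 S₁) (hz2 : z ∈ Z0 S₂) (hu : u ∈ TT Z0 P S₁)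
    (hu2 : u ∈ S₂) {x y : G} (hx : x ∈ P S₁ z) (hy : y ∈ Oth (PP Z0 P S₁) ⟨z, hz1⟩) (he : u = x * y) :
    ∃ p ∈ Oth (PP Z0 P S₂) ⟨z, hz2⟩, ∃ o ∈ OC z, y = p * o := by
  have hn : Oth (PP Z0 P S₂) ⟨z, hz2⟩ ≤ normalizer (OC z : Set G) := fun p hp =>
    le_normalizer_OO _ (mem_centralizer_singleton_iff.2 (h.tt_cen h2 hz2 (Oth_le_iSup _ hp)))
  refine sup_decomp hn ?_
  obtain ⟨f, hf, hf', hK⟩ := exists_coord (h.p_comm S₁ h1) (Oth_le_iSup _ hy)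
  refine hK _ fun i => ?_
  obtain ⟨y', hy', e⟩ := hf' i
  by_cases hi : (i : G) = z
  · have hi' : i = ⟨z, hz1⟩ := Subtype.ext hi
    subst hi'
    have h3 : (1 : G) = f ⟨z, hz1⟩ :=
      coord_unique (h.p_indep S₁ h1) (one_mem _) hy (hf _) hy' (by rw [one_mul, ← e])
    rw [← h3]
    exact one_mem _
  · have hxi : x ∈ Oth (PP Z0 P S₁) i := le_Oth (i := i) (j := ⟨z, hz1⟩) (fun e => hi (congrArg Subtype.val e).symm) hx
    obtain ⟨M, hM, hMz, p, hp, o, ho, e'⟩ := h.coord_mem h1 h2 hz1 hz2 hu hu2 i.2 hi (hf i)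
      (mul_mem hxi hy') (by
        rw [he, e, ← mul_assoc, ← mul_assoc]
        congr 1
        exact (Comm.oth (h.p_comm S₁ h1) (hf i) hxi).symm)
    rw [e']
    exact mul_mem (mem_sup_left (le_Oth (i := (⟨z, hz2⟩ : Z0 S₂)) (j := ⟨M, hM⟩)
      (fun e => hMz (congrArg Subtype.val e)) hp)) (mem_sup_right ho)

omit h in
/-- the core of `C(z)` meets `C(M)` in the core of `C(z, M)` -/
theorem oc_inf_le (z M : G) : OC z ⊓ centralizer {M} ≤ OO (centralizer {z} ⊓ centralizer {M}) := by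
  refine le_OO (inf_le_inf_right _ (oc_le z)) ?_ fun h1 => oc_odd z (h1.trans (card_dvd_of_le inf_le_left))
  intro g hg
  refine mem_normalizer_fintype fun x hx => ?_
  exact ⟨oc_norm (mem_centralizer_singleton_iff.1 hg.1) hx.1,
    (centralizer {M}).mul_mem ((centralizer {M}).mul_mem hg.2 hx.2) ((centralizer {M}).inv_mem hg.2)⟩

/-- **LEMMA A**, the part at `z` -/
theorem part_z (h1 : Syl S₁ ⊤) (h2 : Syl S₂ ⊤) {z u : G} (hz1 : z ∈ Z0 S₁) (hz2 : z ∈ Z0 S₂) (hu : u ∈ TT Z0 P S₁)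
    (hu2 : u ∈ S₂) {x y p o : G} (hx : x ∈ P S₁ z) (he : u = x * y)
    (hp : p ∈ Oth (PP Z0 P S₂) ⟨z, hz2⟩) (ho : o ∈ OC z) (hyp : y = p * o) : u * p⁻¹ ∈ P S₂ z := by
  have hpT : p ∈ TT Z0 P S₂ := Oth_le_iSup _ hp
  have hpz : p * z = z * p := h.tt_cen h2 hz2 hpT
  have huz : u * z = z * u := h.tt_cen h1 hz1 hu
  -- a second member `M` of `Z0 S₂`
  obtain ⟨M, hM, hMz⟩ := (h.z0_nt S₂ h2).exists_ne z
  have hoM : O z M := h.o_of_ne h2 hz2 hM hMz.symm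
  obtain ⟨w, hw, hwz, hL⟩ := h.l_rep S₁ h1 z hz1 M hoM
  have how : O z w := h.o_of_ne h1 hz1 hw hwz.symm
  obtain ⟨a, ha, haw⟩ := h.l_fus z w M how hoM hL.symm
  have haz : a * z = z * a := mem_centralizer_singleton_iff.1 (h.l_le z w how ha)
  have h3 : Syl (cj a S₁) ⊤ := by
    have := h1.cj a
    have e : cj a (⊤ : Subgroup G) = ⊤ := cj_self (mem_top a)
    rwa [e] at this
  have hz3 : z ∈ Z0 (cj a S₁) := by
    have := h.z0_conj S₁ h1 z hz1 a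
    rwa [conj_eq_self haz] at this
  have hM3 : M ∈ Z0 (cj a S₁) := by
    have := h.z0_conj S₁ h1 w hw a
    rwa [haw] at this
  set x' : G := a * x * a⁻¹ with hx'
  have hx3 : x' ∈ P (cj a S₁) z := by
    have := h.p_conj S₁ h1 z hz1 x hx a
    rwa [conj_eq_self haz] at this
  have hx'z : x' * z = z * x' := h.p_cen _ h3 z hz3 x' hx3
  have hx'M : x' * M = M * x' := h.comm h3 hz3 hM3 hMz.symm hx3 (h.p_mem _ h3 M hM3)
  -- the element `v`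
  set v : G := u * p⁻¹ with hv
  have hvS : v ∈ S₂ := mul_mem hu2 (inv_mem (h.tt_le h2 hpT))
  have hvz : v * z = z * v := mul_comm' huz (inv_comm' hpz)
  have hvM : v * M = M * v := mul_comm' (h.fix h1 h2 hz1 hz2 hu hu2 hM hMz) (inv_comm' (h.tt_cen h2 hM hpT))
  set o' : G := x'⁻¹ * v with ho'
  have hvo : v = x' * o' := by rw [ho']; group
  have ho'1 : o' ∈ OC z := by
    have h4 := h.l_triv S₁ h1 z hz1 w how x hx a ha
    have e : o' = (x'⁻¹ * (x * a * x⁻¹ * a⁻¹) * x'⁻¹⁻¹) * (p * o * p⁻¹) := by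
      rw [ho', hv, he, hyp, hx']; group
    rw [e]
    exact mul_mem (oc_norm (inv_comm' hx'z) h4) (oc_norm hpz ho)
  have ho'z : o' * z = z * o' := mul_comm' (inv_comm' hx'z) hvz
  have ho'M : o' * M = M * o' := mul_comm' (inv_comm' hx'M) hvM
  set X : Subgroup G := centralizer {z} ⊓ centralizer {M} with hX
  have memX : ∀ {g : G}, g ∈ X ↔ g * z = z * g ∧ g * M = M * g := by
    intro g
    rw [hX, mem_inf, mem_centralizer_singleton_iff, mem_centralizer_singleton_iff]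
  have ho'O : o' ∈ OO X := oc_inf_le z M ⟨ho'1, mem_centralizer_singleton_iff.2 ho'M⟩
  have hOX : OO X ≤ X := OO_le _
  -- the other side
  have hMo : O M z := h.o_symm z M hoM
  set Λ : Subgroup G := L M z ⊓ X with hΛ
  set C : Subgroup G := CC L M z ⊓ X with hC
  have hΛn : X ≤ normalizer (Λ : Set G) := fun g hg => mem_normalizer_fintype fun y hy =>
    ⟨h.l_norm hMo (memX.1 hg).2 (memX.1 hg).1 hy.1, X.mul_mem (X.mul_mem hg hy.2) (X.inv_mem hg)⟩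
  have hCn : X ≤ normalizer (C : Set G) := fun g hg => mem_normalizer_fintype fun c hc => by
    refine ⟨⟨mul_comm' (mul_comm' (memX.1 hg).2 hc.1.1) (inv_comm' (memX.1 hg).2), fun y hy => ?_⟩,
      X.mul_mem (X.mul_mem hg hc.2) (X.inv_mem hg)⟩
    have h5 : g⁻¹ * y * g⁻¹⁻¹ ∈ L M z := h.l_norm hMo (inv_comm' (memX.1 hg).2) (inv_comm' (memX.1 hg).1) hy
    have e : g * c * g⁻¹ * y * (g * c * g⁻¹)⁻¹ * y⁻¹ =
        g * (c * (g⁻¹ * y * g⁻¹⁻¹) * c⁻¹ * (g⁻¹ * y * g⁻¹⁻¹)⁻¹) * g⁻¹ := by group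
    rw [e]
    exact oc_norm (memX.1 hg).2 (hc.1.2 _ h5)
  have hDX : Λ ⊔ C ≤ X := sup_le inf_le_right inf_le_right
  have hx'Λ : x' ∈ Λ := ⟨(h.l_syl _ h3 M hM3 z hz3 hMz).1 hx3, memX.2 ⟨hx'z, hx'M⟩⟩
  obtain ⟨k, hk⟩ := pow_two_pow_eq_one h2.2.1 hvS
  have ho'D : o' ∈ Λ ⊔ C := by
    refine mem_of_odd_quot hDX ?_ (odd_OO X) (memX.2 ⟨hvz, hvM⟩) (mem_sup_left hx'Λ) (memX.2 ⟨ho'z, ho'M⟩) ho'O hvo hk
    exact le_norm_sup hΛn hCn
  obtain ⟨l, hl, c, hc, hlc⟩ := sup_decomp ((inf_le_right : Λ ≤ X).trans hCn) ho'D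
  -- `l ∈ O(X)`
  have hlO : l ∈ OO X := by
    have hY : Λ ⊓ (C ⊔ OO X) ≤ OO X := by
      refine le_OO (inf_le_left.trans inf_le_right) ?_ ?_
      · exact (le_inf hΛn (le_norm_sup hCn (le_normalizer_OO X))).trans inf_normalizer_le_normalizer_inf
      · intro h6
        haveI : Fact (Nat.Prime 2) := ⟨Nat.prime_two⟩
        obtain ⟨⟨t, ht⟩, ht2⟩ := exists_prime_orderOf_dvd_card' 2 h6
        have ht2' : t ^ 2 ^ 1 = 1 := by
          have := pow_orderOf_eq_one (⟨t, ht⟩ : (Λ ⊓ (C ⊔ OO X) : Subgroup G))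
          rw [ht2] at this
          exact congrArg Subtype.val this
        obtain ⟨c', hc', o1, ho1, e⟩ := sup_decomp ((inf_le_right : C ≤ X).trans (le_normalizer_OO X)) ht.2
        have h7 : o1 ∈ C := mem_of_odd_quot (X := X) inf_le_right hCn (odd_OO X) ht.1.2 hc' (hOX ho1) ho1 e ht2'
        have h8 : t ∈ C := by rw [e]; exact mul_mem hc' h7
        have h9 : t ∈ OC M := h.l_cent M z hMo t ht.1.1 h8.1.2
        have h10 := eq_one_of_odd (oc_odd M) h9 ht2'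
        have h11 : (⟨t, ht⟩ : (Λ ⊓ (C ⊔ OO X) : Subgroup G)) = 1 := Subtype.ext h10
        rw [h11, orderOf_one] at ht2
        omega
    refine hY ⟨hl, ?_⟩
    have e2 : l = o' * c⁻¹ := by rw [hlc]; group
    rw [e2]
    exact mul_mem (mem_sup_right ho'O) ((C ⊔ OO X).inv_mem (mem_sup_left hc))
  have hcO : c ∈ OO X := by
    have e : c = l⁻¹ * o' := by rw [hlc]; group
    rw [e]
    exact mul_mem (inv_mem hlO) ho'O
  -- the element `m`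
  set m : G := x' * l with hm
  have hmΛ : m ∈ Λ := mul_mem hx'Λ hl
  have hvm : v = m * c := by rw [hvo, hlc, hm]; group
  have hmX : m ∈ X := hmΛ.2
  have hsyl := h.l_syl S₂ h2 M hM z hz2 hMz
  have hPn : P S₂ z ≤ normalizer (OC M : Set G) := fun q hq =>
    le_normalizer_OO _ (mem_centralizer_singleton_iff.2 (h.tt_cen h2 hM (p_le_tt hz2 hq)))
  have hmD : m ∈ P S₂ z ⊔ OC M := by
    refine mem_of_odd_index (sup_le hsyl.1 (h.l_core M z hMo)) ?_ hmΛ.1 ?_ (k := k) ?_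
    · intro h3
      apply hsyl.2
      rw [← relIndex_mul_relIndex (P S₂ z) (P S₂ z ⊔ OC M) (L M z) le_sup_left (sup_le hsyl.1 (h.l_core M z hMo))]
      exact h3.trans (Dvd.intro_left _ rfl)
    · intro d hd
      obtain ⟨q, hq, r, hr, rfl⟩ := sup_decomp hPn hd
      have h4 : v * q * v⁻¹ ∈ P S₂ z := by
        have := h.p_fix h2 hz2 hq hvS
        rwa [conj_eq_self hvz] at this
      have e : m * (q * r) * m⁻¹ = (m * (c * q * c⁻¹ * q⁻¹) * m⁻¹)⁻¹ * (v * q * v⁻¹) * (m * r * m⁻¹) := by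
        rw [hvm]; group
      rw [e]
      refine mul_mem (mul_mem (inv_mem (mem_sup_right (oc_norm (memX.1 hmX).2 (hc.1.2 q (hsyl.1 hq)))))
        (mem_sup_left h4)) (mem_sup_right (oc_norm (memX.1 hmX).2 hr))
    · refine mem_sup_right (h.l_cent M z hMo _ (pow_mem hmΛ.1 _) ?_)
      obtain ⟨d, hd, e⟩ := pow_mul_mem (C := C) (m := m) (c := c) (fun y hy => by
        have := (mem_normalizer_iff.1 (hCn (X.inv_mem hmX)) y).1 hy
        rwa [inv_inv] at this) hc (2 ^ k)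
      rw [← hvm, hk] at e
      have e2 : m ^ 2 ^ k = d⁻¹ := eq_inv_of_mul_eq_one_left e.symm
      rw [e2]
      exact ((CC L M z).inv_mem hd.1).2
  obtain ⟨q, hq, r, hr, hqr⟩ := sup_decomp hPn hmD
  have hqz : q * z = z * q := h.p_cen S₂ h2 z hz2 q hq
  have hqM : q * M = M * q := h.tt_cen h2 hM (p_le_tt hz2 hq)
  have hrO : r ∈ OO X := by
    have e : r = q⁻¹ * m := by rw [hqr]; group
    have h4 : r ∈ OC M ⊓ centralizer {z} := mem_inf.2 ⟨hr, by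
      rw [mem_centralizer_singleton_iff, e]
      exact mul_comm' (inv_comm' hqz) (memX.1 hmX).1⟩
    have h5 := oc_inf_le M z h4
    rwa [inf_comm] at h5
  have hlast : q⁻¹ * v ∈ OO X := by
    have e : q⁻¹ * v = r * c := by rw [hvm, hqr]; group
    rw [e]
    exact mul_mem hrO hcO
  have hlastS : q⁻¹ * v ∈ S₂ := mul_mem (inv_mem (h.p_le S₂ h2 z hz2 hq)) hvS
  obtain ⟨k', hk'⟩ := pow_two_pow_eq_one h2.2.1 hlastS
  have h5 := eq_one_of_odd (odd_OO X) hlast hk'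
  rw [inv_mul_eq_one] at h5
  rw [← h5]
  exact hq

/-- **LEMMA A** -/
theorem lemmaA (h1 : Syl S₁ ⊤) (h2 : Syl S₂ ⊤) {z u : G} (hz1 : z ∈ Z0 S₁) (hz2 : z ∈ Z0 S₂) (hu : u ∈ TT Z0 P S₁)
    (hu2 : u ∈ S₂) : u ∈ TT Z0 P S₂ := by
  obtain ⟨x, hx, y, hy, he⟩ := exists_split (h.p_comm S₁ h1) hu ⟨z, hz1⟩
  obtain ⟨p, hp, o, ho, e⟩ := h.oth_mem h1 h2 hz1 hz2 hu hu2 hx hy he
  have h3 := h.part_z h1 h2 hz1 hz2 hu hu2 hx he hp ho e
  have e2 : u = u * p⁻¹ * p := by group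
  rw [e2]
  exact mul_mem (p_le_tt hz2 h3) (Oth_le_iSup _ hp)

/-- **LEMMA A** for the factors -/
theorem lemmaA_part (h1 : Syl S₁ ⊤) (h2 : Syl S₂ ⊤) {z u w : G} (hz1 : z ∈ Z0 S₁) (hz2 : z ∈ Z0 S₂) (hw : w ∈ Z0 S₁)
    (hu : u ∈ P S₁ w) (hu2 : u ∈ S₂) : ∃ M ∈ Z0 S₂, u ∈ P S₂ M := by
  by_cases hwz : w = z
  · subst hwz
    have h3 := h.part_z h1 h2 hz1 hz2 (p_le_tt hw hu) hu2 (x := u) (y := 1) (p := 1) (o := 1) hu (mul_one u).symm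
      (one_mem _) (one_mem _) (mul_one 1).symm
    refine ⟨w, hz2, ?_⟩
    rwa [inv_one, mul_one] at h3
  · exact h.part_ne h1 h2 hz1 hz2 hw hwz hu hu2

end TP

end Cfsg.Agent.Cit.Nil.CV.TProd
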