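import Mathlib
import Cfsg.Agent.Cit.Defs

/-!
# Internal products of commuting subgroups, and tools modulo odd cores

Tools for the abstract T-type product theorem (`TProd`).
-/

set_option autoImplicit false
set_option linter.style.haveILetI false

namespace Cfsg.Agent.Cit.Nil.CV.TProd

open Subgroup Cfsg
open Cfsg.Agent.Cit

universe u v

/-! ### Coordinates -/

section coord

variable {G : Type u} [Group G] {ι : Type v} {P : ι → Subgroup G}

/-- the product of the other factors -/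
def Oth (P : ι → Subgroup G) (i : ι) : Subgroup G := ⨆ j : {j // j ≠ i}, P j.1

theorem le_Oth {i j : ι} (hij : j ≠ i) : P j ≤ Oth P i := fun _ hx =>
  mem_iSup_of_mem (⟨j, hij⟩ : {j // j ≠ i}) hx

theorem Oth_le {i : ι} {K : Subgroup G} (h : ∀ j, j ≠ i → P j ≤ K) : Oth P i ≤ K :=
  iSup_le fun j => h j.1 j.2

theorem Oth_le_iSup (i : ι) : Oth P i ≤ ⨆ i, P i := Oth_le fun j _ => le_iSup P j

/-- the factors commute -/
def Comm (P : ι → Subgroup G) : Prop := ∀ i j, i ≠ j → ∀ x ∈ P i, ∀ y ∈ P j, x * y = y * x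

theorem Comm.oth (hc : Comm P) {i : ι} {x y : G} (hx : x ∈ P i) (hy : y ∈ Oth P i) : x * y = y * x := by
  have h1 : Oth P i ≤ centralizer {x} := Oth_le fun j hj y hy => by
    rw [mem_centralizer_singleton_iff]
    exact hc j i hj y hy x hx
  exact (mem_centralizer_singleton_iff.1 (h1 hy)).symm

/-- the factors are independent -/
def Indep (P : ι → Subgroup G) : Prop := ∀ i, ∀ x ∈ P i, x ∈ Oth P i → x = 1

theorem Indep.disj (hi : Indep P) {i j : ι} (hij : i ≠ j) {x : G} (hx : x ∈ P i) (hy : x ∈ P j) : x = 1 :=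
  hi i x hx (le_Oth hij.symm hy)

/-- elements with given coordinates -/
theorem exists_of_coords [Finite ι] (hc : Comm P) (f : ι → G) (hf : ∀ i, f i ∈ P i) :
    ∃ u ∈ ⨆ i, P i, (∀ i, ∃ y ∈ Oth P i, u = f i * y ∧ ∀ K : Subgroup G, (∀ j, j ≠ i → f j ∈ K) → y ∈ K) ∧
      (∀ K : Subgroup G, (∀ i, f i ∈ K) → u ∈ K) := by
  classical
  haveI := Fintype.ofFinite ι
  have hcomm : Pairwise fun i j : ι => ∀ x y : G, x ∈ P i → y ∈ P j → Commute x y :=
    fun i j hij x y hx hy => hc i j hij x hx y hy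
  have hK : ∀ (g : ∀ i, P i) (K : Subgroup G), (∀ i, (g i : G) ∈ K) → noncommPiCoprod hcomm g ∈ K := by
    intro g K hg
    rw [noncommPiCoprod_apply]
    exact K.noncommProd_mem _ fun i _ => hg i
  set F : ∀ i, P i := fun i => ⟨f i, hf i⟩ with hF
  have hK' : ∀ (i : ι) (K : Subgroup G), (∀ j, j ≠ i → f j ∈ K) →
      noncommPiCoprod hcomm (Function.update F i 1) ∈ K := by
    intro i K h1
    refine hK _ _ fun j => ?_
    by_cases hj : j = i
    · subst hj
      simp [one_mem]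
    · rw [Function.update_of_ne hj]
      exact h1 j hj
  refine ⟨noncommPiCoprod hcomm F, hK F _ fun i => mem_iSup_of_mem i (hf i), fun i => ?_, hK F⟩
  refine ⟨noncommPiCoprod hcomm (Function.update F i 1), hK' i _ fun j hj => le_Oth hj (hf j), ?_, hK' i⟩
  have e1 : (F i : G) = noncommPiCoprod hcomm (Pi.mulSingle i (F i)) :=
    (noncommPiCoprod_mulSingle (hcomm := hcomm) i (F i)).symm
  change noncommPiCoprod hcomm F = (F i : G) * _
  rw [e1, ← map_mul]
  congr 1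
  ext j
  by_cases hj : j = i
  · subst hj; simp
  · simp [Pi.mulSingle_eq_of_ne hj, Function.update_of_ne hj]

/-- coordinates in the product -/
theorem exists_coord' [Finite ι] (hc : Comm P) {u : G} (hu : u ∈ ⨆ i, P i) :
    ∃ f : ι → G, (∀ i, f i ∈ P i) ∧
      (∀ i, ∃ y ∈ Oth P i, u = f i * y ∧ ∀ K : Subgroup G, (∀ j, j ≠ i → f j ∈ K) → y ∈ K) ∧
      (∀ K : Subgroup G, (∀ i, f i ∈ K) → u ∈ K) := by
  classical
  haveI := Fintype.ofFinite ι
  have hcomm : Pairwise fun i j : ι => ∀ x y : G, x ∈ P i → y ∈ P j → Commute x y :=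
    fun i j hij x y hx hy => hc i j hij x hx y hy
  rw [← noncommPiCoprod_range (hcomm := hcomm)] at hu
  obtain ⟨F, rfl⟩ := hu
  have hK : ∀ (g : ∀ i, P i) (K : Subgroup G), (∀ i, (g i : G) ∈ K) → noncommPiCoprod hcomm g ∈ K := by
    intro g K hg
    rw [noncommPiCoprod_apply]
    exact K.noncommProd_mem _ fun i _ => hg i
  have hK' : ∀ (i : ι) (K : Subgroup G), (∀ j, j ≠ i → (F j : G) ∈ K) →
      noncommPiCoprod hcomm (Function.update F i 1) ∈ K := by
    intro i K h1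
    refine hK _ _ fun j => ?_
    by_cases hj : j = i
    · subst hj
      simp [one_mem]
    · rw [Function.update_of_ne hj]
      exact h1 j hj
  refine ⟨fun i => F i, fun i => (F i).2, fun i => ?_, hK F⟩
  refine ⟨noncommPiCoprod hcomm (Function.update F i 1), hK' i _ fun j hj => le_Oth hj (F j).2, ?_, hK' i⟩
  have e1 : (F i : G) = noncommPiCoprod hcomm (Pi.mulSingle i (F i)) :=
    (noncommPiCoprod_mulSingle (hcomm := hcomm) i (F i)).symm
  change noncommPiCoprod hcomm F = (F i : G) * _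
  rw [e1, ← map_mul]
  congr 1
  ext j
  by_cases hj : j = i
  · subst hj; simp
  · simp [Pi.mulSingle_eq_of_ne hj, Function.update_of_ne hj]

/-- coordinates in the product -/
theorem exists_coord [Finite ι] (hc : Comm P) {u : G} (hu : u ∈ ⨆ i, P i) :
    ∃ f : ι → G, (∀ i, f i ∈ P i) ∧ (∀ i, ∃ y ∈ Oth P i, u = f i * y) ∧
      (∀ K : Subgroup G, (∀ i, f i ∈ K) → u ∈ K) := by
  obtain ⟨f, hf, hf', hK⟩ := exists_coord' hc hu
  refine ⟨f, hf, fun i => ?_, hK⟩
  obtain ⟨y, hy, e, -⟩ := hf' i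
  exact ⟨y, hy, e⟩

theorem coord_unique (hi : Indep P) {i : ι} {x y x' y' : G} (hx : x ∈ P i) (hy : y ∈ Oth P i) (hx' : x' ∈ P i)
    (hy' : y' ∈ Oth P i) (h : x * y = x' * y') : x = x' := by
  have h1 : x'⁻¹ * x = y' * y⁻¹ := by
    rw [inv_mul_eq_iff_eq_mul, ← mul_assoc, ← h]; group
  have h2 : x'⁻¹ * x = 1 := hi i _ (mul_mem (inv_mem hx') hx) (by rw [h1]; exact mul_mem hy' (inv_mem hy))
  rw [inv_mul_eq_one] at h2
  exact h2.symm

/-- elements with the same coordinates are equal -/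
theorem eq_of_coords [Finite ι] (hc : Comm P) (hi : Indep P) {x x' : G} (hx : x ∈ ⨆ i, P i) (hx' : x' ∈ ⨆ i, P i)
    (h : ∀ i, ∃ f ∈ P i, ∃ y ∈ Oth P i, ∃ y' ∈ Oth P i, x = f * y ∧ x' = f * y') : x = x' := by
  obtain ⟨g, hg, hg', hK⟩ := exists_coord hc (mul_mem (inv_mem hx') hx)
  have h1 : ∀ i, g i = 1 := by
    intro i
    obtain ⟨f, hf, y, hy, y', hy', e, e'⟩ := h i
    obtain ⟨w, hw, e2⟩ := hg' i
    have e3 : x = (f * g i) * (y' * w) := by
      have e4 : x = x' * (x'⁻¹ * x) := by group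
      rw [e4, e2, e']
      have e5 : y' * g i = g i * y' := (Comm.oth hc (hg i) hy').symm
      calc f * y' * (g i * w) = f * (y' * g i) * w := by group
        _ = f * g i * (y' * w) := by rw [e5]; group
    have e6 : f = f * g i := coord_unique hi hf hy (mul_mem hf (hg i)) (mul_mem hy' hw) (by rw [← e, ← e3])
    exact (left_eq_mul.1 e6)
  have h2 : x'⁻¹ * x ∈ (⊥ : Subgroup G) := hK ⊥ fun i => by rw [h1 i]; exact one_mem _
  rw [mem_bot, inv_mul_eq_one] at h2
  exact h2.symm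

/-- a coordinate decomposition of `u` along `i` -/
theorem exists_split [Finite ι] (hc : Comm P) {u : G} (hu : u ∈ ⨆ i, P i) (i : ι) :
    ∃ x ∈ P i, ∃ y ∈ Oth P i, u = x * y := by
  obtain ⟨f, hf, hf', -⟩ := exists_coord hc hu
  obtain ⟨y, hy, h⟩ := hf' i
  exact ⟨f i, hf i, y, hy, h⟩

end coord

/-! ### Elements of odd and of 2-power order -/

section odd

variable {G : Type u} [Group G]

theorem sup_decomp {H N : Subgroup G} (h : H ≤ normalizer (N : Set G)) {x : G} (hx : x ∈ H ⊔ N) :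
    ∃ p ∈ H, ∃ o ∈ N, x = p * o := by
  have h1 := coe_mul_of_left_le_normalizer_right H N h
  have h2 : x ∈ ((H ⊔ N : Subgroup G) : Set G) := hx
  rw [h1] at h2
  obtain ⟨p, hp, o, ho, e⟩ := h2
  exact ⟨p, hp, o, ho, e.symm⟩

/-- a 2-element in a subgroup of odd order is trivial -/
theorem eq_one_of_odd {N : Subgroup G} (hN : ¬ 2 ∣ Nat.card N) {x : G} (hx : x ∈ N) {k : ℕ} (hk : x ^ 2 ^ k = 1) :
    x = 1 := by
  have h1 : orderOf x ∣ 2 ^ k := orderOf_dvd_of_pow_eq_one hk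
  have h2 : orderOf x ∣ Nat.card N := Subgroup.orderOf_dvd_natCard _ hx
  obtain ⟨m, -, hm⟩ := (Nat.dvd_prime_pow Nat.prime_two).1 h1
  rcases Nat.eq_zero_or_pos m with h0 | h0
  · rw [h0, pow_zero, orderOf_eq_one_iff] at hm
    exact hm
  · exfalso
    apply hN
    refine dvd_trans ?_ h2
    rw [hm]
    exact dvd_pow_self 2 (by omega)

theorem pow_two_pow_eq_one {T : Subgroup G} (hT : IsPGroup 2 T) {x : G} (hx : x ∈ T) : ∃ k : ℕ, x ^ 2 ^ k = 1 := by
  obtain ⟨k, hk⟩ := hT ⟨x, hx⟩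
  exact ⟨k, congrArg Subtype.val hk⟩

variable [Finite G]

/-- an element of `L` normalising the subgroup `D` of odd index in `L` with a 2-power in `D` lies in `D` -/
theorem mem_of_odd_index {D L : Subgroup G} (hDL : D ≤ L) (hodd : ¬ 2 ∣ D.relIndex L) {x : G} (hx : x ∈ L)
    (hn : ∀ d ∈ D, x * d * x⁻¹ ∈ D) {k : ℕ} (hk : x ^ 2 ^ k ∈ D) : x ∈ D := by
  have hxn : x ∈ normalizer (D : Set G) := mem_normalizer_fintype hn
  set X : Subgroup G := L ⊓ normalizer (D : Set G) with hX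
  have hDX : D ≤ X := le_inf hDL le_normalizer
  have h1 : ¬ 2 ∣ D.relIndex X := fun h => hodd (h.trans (by
    rw [← relIndex_mul_relIndex D X L hDX inf_le_left]
    exact Dvd.intro _ rfl))
  haveI : (D.subgroupOf X).Normal := (normal_subgroupOf_iff_le_normalizer hDX).2 inf_le_right
  have h2 : Nat.card (X ⧸ D.subgroupOf X) = D.relIndex X := rfl
  set y : X ⧸ D.subgroupOf X := QuotientGroup.mk (⟨x, ⟨hx, hxn⟩⟩ : X) with hy
  have h3 : y ^ 2 ^ k = 1 := by
    rw [hy, ← QuotientGroup.mk_pow, QuotientGroup.eq_one_iff, mem_subgroupOf]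
    exact hk
  have h4 : y = 1 := by
    refine eq_one_of_odd (N := (⊤ : Subgroup (X ⧸ D.subgroupOf X))) ?_ (mem_top y) h3
    rw [card_top, h2]
    exact h1
  rw [hy, QuotientGroup.eq_one_iff, mem_subgroupOf] at h4
  exact h4

/-- if `u = m * o` with `u` a 2-element and `o` in a normalised subgroup of odd order then `o ∈ D`, for `D` normalised,
`m ∈ D` -/
theorem mem_of_odd_quot {X D N : Subgroup G} (hDX : D ≤ X) (hDn : X ≤ normalizer (D : Set G))
    (hN : ¬ 2 ∣ Nat.card N) {u m o : G} (hu : u ∈ X) (hm : m ∈ D) (hoX : o ∈ X) (ho : o ∈ N) (h : u = m * o) {k : ℕ}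
    (hk : u ^ 2 ^ k = 1) : o ∈ D := by
  haveI : (D.subgroupOf X).Normal := (normal_subgroupOf_iff_le_normalizer hDX).2 hDn
  set q : X →* X ⧸ D.subgroupOf X := QuotientGroup.mk' _ with hq
  have h1 : q ⟨u, hu⟩ = q ⟨o, hoX⟩ := by
    have e : (⟨u, hu⟩ : X) = ⟨m, hDX hm⟩ * ⟨o, hoX⟩ := Subtype.ext h
    rw [e, map_mul]
    have h2 : q ⟨m, hDX hm⟩ = 1 := by
      rw [hq, QuotientGroup.mk'_apply, QuotientGroup.eq_one_iff, mem_subgroupOf]
      exact hm
    rw [h2, one_mul]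
  have h3 : (q ⟨o, hoX⟩) ^ 2 ^ k = 1 := by
    rw [← h1, ← map_pow]
    have e : (⟨u, hu⟩ : X) ^ 2 ^ k = 1 := Subtype.ext hk
    rw [e, map_one]
  have h4 : ¬ 2 ∣ Nat.card ((N.subgroupOf X).map q) := by
    intro h5
    have h6 : Nat.card ((N.subgroupOf X).map q) ∣ Nat.card (N.subgroupOf X) := Subgroup.card_map_dvd _ q
    have h7 : Nat.card (N.subgroupOf X) ∣ Nat.card N := card_comap_dvd_of_injective N X.subtype X.subtype_injective
    exact hN (h5.trans (h6.trans h7))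
  have h6 : q ⟨o, hoX⟩ = 1 := eq_one_of_odd h4 ⟨⟨o, hoX⟩, mem_subgroupOf.2 ho, rfl⟩ h3
  rw [hq, QuotientGroup.mk'_apply, QuotientGroup.eq_one_iff, mem_subgroupOf] at h6
  exact h6

end odd

end Cfsg.Agent.Cit.Nil.CV.TProd
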