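import Cfsg.Agent.Cit.Nil.CV.TProd

/-!
# The abstract T-type product theorem: strong closure

`TP.closed`: `TT S₁ ∩ S₂ ≤ TT S₂`, and `TP.closed_part`: `P S₁ w ∩ S₂` is in some `P S₂ w'`.

`exists_fixed`: `u ∈ TT S₁ ∩ S₂` centralises a member of `Z0 S₂`.
-/

set_option autoImplicit false
set_option linter.style.haveILetI false

namespace Cfsg.Agent.Cit.Nil.CV.TProd

open Subgroup Cfsg
open Cfsg.Agent.Cit

universe u

section gen

variable {G : Type u} [Group G]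

theorem syl_top_cj {S : Subgroup G} (h : Syl S ⊤) (g : G) : Syl (cj g S) ⊤ := by
  have := h.cj g
  have e : cj g (⊤ : Subgroup G) = ⊤ := cj_self (mem_top g)
  rwa [e] at this

theorem sq_mul_sq {a b : G} (h : a * b = b * a) : (a * a) * (b * b) = (a * b) * (a * b) := by
  calc (a * a) * (b * b) = a * (a * b) * b := by group
    _ = a * (b * a) * b := by rw [h]
    _ = (a * b) * (a * b) := by group

/-- some power of a nontrivial 2-element is an involution -/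
theorem exists_pow_inv {x : G} {k : ℕ} (hk : x ^ 2 ^ k = 1) (hx1 : x ≠ 1) :
    ∃ m : ℕ, x ^ m * x ^ m = 1 ∧ x ^ m ≠ 1 := by
  induction k with
  | zero => exact absurd (by simpa using hk) hx1
  | succ k ih =>
    by_cases h : x ^ 2 ^ k = 1
    · exact ih h
    · refine ⟨2 ^ k, ?_, h⟩
      rw [← pow_add, ← two_mul, ← pow_succ']
      exact hk

theorem isPGroup_zpowers_of_mem {S : Subgroup G} (hS : IsPGroup 2 S) {x : G} (hx : x ∈ S) : IsPGroup 2 (zpowers x) :=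
  hS.to_le ((zpowers_le).2 hx)

variable [Finite G]

theorem exists_syl_ge {Q K : Subgroup G} (hQ : IsPGroup 2 Q) (hQK : Q ≤ K) : ∃ T, Syl T K ∧ Q ≤ T := by
  haveI : Fact (Nat.Prime 2) := ⟨Nat.prime_two⟩
  have h1 : IsPGroup 2 (Q.subgroupOf K) := hQ.comap_subtype
  obtain ⟨S, hS⟩ := h1.exists_le_sylow
  refine ⟨(S : Subgroup K).map K.subtype, ⟨map_subtype_le _, S.isPGroup'.map _, ?_⟩, ?_⟩
  · have h1 : ((S : Subgroup K).map K.subtype).subgroupOf K = S := by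
      rw [subgroupOf, comap_map_eq_self_of_injective K.subtype_injective]
    rw [relIndex, h1]
    exact S.not_dvd_index
  · intro x hx
    exact ⟨⟨x, hQK hx⟩, hS (mem_subgroupOf.2 hx), rfl⟩

/-- two 2-subgroups of `C(e)` are, after conjugation in `C(e)`, in a common Sylow 2-subgroup -/
theorem exists_common {R₁ R₂ : Subgroup G} (h1 : IsPGroup 2 R₁) (h2 : IsPGroup 2 R₂) {e : G}
    (hR1 : R₁ ≤ centralizer {e}) (hR2 : R₂ ≤ centralizer {e}) :
    ∃ c : G, c * e = e * c ∧ ∃ S, Syl S ⊤ ∧ (∀ x ∈ R₁, c * x * c⁻¹ ∈ S) ∧ R₂ ≤ S := by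
  obtain ⟨T1, hT1, hl1⟩ := exists_syl_ge h1 hR1
  obtain ⟨T2, hT2, hl2⟩ := exists_syl_ge h2 hR2
  obtain ⟨c, hc, hcT⟩ := hT1.exists_conj hT2
  obtain ⟨S, hS, hl⟩ := exists_syl_ge hT2.2.1 le_top
  refine ⟨c, mem_centralizer_singleton_iff.1 hc, S, hS, fun x hx => hl ?_, hl2.trans hl⟩
  rw [← hcT]
  exact conj_mem_cj (hl1 hx)

/-- a nontrivial normal subgroup of a 2-group meets the centre in an involution -/
theorem exists_central {Γ K : Subgroup G} (hΓ : IsPGroup 2 Γ) (hK : K ≤ Γ) (hn : ∀ g ∈ Γ, ∀ x ∈ K, g * x * g⁻¹ ∈ K)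
    (hne : K ≠ ⊥) : ∃ e ∈ K, e * e = 1 ∧ e ≠ 1 ∧ ∀ g ∈ Γ, g * e = e * g := by
  haveI : Fact (Nat.Prime 2) := ⟨Nat.prime_two⟩
  let act : MulAction Γ K :=
    { smul := fun g x => ⟨g * x * (g : G)⁻¹, hn g g.2 x x.2⟩
      one_smul := fun x => Subtype.ext (by change (1 : G) * x * (1 : G)⁻¹ = x; group)
      mul_smul := fun g g' x => Subtype.ext (by
        change (g * g' : G) * x * (g * g' : G)⁻¹ = g * (g' * x * (g' : G)⁻¹) * (g : G)⁻¹; group) }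
  letI := act
  have hK2 : IsPGroup 2 K := hΓ.to_le hK
  haveI : Nontrivial K := K.nontrivial_iff_ne_bot.2 hne
  obtain ⟨n, hn1, hn2⟩ := hK2.nontrivial_iff_card.1 inferInstance
  have h3 : (1 : K) ∈ MulAction.fixedPoints Γ K := fun g => Subtype.ext (by
    change (g : G) * (1 : G) * (g : G)⁻¹ = 1; group)
  obtain ⟨x, hx, hx1⟩ := hΓ.exists_fixed_point_of_prime_dvd_card_of_fixed_point K
    (by rw [hn2]; exact dvd_pow_self 2 (by omega)) h3
  have hxc : ∀ g ∈ Γ, g * (x : G) = x * g := by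
    intro g hg
    have h4 : (g : G) * x * g⁻¹ = x := congrArg Subtype.val (hx ⟨g, hg⟩)
    exact comm_of_conj h4
  have hx1' : (x : G) ≠ 1 := fun e => hx1 (Subtype.ext e.symm)
  obtain ⟨k, hk⟩ := pow_two_pow_eq_one hK2 x.2
  obtain ⟨y, hy, hy2⟩ := exists_pow_inv hk hx1'
  exact ⟨(x : G) ^ y, pow_mem x.2 _, hy, hy2, fun g hg => (Commute.pow_right (hxc g hg) y)⟩

/-- a 2-group acting faithfully on `n ≥ 1` points has order less than `2 ^ n` -/
theorem exists_fix_all {Γ : Subgroup G} (hΓ : IsPGroup 2 Γ) {A : Set G} (hA : A.Nonempty)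
    (hn : ∀ g ∈ Γ, ∀ z ∈ A, g * z * g⁻¹ ∈ A) (hc : 2 ^ Nat.card A ≤ Nat.card Γ) :
    ∃ g ∈ Γ, g ≠ 1 ∧ ∀ z ∈ A, g * z * g⁻¹ = z := by
  classical
  haveI : Fact (Nat.Prime 2) := ⟨Nat.prime_two⟩
  let act : MulAction Γ A :=
    { smul := fun g x => ⟨g * x * (g : G)⁻¹, hn g g.2 x x.2⟩
      one_smul := fun x => Subtype.ext (by change (1 : G) * x * (1 : G)⁻¹ = x; group)
      mul_smul := fun g g' x => Subtype.ext (by
        change (g * g' : G) * x * (g * g' : G)⁻¹ = g * (g' * x * (g' : G)⁻¹) * (g : G)⁻¹; group) }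
  letI := act
  by_contra hcon
  push Not at hcon
  have hinj : Function.Injective (MulAction.toPermHom Γ A) := by
    rw [injective_iff_map_eq_one]
    intro g hg
    by_contra hg1
    obtain ⟨z, hz, hne⟩ := hcon g g.2 (fun e => hg1 (Subtype.ext e))
    apply hne
    have h1 := congrArg (fun f : Equiv.Perm A => ((f ⟨z, hz⟩ : A) : G)) hg
    exact h1
  have h1 : Nat.card Γ ∣ Nat.card (Equiv.Perm A) := card_dvd_of_injective _ hinj
  rw [Nat.card_perm] at h1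
  obtain ⟨m, hm⟩ := IsPGroup.iff_card.1 hΓ
  have hA0 : Nat.card A ≠ 0 := by
    haveI : Nonempty A := hA.to_subtype
    exact Nat.card_pos.ne'
  rw [hm] at h1 hc
  have h2 : m ≤ padicValNat 2 (Nat.card A).factorial :=
    (padicValNat_dvd_iff_le (Nat.factorial_ne_zero _)).1 h1
  have h3 := sub_one_mul_padicValNat_factorial_lt_of_ne_zero 2 hA0
  have h4 : Nat.card A ≤ m := (Nat.pow_le_pow_iff_right (by omega)).1 hc
  omega

end gen

namespace TP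

variable {G : Type u} [Group G] {Z : Set G} {Z0 : Subgroup G → Set G} {P : Subgroup G → G → Subgroup G}
  {O : G → G → Prop} {L : G → G → Subgroup G} (h : TP Z Z0 P O L) {S S₁ S₂ : Subgroup G}

/-- the elements of `C(e)` fixing all the classes of `r` -/
def FF {e : G} {r : G → G → Prop} (hb : Blk Z0 O e r) : Subgroup G where
  carrier := {g | g * e = e * g ∧ ∀ z, (∃ S', Syl S' ⊤ ∧ e ∈ ES Z0 S' ∧ z ∈ Z0 S') → r z (g * z * g⁻¹)}
  one_mem' := ⟨by group, by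
    rintro z ⟨S', h1, h2, h3⟩
    obtain ⟨w, -, hw⟩ := hb.rep S' h1 h2 S' h1 h2 z h3
    have e1 : (1 : G) * z * 1⁻¹ = z := by group
    rw [e1]
    exact hb.trans _ _ _ hw (hb.symm _ _ hw)⟩
  mul_mem' := by
    rintro g g' ⟨h1, h2⟩ ⟨h3, h4⟩
    refine ⟨mul_comm' h1 h3, fun z hz => ?_⟩
    have h5 := hb.conj g h1 _ _ (h4 z hz)
    have e1 : g * (g' * z * g'⁻¹) * g⁻¹ = g * g' * z * (g * g')⁻¹ := by group
    rw [e1] at h5
    exact hb.trans _ _ _ (h2 z hz) h5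
  inv_mem' := by
    rintro g ⟨h1, h2⟩
    refine ⟨inv_comm' h1, fun z hz => ?_⟩
    have h5 := hb.conj g⁻¹ (inv_comm' h1) _ _ (h2 z hz)
    have e1 : g⁻¹ * (g * z * g⁻¹) * g⁻¹⁻¹ = z := by group
    rw [e1] at h5
    exact hb.symm _ _ h5

theorem mem_FF {e : G} {r : G → G → Prop} (hb : Blk Z0 O e r) {g : G} :
    g ∈ FF hb ↔ g * e = e * g ∧ ∀ z, (∃ S', Syl S' ⊤ ∧ e ∈ ES Z0 S' ∧ z ∈ Z0 S') → r z (g * z * g⁻¹) := Iff.rfl

theorem mem_FF_of {e : G} {r : G → G → Prop} (hb : Blk Z0 O e r) (hS : Syl S ⊤) (he : e ∈ ES Z0 S) {g : G}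
    (hg : g * e = e * g) (hz : ∀ w ∈ Z0 S, g * w = w * g) : g ∈ FF hb := by
  refine ⟨hg, ?_⟩
  rintro z ⟨S', h1, h2, h3⟩
  obtain ⟨w, hw, hr⟩ := hb.rep S hS he S' h1 h2 z h3
  have h5 := hb.conj g hg _ _ hr
  rw [conj_eq_self (hz w hw)] at h5
  exact hb.trans _ _ _ hr (hb.symm _ _ h5)

include h

theorem es_le_tt (hS : Syl S ⊤) : ES Z0 S ≤ TT Z0 P S := by
  rw [ES, closure_le]
  exact fun z hz => p_le_tt hz (h.p_mem S hS z hz)

theorem tt_cen_es (hS : Syl S ⊤) {u e : G} (hu : u ∈ TT Z0 P S) (he : e ∈ ES Z0 S) : u * e = e * u := by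
  have h1 : ES Z0 S ≤ centralizer {u} := by
    rw [ES, closure_le]
    intro z hz
    rw [SetLike.mem_coe, mem_centralizer_singleton_iff]
    exact (h.tt_cen hS hz hu).symm
  exact (mem_centralizer_singleton_iff.1 (h1 he)).symm

theorem z0_conj_iff (hS : Syl S ⊤) {z g : G} (hz : z ∈ Z0 (cj g S)) : ∃ w ∈ Z0 S, z = g * w * g⁻¹ := by
  have h1 := h.z0_conj _ (syl_top_cj hS g) z hz g⁻¹
  rw [cj_inv_cj] at h1
  exact ⟨_, h1, by group⟩

theorem es_conj (hS : Syl S ⊤) {e : G} (he : e ∈ ES Z0 S) (g : G) : g * e * g⁻¹ ∈ ES Z0 (cj g S) := by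
  have h1 : ES Z0 S ≤ (ES Z0 (cj g S)).comap (MulAut.conj g).toMonoidHom := by
    rw [ES, closure_le]
    exact fun z hz => subset_closure (h.z0_conj S hS z hz g)
  exact h1 he

theorem tt_conj (hS : Syl S ⊤) {u : G} (hu : u ∈ TT Z0 P S) (g : G) : g * u * g⁻¹ ∈ TT Z0 P (cj g S) := by
  have h1 : TT Z0 P S ≤ (TT Z0 P (cj g S)).comap (MulAut.conj g).toMonoidHom := by
    refine iSup_le fun i x hx => ?_
    exact p_le_tt (h.z0_conj S hS i i.2 g) (h.p_conj S hS i i.2 x hx g)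
  exact h1 hu

theorem oth_fix (hS : Syl S ⊤) {z w y g : G} (hg : g ∈ S) (hz : z ∈ Z0 S) (hw : w ∈ Z0 S) (e : g * z * g⁻¹ = w)
    (hy : y ∈ Oth (PP Z0 P S) ⟨z, hz⟩) : g * y * g⁻¹ ∈ Oth (PP Z0 P S) ⟨w, hw⟩ := by
  have h1 : Oth (PP Z0 P S) ⟨z, hz⟩ ≤ (Oth (PP Z0 P S) ⟨w, hw⟩).comap (MulAut.conj g).toMonoidHom := by
    refine Oth_le fun j hj x hx => ?_
    refine le_Oth (i := (⟨w, hw⟩ : Z0 S)) (j := ⟨g * j * g⁻¹, h.z0_fix hS j.2 hg⟩) ?_ (h.p_fix hS j.2 hx hg)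
    intro e1
    apply hj
    have e2 : g * (j : G) * g⁻¹ = w := congrArg Subtype.val e1
    rw [← e] at e2
    exact Subtype.ext (by simpa using e2)
  exact h1 hy

variable [Finite G]

theorem mem_FF_of_Z {e : G} {r : G → G → Prop} (hb : Blk Z0 O e r) (he1 : e ≠ 1) (hS : Syl S ⊤) (he : e ∈ ES Z0 S)
    {x : G} (hx : x ∈ Z) (hxe : x * e = e * x) : x ∈ FF hb := by
  have hx2 : IsPGroup 2 (zpowers x) := by
    rw [IsPGroup.iff_card]
    refine ⟨1, ?_⟩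
    rw [Nat.card_zpowers, pow_one]
    exact orderOf_eq_prime (by rw [pow_two]; exact h.z_sq x hx) (h.z_ne x hx)
  obtain ⟨c, hc, S', hS', h1, h2⟩ := exists_common (R₁ := S ⊓ centralizer {e}) (R₂ := zpowers x)
    (hS.2.1.to_le inf_le_left) hx2 inf_le_right
    ((zpowers_le).2 (mem_centralizer_singleton_iff.2 hxe))
  have he' : e ∈ ES Z0 (cj c S) := by
    have := h.es_conj hS he c
    rwa [conj_eq_self hc] at this
  have hsub : Z0 (cj c S) ⊆ Z0 S' := by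
    refine h.stab _ (syl_top_cj hS c) e he' he1 S' hS' fun y hy hye => ?_
    have h3 : c⁻¹ * y * c ∈ S ⊓ centralizer {e} := by
      refine mem_inf.2 ⟨mem_cj.1 hy, mem_centralizer_singleton_iff.2 ?_⟩
      have h4 := mul_comm' (mul_comm' (inv_comm' hc) hye) hc
      exact h4
    have h4 := h1 _ h3
    have e1 : c * (c⁻¹ * y * c) * c⁻¹ = y := by group
    rwa [e1] at h4
  have hxS : x ∈ S' := h2 (mem_zpowers x)
  obtain ⟨m, hm, hxm⟩ := h.z_part S' hS' x hx hxS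
  have he2 : e ∈ ES Z0 S' := (closure_mono hsub) he'
  exact mem_FF_of hb hS' he2 hxe fun w hw => h.tt_cen hS' hw (p_le_tt hm hxm)

omit h in
/-- a Sylow 2-subgroup containing `u` and conjugates of the centralisers of `u` -/
theorem exists_pair (h1 : Syl S₁ ⊤) (h2 : Syl S₂ ⊤) {u : G} :
    ∃ c : G, c * u = u * c ∧ ∃ S, Syl S ⊤ ∧ (∀ x ∈ cj c S₁, x * u = u * x → x ∈ S) ∧
      (∀ x ∈ S₂, x * u = u * x → x ∈ S) := by
  obtain ⟨c, hc, S', hS', h3, h4⟩ := exists_common (R₁ := S₁ ⊓ centralizer {u}) (R₂ := S₂ ⊓ centralizer {u})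
    (h1.2.1.to_le inf_le_left) (h2.2.1.to_le inf_le_left) inf_le_right inf_le_right
  refine ⟨c, hc, S', hS', fun y hy hyu => ?_, fun x hx hxu =>
    h4 (mem_inf.2 ⟨hx, mem_centralizer_singleton_iff.2 hxu⟩)⟩
  have h5 : c⁻¹ * y * c ∈ S₁ ⊓ centralizer {u} :=
    mem_inf.2 ⟨mem_cj.1 hy, mem_centralizer_singleton_iff.2 (mul_comm' (mul_comm' (inv_comm' hc) hyu) hc)⟩
  have h6 := h3 _ h5
  have e1 : c * (c⁻¹ * y * c) * c⁻¹ = y := by group
  rwa [e1] at h6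

/-- (c1): the chain `S₁ - S₃ - S₄ - S₂` -/
theorem exists_chain (h1 : Syl S₁ ⊤) (h2 : Syl S₂ ⊤) {u M : G} (hu : u ∈ TT Z0 P S₁) (hu2 : u ∈ S₂) (hM : M ∈ Z0 S₂)
    (huM : u * M = M * u) : ∃ c : G, c * u = u * c ∧ ∃ z ∈ Z0 (cj c S₁), ∃ S₄, Syl S₄ ⊤ ∧ u ∈ S₄ ∧ z ∈ Z0 S₄ ∧
      M ∈ Z0 S₄ := by
  obtain ⟨c, hc, S', hS', h3, h4⟩ := exists_pair h1 h2 (u := u)
  have h1' := syl_top_cj h1 c
  have hu' : u ∈ TT Z0 P (cj c S₁) := by
    have := h.tt_conj h1 hu c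
    rwa [conj_eq_self hc] at this
  have hMZ : M ∈ Z := h.z0_sub S₂ h2 M hM
  have hMS : M ∈ S' := h4 M (h.z0_mem h2 hM) huM.symm
  obtain ⟨m, hm, hMm⟩ := h.z_part S' hS' M hMZ hMS
  obtain ⟨z₁, hz1, z₂, hz2, hne⟩ := h.z0_nt _ h1'
  have key : ∃ z ∈ Z0 (cj c S₁), O z M := by
    have hz1S : z₁ ∈ S' := h3 z₁ (h.z0_mem h1' hz1) (h.tt_cen h1' hz1 hu').symm
    have hz2S : z₂ ∈ S' := h3 z₂ (h.z0_mem h1' hz2) (h.tt_cen h1' hz2 hu').symm
    have hz1Z := h.z0_sub _ h1' z₁ hz1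
    have hz2Z := h.z0_sub _ h1' z₂ hz2
    obtain ⟨m₁, hm1, hzm1⟩ := h.z_part S' hS' z₁ hz1Z hz1S
    obtain ⟨m₂, hm2, hzm2⟩ := h.z_part S' hS' z₂ hz2Z hz2S
    have h5 : m₁ ≠ m₂ := (h.o_iff S' hS' m₁ hm1 m₂ hm2 z₁ hzm1 z₂ hzm2 hz1Z hz2Z).1 (h.o_of_ne h1' hz1 hz2 hne)
    by_cases h6 : m₁ = m
    · exact ⟨z₂, hz2, (h.o_iff S' hS' m₂ hm2 m hm z₂ hzm2 M hMm hz2Z hMZ).2 (fun e => h5 (h6.trans e.symm))⟩
    · exact ⟨z₁, hz1, (h.o_iff S' hS' m₁ hm1 m hm z₁ hzm1 M hMm hz1Z hMZ).2 h6⟩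
  obtain ⟨z, hz, hoz⟩ := key
  obtain ⟨S₄, h5, h6, h7⟩ := h.ext u (pow_two_pow_eq_one h2.2.1 hu2) {z, M} (by
    rintro x (rfl | rfl)
    · exact ⟨h.z0_sub _ h1' _ hz, h.tt_cen h1' hz hu'⟩
    · exact ⟨hMZ, huM⟩) (by
    rintro x (rfl | rfl) y (rfl | rfl) hxy
    · exact absurd rfl hxy
    · exact hoz
    · exact h.o_symm _ _ hoz
    · exact absurd rfl hxy)
  exact ⟨c, hc, z, hz, S₄, h5, h6, h7 (Or.inl rfl), h7 (Or.inr rfl)⟩

/-- (c1) -/
theorem closed_of_fixed (h1 : Syl S₁ ⊤) (h2 : Syl S₂ ⊤) {u M : G} (hu : u ∈ TT Z0 P S₁) (hu2 : u ∈ S₂)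
    (hM : M ∈ Z0 S₂) (huM : u * M = M * u) : u ∈ TT Z0 P S₂ := by
  obtain ⟨c, hc, z, hz, S₄, h4, hu4, hz4, hM4⟩ := h.exists_chain h1 h2 hu hu2 hM huM
  have hu' : u ∈ TT Z0 P (cj c S₁) := by
    have := h.tt_conj h1 hu c
    rwa [conj_eq_self hc] at this
  exact h.lemmaA h4 h2 hM4 hM (h.lemmaA (syl_top_cj h1 c) h4 hz hz4 hu' hu4) hu2

/-- (c1) for the factors -/
theorem closed_part_of_fixed (h1 : Syl S₁ ⊤) (h2 : Syl S₂ ⊤) {u w M : G} (hw : w ∈ Z0 S₁) (hu : u ∈ P S₁ w)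
    (hu2 : u ∈ S₂) (hM : M ∈ Z0 S₂) (huM : u * M = M * u) : ∃ w' ∈ Z0 S₂, u ∈ P S₂ w' := by
  obtain ⟨c, hc, z, hz, S₄, h4, hu4, hz4, hM4⟩ := h.exists_chain h1 h2 (p_le_tt hw hu) hu2 hM huM
  have hu' : u ∈ P (cj c S₁) (c * w * c⁻¹) := by
    have := h.p_conj S₁ h1 w hw u hu c
    rwa [conj_eq_self hc] at this
  obtain ⟨w4, hw4, hu5⟩ := h.lemmaA_part (syl_top_cj h1 c) h4 hz hz4 (h.z0_conj S₁ h1 w hw c) hu' hu4
  exact h.lemmaA_part h4 h2 hM4 hM hw4 hu5 hu2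

/-- the centraliser of `u` in `TT S₂` is large if `u` moves all of `Z0 S₂` -/
theorem card_cen (h2 : Syl S₂ ⊤) {u : G} (hu2 : u ∈ S₂) (huu : u * u = 1) (hcon : ∀ M ∈ Z0 S₂, u * M ≠ M * u) :
    2 ^ Nat.card (Z0 S₂) ≤ Nat.card (TT Z0 P S₂ ⊓ centralizer {u} : Subgroup G) := by
  classical
  haveI := Fintype.ofFinite (Z0 S₂)
  have huinv : u⁻¹ = u := inv_eq_of_mul_eq_one_left huu
  set σ : Z0 S₂ → Z0 S₂ := fun i => ⟨u * i * u⁻¹, h.z0_fix h2 i.2 hu2⟩ with hσ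
  have hσσ : ∀ i, σ (σ i) = i := by
    intro i
    apply Subtype.ext
    change u * (u * (i : G) * u⁻¹) * u⁻¹ = i
    calc u * (u * (i : G) * u⁻¹) * u⁻¹ = (u * u) * i * (u * u)⁻¹ := by group
      _ = i := by rw [huu]; group
  have hσne : ∀ i, σ i ≠ i := by
    intro i e
    exact hcon i i.2 (comm_of_conj (congrArg Subtype.val e))
  obtain ⟨n, ⟨ε⟩⟩ := Finite.exists_equiv_fin (Z0 S₂)
  set R : Set (Z0 S₂) := {i | ε i < ε (σ i)} with hR
  have hR1 : ∀ i, i ∈ R → σ i ∉ R := by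
    intro i hi hi'
    rw [hR, Set.mem_ofPred_eq, hσσ] at hi'
    exact absurd hi (not_lt.2 hi'.le)
  have hR2 : ∀ i, i ∉ R → σ i ∈ R := by
    intro i hi
    rw [hR, Set.mem_ofPred_eq, hσσ]
    rw [hR, Set.mem_ofPred_eq, not_lt] at hi
    exact lt_of_le_of_ne hi fun e => hσne i (ε.injective e)
  have hcard : Nat.card (Z0 S₂) = 2 * Nat.card R := by
    have h3 : Rᶜ = σ '' R := by
      ext i
      constructor
      · exact fun hi => ⟨σ i, hR2 i hi, hσσ i⟩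
      · rintro ⟨j, hj, rfl⟩
        exact hR1 j hj
    have h4 : R.ncard + Rᶜ.ncard = Nat.card (Z0 S₂) := Set.ncard_add_ncard_compl R
    rw [h3, Set.ncard_image_of_injective R (fun i j e => by rw [← hσσ i, e, hσσ])] at h4
    rw [← h4, ← Nat.card_coe_set_eq]
    ring
  -- the elements
  set f' : (∀ i : R, P S₂ (i : Z0 S₂)) → Z0 S₂ → G := fun f i => if hi : i ∈ R then (f ⟨i, hi⟩ : G) else 1 with hf'
  have hf'1 : ∀ (f : ∀ i : R, P S₂ (i : Z0 S₂)) (i : Z0 S₂), f' f i ∈ P S₂ i := by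
    intro f i
    by_cases hi : i ∈ R
    · simp only [hf', dif_pos hi]
      exact (f ⟨i, hi⟩).2
    · simp only [hf', dif_neg hi]
      exact one_mem _
  set F : (∀ i : R, P S₂ (i : Z0 S₂)) → Z0 S₂ → G := fun f i => if i ∈ R then f' f i else u * f' f (σ i) * u⁻¹ with hFdef
  have hF : ∀ f i, F f i ∈ PP Z0 P S₂ i := by
    intro f i
    by_cases hi : i ∈ R
    · simp only [hFdef, if_pos hi]
      exact hf'1 f i
    · simp only [hFdef, if_neg hi]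
      have h3 := h.p_fix h2 (σ i).2 (hf'1 f (σ i)) hu2
      have h4 : u * (σ i : G) * u⁻¹ = i := congrArg Subtype.val (hσσ i)
      rw [h4] at h3
      exact h3
  have hFσ : ∀ f i, u * F f (σ i) * u⁻¹ = F f i := by
    intro f i
    by_cases hi : i ∈ R
    · simp only [hFdef, if_pos hi, if_neg (hR1 i hi), hσσ]
      calc u * (u * f' f i * u⁻¹) * u⁻¹ = (u * u) * f' f i * (u * u)⁻¹ := by group
        _ = f' f i := by rw [huu]; group
    · simp only [hFdef, if_neg hi, if_pos (hR2 i hi)]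
  choose x hxT hx _ using fun f => exists_of_coords (h.p_comm S₂ h2) _ (hF f)
  have hxu : ∀ f, x f * u = u * x f := by
    intro f
    have h3 : u * x f * u⁻¹ = x f := by
      refine eq_of_coords (P := PP Z0 P S₂) (h.p_comm S₂ h2) (h.p_indep S₂ h2) ?_ (hxT f) fun i => ?_
      · have h5 := h.tt_conj h2 (hxT f) u
        rw [cj_self hu2] at h5
        exact h5
      · obtain ⟨y, hy, e, -⟩ := hx f i
        obtain ⟨y', hy', e', -⟩ := hx f (σ i)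
        refine ⟨_, hF f i, u * y' * u⁻¹, ?_, y, hy, ?_, e⟩
        · exact h.oth_fix h2 hu2 (σ i).2 i.2 (congrArg Subtype.val (hσσ i)) hy'
        · rw [e', ← hFσ f i]
          group
    exact (comm_of_conj h3).symm
  have hxinj : Function.Injective fun f => (⟨x f, mem_inf.2 ⟨hxT f, mem_centralizer_singleton_iff.2 (hxu f)⟩⟩ :
      (TT Z0 P S₂ ⊓ centralizer {u} : Subgroup G)) := by
    intro f g hfg
    have e : x f = x g := congrArg Subtype.val hfg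
    funext i
    obtain ⟨y, hy, e1, -⟩ := hx f i
    obtain ⟨y', hy', e2, -⟩ := hx g i
    have e3 : F f i = F g i := coord_unique (h.p_indep S₂ h2) (hF f i) hy (hF g i) hy' (by rw [← e1, e, e2])
    simp only [hFdef, if_pos i.2, hf', dif_pos i.2] at e3
    exact Subtype.ext e3
  have h5 := Nat.card_le_card_of_injective _ hxinj
  refine le_trans ?_ h5
  rw [Nat.card_pi, hcard, pow_mul]
  have h6 : ∏ _i : R, (2 ^ 2) ≤ ∏ i : R, Nat.card (P S₂ (i : Z0 S₂)) :=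
    Finset.prod_le_prod' fun i _ => le_trans (by norm_num) (h.p_card S₂ h2 i i.1.2)
  rw [Finset.prod_const, Finset.card_univ, ← Nat.card_eq_fintype_card] at h6
  exact h6

theorem card_z0 (h1 : Syl S₁ ⊤) (h2 : Syl S₂ ⊤) : Nat.card (Z0 S₁) = Nat.card (Z0 S₂) := by
  have key : ∀ {A B : Subgroup G}, Syl A ⊤ → Syl B ⊤ → Nat.card (Z0 A) ≤ Nat.card (Z0 B) := by
    intro A B hA hB
    obtain ⟨k, -, hk⟩ := hA.exists_conj hB
    refine Nat.card_le_card_of_injective (fun z : Z0 A => (⟨k * z * k⁻¹, by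
      rw [← hk]; exact h.z0_conj A hA z z.2 k⟩ : Z0 B)) ?_
    intro z w e
    have e1 : k * (z : G) * k⁻¹ = k * w * k⁻¹ := congrArg Subtype.val e
    exact Subtype.ext (by simpa using e1)
  exact le_antisymm (key h1 h2) (key h2 h1)

/-- a central involution of `TT S ∩ C(u)` is in `⟨Z0 S⟩` if the involution `u ∈ S` moves all of `Z0 S` -/
theorem mem_es_of_central (hS : Syl S ⊤) {u x : G} (hu2 : u ∈ S) (huu : u * u = 1)
    (hcon : ∀ M ∈ Z0 S, u * M ≠ M * u) (hx : x ∈ TT Z0 P S) (hxx : x * x = 1)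
    (hxc : ∀ g ∈ TT Z0 P S ⊓ centralizer {u}, g * x = x * g) : x ∈ ES Z0 S := by
  obtain ⟨f, hf, hf', hK⟩ := exists_coord (h.p_comm S hS) hx
  refine hK _ fun i => ?_
  obtain ⟨y, hy, e⟩ := hf' i
  have hfy : f i * y = y * f i := Comm.oth (h.p_comm S hS) (hf i) hy
  have h1 : f i * f i = 1 := by
    have h2 : (f i * f i) * (y * y) = 1 * 1 := by
      rw [mul_one, ← hxx, e]
      exact sq_mul_sq hfy
    exact coord_unique (h.p_indep S hS) (mul_mem (hf i) (hf i)) (mul_mem hy hy) (one_mem _) (one_mem _) h2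
  have h2 : ∀ q ∈ P S i, f i * q = q * f i := by
    intro q hq
    set w : Z0 S := ⟨u * i * u⁻¹, h.z0_fix hS i.2 hu2⟩ with hw
    have hwi : w ≠ i := fun e => hcon i i.2 (comm_of_conj (congrArg Subtype.val e))
    have hq' : u * q * u⁻¹ ∈ P S w := h.p_fix hS i.2 hq hu2
    have hqq : q * (u * q * u⁻¹) = (u * q * u⁻¹) * q := h.p_comm S hS i w hwi.symm q hq _ hq'
    have hg : q * (u * q * u⁻¹) ∈ TT Z0 P S ⊓ centralizer {u} := by
      refine mem_inf.2 ⟨mul_mem (p_le_tt i.2 hq) (p_le_tt w.2 hq'), mem_centralizer_singleton_iff.2 ?_⟩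
      refine (comm_of_conj ?_).symm
      have huinv : u⁻¹ = u := inv_eq_of_mul_eq_one_left huu
      calc u * (q * (u * q * u⁻¹)) * u⁻¹ = (u * q * u⁻¹) * ((u * u) * q * (u * u)⁻¹) := by group
        _ = q * (u * q * u⁻¹) := by rw [huu, hqq]; group
    have h3 := hxc _ hg
    have hqw : u * q * u⁻¹ ∈ Oth (PP Z0 P S) i := le_Oth hwi hq'
    have h4 : (q * f i) * ((u * q * u⁻¹) * y) = (f i * q) * (y * (u * q * u⁻¹)) := by
      have e1 : (u * q * u⁻¹) * f i = f i * (u * q * u⁻¹) := (Comm.oth (h.p_comm S hS) (hf i) hqw).symm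
      have e2 : y * q = q * y := (Comm.oth (h.p_comm S hS) hq hy).symm
      calc (q * f i) * ((u * q * u⁻¹) * y) = q * (f i * (u * q * u⁻¹)) * y := by group
        _ = q * (u * q * u⁻¹) * (f i * y) := by rw [← e1]; group
        _ = (f i * y) * (q * (u * q * u⁻¹)) := by rw [← e]; exact h3
        _ = f i * (y * q) * (u * q * u⁻¹) := by group
        _ = (f i * q) * (y * (u * q * u⁻¹)) := by rw [e2]; group
    exact (coord_unique (h.p_indep S hS) (mul_mem hq (hf i)) (mul_mem hqw hy) (mul_mem (hf i) hq) (mul_mem hy hqw)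
      h4).symm
  rcases h.p_cen' S hS i i.2 (f i) (hf i) h1 h2 with h3 | h3
  · rw [h3]; exact one_mem _
  · rw [h3]; exact subset_closure i.2

/-- (c2) -/
theorem fixed_two (h1 : Syl S₁ ⊤) (h2 : Syl S₂ ⊤) {u : G} (hu : u ∈ TT Z0 P S₁) (hu2 : u ∈ S₂) (huu : u * u = 1) :
    ∃ M ∈ Z0 S₂, u * M = M * u := by
  by_contra hcon
  push Not at hcon
  obtain ⟨c, hc, S', hS', h3, h4⟩ := exists_pair h1 h2 (u := u)
  have h1' := syl_top_cj h1 c
  have hu' : u ∈ TT Z0 P (cj c S₁) := by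
    have := h.tt_conj h1 hu c
    rwa [conj_eq_self hc] at this
  -- the subgroup `Γ`
  set Γ : Subgroup G := TT Z0 P S₂ ⊓ centralizer {u} with hΓ
  have hΓS : Γ ≤ S' := fun x hx => h4 x (h.tt_le h2 hx.1) (mem_centralizer_singleton_iff.1 hx.2)
  have hΓ2 : IsPGroup 2 Γ := hS'.2.1.to_le hΓS
  have hΓn : ∀ g ∈ Γ, ∀ z ∈ Z0 S', g * z * g⁻¹ ∈ Z0 S' := fun g hg z hz => h.z0_fix hS' hz (hΓS hg)
  obtain ⟨g, hgΓ, hg1, hg⟩ := exists_fix_all hΓ2 (h.z0_nt S' hS').nonempty hΓn (by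
    rw [h.card_z0 hS' h2]
    exact h.card_cen h2 hu2 huu hcon)
  -- the kernel
  set K : Subgroup G := Γ ⊓ centralizer (Z0 S') with hK
  have hKne : K ≠ ⊥ := by
    intro e
    have h5 : g ∈ K := mem_inf.2 ⟨hgΓ, mem_centralizer_iff.2 fun z hz => (comm_of_conj (hg z hz)).symm⟩
    rw [e, mem_bot] at h5
    exact hg1 h5
  obtain ⟨e, heK, hee, he1, hec⟩ := exists_central hΓ2 (inf_le_left : K ≤ Γ) (fun a ha x hx => by
    refine mem_inf.2 ⟨Γ.mul_mem (Γ.mul_mem ha hx.1) (Γ.inv_mem ha), mem_centralizer_iff.2 fun z hz => ?_⟩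
    have h5 : a⁻¹ * z * a⁻¹⁻¹ ∈ Z0 S' := hΓn _ (Γ.inv_mem ha) z hz
    have h6 := mem_centralizer_iff.1 hx.2 _ h5
    calc z * (a * x * a⁻¹) = a * ((a⁻¹ * z * a⁻¹⁻¹) * x) * a⁻¹ := by group
      _ = a * (x * (a⁻¹ * z * a⁻¹⁻¹)) * a⁻¹ := by rw [h6]
      _ = a * x * a⁻¹ * z := by group) hKne
  have heΓ : e ∈ Γ := heK.1
  have heu : e * u = u * e := mem_centralizer_singleton_iff.1 heΓ.2
  have heS' : e ∈ S' := hΓS heΓ
  have heE : e ∈ ES Z0 S₂ := h.mem_es_of_central h2 hu2 huu hcon heΓ.1 hee hec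
  obtain ⟨r, hb⟩ := h.blk e he1 ⟨S₂, h2, heE⟩
  -- the coordinates of `u`
  obtain ⟨f, hf, hf', hKu⟩ := exists_coord' (h.p_comm _ h1') hu'
  have hfu : ∀ i, f i * u = u * f i := by
    intro i
    obtain ⟨y, hy, ey, -⟩ := hf' i
    have hfy : f i * y = y * f i := Comm.oth (h.p_comm _ h1') (hf i) hy
    rw [ey]
    calc f i * (f i * y) = f i * (y * f i) := by rw [hfy]
      _ = f i * y * f i := by group
  have hff : ∀ i, f i * f i = 1 := by
    intro i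
    obtain ⟨y, hy, ey, -⟩ := hf' i
    have hfy : f i * y = y * f i := Comm.oth (h.p_comm _ h1') (hf i) hy
    have h5 : (f i * f i) * (y * y) = 1 * 1 := by
      rw [mul_one, ← huu, ey]
      exact sq_mul_sq hfy
    exact coord_unique (h.p_indep _ h1') (mul_mem (hf i) (hf i)) (mul_mem hy hy) (one_mem _) (one_mem _) h5
  have hfS : ∀ i, f i ∈ S' := fun i => h3 _ (h.p_le _ h1' i i.2 (hf i)) (hfu i)
  have hfZ : ∀ i, f i ≠ 1 → f i ∈ Z := fun i hi => h.p_Z _ h1' i i.2 _ (hf i) (hff i) hi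
  -- `e` commutes with the coordinates
  have hef : ∀ i, f i * e = e * f i := by
    intro i
    by_cases hi : f i = 1
    · rw [hi]; group
    obtain ⟨m, hm, hfm⟩ := h.z_part S' hS' (f i) (hfZ i hi) (hfS i)
    obtain ⟨y, hy, ey, hyK⟩ := hf' i
    have hyO : y ∈ Oth (PP Z0 P S') ⟨m, hm⟩ := by
      refine hyK _ fun j hj => ?_
      by_cases hj1 : f j = 1
      · rw [hj1]; exact one_mem _
      obtain ⟨m', hm', hfm'⟩ := h.z_part S' hS' (f j) (hfZ j hj1) (hfS j)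
      have h5 : O (f j) (f i) := (h.o_iff _ h1' j j.2 i i.2 _ (hf j) _ (hf i) (hfZ j hj1) (hfZ i hi)).2
        (fun e => hj (Subtype.ext e))
      have h6 : m' ≠ m := (h.o_iff S' hS' m' hm' m hm _ hfm' _ hfm (hfZ j hj1) (hfZ i hi)).1 h5
      exact le_Oth (i := (⟨m, hm⟩ : Z0 S')) (j := ⟨m', hm'⟩) (fun e => h6 (congrArg Subtype.val e)) hfm'
    have hem : e * m * e⁻¹ = m := conj_eq_self ((mem_centralizer_iff.1 heK.2 m hm).symm)
    have h7 : e * f i * e⁻¹ ∈ P S' m := by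
      have := h.p_fix hS' hm hfm heS'
      rwa [hem] at this
    have h8 : e * y * e⁻¹ ∈ Oth (PP Z0 P S') ⟨m, hm⟩ := h.oth_fix hS' heS' hm hm hem hyO
    have h9 : f i * y = (e * f i * e⁻¹) * (e * y * e⁻¹) := by
      rw [← ey]
      have e5 : e * f i * e⁻¹ * (e * y * e⁻¹) = e * (f i * y) * e⁻¹ := by group
      rw [e5, ← ey, conj_eq_self heu]
    have h10 := coord_unique (h.p_indep S' hS') (i := ⟨m, hm⟩) hfm hyO h7 h8 h9
    exact (comm_of_conj h10.symm).symm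
  -- `u` fixes all classes
  have huF : u ∈ FF hb := by
    refine hKu _ fun i => ?_
    by_cases hi : f i = 1
    · rw [hi]; exact one_mem _
    · exact h.mem_FF_of_Z hb he1 h2 heE (hfZ i hi) (hef i)
  obtain ⟨M, hM⟩ := (h.z0_nt S₂ h2).nonempty
  have h5 := huF.2 M ⟨S₂, h2, heE, hM⟩
  exact hb.orth _ _ h5 (h.o_of_ne h2 hM (h.z0_fix h2 hM hu2) fun e => hcon M hM (comm_of_conj e.symm))

/-- replacing the members of `Z0 S` by coordinates of an involution of `TT S` -/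
theorem exists_rep (hS : Syl S ⊤) {e : G} (he : e ∈ TT Z0 P S) (hee : e * e = 1) :
    ∃ f : Z0 S → G, (∀ i : Z0 S, f i ∈ P S i) ∧ (∀ i, f i ∈ Z) ∧ e ∈ closure (Set.range f) ∧
      (∀ u, (∃ k : ℕ, u ^ 2 ^ k = 1) → (∀ i, u * f i = f i * u) → ∃ S', Syl S' ⊤ ∧ u ∈ S' ∧ Z0 S' = Set.range f) ∧
      (∀ g ∈ S, g * e = e * g → ∀ i j : Z0 S, (j : G) = g * (i : G) * g⁻¹ → f j = g * f i * g⁻¹) ∧
      (∀ u ∈ TT Z0 P S, (∃ m : ℕ, u ^ m = e) → ∀ i, u * f i = f i * u) := by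
  classical
  obtain ⟨f, hf, hf', hK⟩ := exists_coord (h.p_comm S hS) he
  have hff : ∀ i, f i * f i = 1 := by
    intro i
    obtain ⟨y, hy, ey⟩ := hf' i
    have hfy : f i * y = y * f i := Comm.oth (h.p_comm S hS) (hf i) hy
    have h5 : (f i * f i) * (y * y) = 1 * 1 := by
      rw [mul_one, ← hee, ey]
      exact sq_mul_sq hfy
    exact coord_unique (h.p_indep S hS) (mul_mem (hf i) (hf i)) (mul_mem hy hy) (one_mem _) (one_mem _) h5
  set w : Z0 S → G := fun i => if f i = 1 then (i : G) else f i with hw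
  have hwP : ∀ i : Z0 S, w i ∈ P S i := by
    intro i
    simp only [hw]
    split_ifs with h1
    · exact h.p_mem S hS i i.2
    · exact hf i
  have hwZ : ∀ i, w i ∈ Z := by
    intro i
    simp only [hw]
    split_ifs with h1
    · exact h.z0_sub S hS i i.2
    · exact h.p_Z S hS i i.2 _ (hf i) (hff i) h1
  have hfw : ∀ i, f i ∈ closure (Set.range w) := by
    intro i
    by_cases h1 : f i = 1
    · rw [h1]; exact one_mem _
    · have h2 : w i = f i := by simp only [hw, if_neg h1]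
      rw [← h2]
      exact subset_closure ⟨i, rfl⟩
  have hO : ∀ i j, i ≠ j → O (w i) (w j) := fun i j hij =>
    (h.o_iff S hS i i.2 j j.2 _ (hwP i) _ (hwP j) (hwZ i) (hwZ j)).2 fun e => hij (Subtype.ext e)
  have hinj : Function.Injective w := by
    intro i j e
    by_contra hij
    have h1 := hO i j hij
    have h2 := hwP j
    rw [← e] at h2
    have h3 : w i = 1 := Indep.disj (h.p_indep S hS) hij (hwP i) h2
    exact h.z_ne _ (hwZ i) h3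
  refine ⟨w, hwP, hwZ, hK _ hfw, ?_, ?_, ?_⟩
  · intro u hu huw
    obtain ⟨S', hS', huS, hJ⟩ := h.ext u hu (Set.range w) (by
      rintro _ ⟨i, rfl⟩
      exact ⟨hwZ i, huw i⟩) (by
      rintro _ ⟨i, rfl⟩ _ ⟨j, rfl⟩ hij
      exact hO i j fun e => hij (by rw [e]))
    refine ⟨S', hS', huS, ?_⟩
    symm
    refine Set.eq_of_subset_of_ncard_le hJ ?_
    rw [← Nat.card_coe_set_eq, ← h.card_z0 hS hS', ← Set.image_univ, Set.ncard_image_of_injective _ hinj,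
      Set.ncard_univ]
  · intro g hg hge i j hij
    have h1 : f j = g * f i * g⁻¹ := by
      obtain ⟨y, hy, ey⟩ := hf' i
      obtain ⟨y', hy', ey'⟩ := hf' j
      have h2 : g * f i * g⁻¹ ∈ P S j := by
        have := h.p_fix hS i.2 (hf i) hg
        rwa [← hij] at this
      have h3 : g * y * g⁻¹ ∈ Oth (PP Z0 P S) j := h.oth_fix hS hg i.2 j.2 hij.symm hy
      refine coord_unique (h.p_indep S hS) (hf j) hy' h2 h3 ?_
      rw [← ey']
      have e5 : g * f i * g⁻¹ * (g * y * g⁻¹) = g * (f i * y) * g⁻¹ := by group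
      rw [e5, ← ey, conj_eq_self hge]
    simp only [hw]
    by_cases h4 : f i = 1
    · have h5 : f j = 1 := by rw [h1, h4]; group
      rw [if_pos h4, if_pos h5, hij]
    · have h5 : f j ≠ 1 := by
        rw [h1]
        intro e1
        apply h4
        have : f i = g⁻¹ * (g * f i * g⁻¹) * g := by group
        rw [this, e1]; group
      rw [if_neg h4, if_neg h5, h1]
  · rintro u hu ⟨m, hm⟩ i
    obtain ⟨x, hx, y, hy, e⟩ := exists_split (h.p_comm S hS) hu i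
    have hxy : x * y = y * x := Comm.oth (h.p_comm S hS) hx hy
    obtain ⟨y', hy', ey'⟩ := hf' i
    have h1 : f i = x ^ m := by
      refine coord_unique (h.p_indep S hS) (hf i) hy' (pow_mem hx m) (pow_mem hy m) ?_
      rw [← ey', ← hm, e]
      exact (Commute.mul_pow hxy m)
    simp only [hw]
    split_ifs with h2
    · exact h.tt_cen hS i.2 hu
    · rw [h1, e]
      have h3 : x * x ^ m = x ^ m * x := (pow_succ' x m).symm.trans (pow_succ x m)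
      have h4 : y * x ^ m = x ^ m * y := Commute.pow_right hxy.symm m
      rw [mul_assoc, h4, ← mul_assoc, h3, mul_assoc]

/-- an element of `TT S₁ ∩ S₂` centralises a member of `Z0 S₂` -/
theorem exists_fixed (h1 : Syl S₁ ⊤) (h2 : Syl S₂ ⊤) {u : G} (hu : u ∈ TT Z0 P S₁) (hu2 : u ∈ S₂) :
    ∃ M ∈ Z0 S₂, u * M = M * u := by
  by_cases hu1 : u = 1
  · obtain ⟨M, hM⟩ := (h.z0_nt S₂ h2).nonempty
    exact ⟨M, hM, by rw [hu1]; group⟩
  obtain ⟨k, hk⟩ := pow_two_pow_eq_one h2.2.1 hu2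
  obtain ⟨m, hm, hm1⟩ := exists_pow_inv hk hu1
  set e : G := u ^ m with he
  have heT1 : e ∈ TT Z0 P S₁ := pow_mem hu m
  have heS2 : e ∈ S₂ := pow_mem hu2 m
  have hue : u * e = e * u := (pow_succ' u m).symm.trans (pow_succ u m)
  obtain ⟨M0, hM0, heM0⟩ := h.fixed_two h1 h2 heT1 heS2 hm
  have heT2 : e ∈ TT Z0 P S₂ := h.closed_of_fixed h1 h2 heT1 heS2 hM0 heM0
  obtain ⟨f₁, -, -, hc1, he1, -, hcen1⟩ := h.exists_rep h1 heT1 hm
  obtain ⟨f₂, hf2P, hf2Z, hc2, he2, hconj2, -⟩ := h.exists_rep h2 heT2 hm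
  obtain ⟨T₁, hT1, huT1, hZ1⟩ := he1 u ⟨k, hk⟩ (hcen1 u hu ⟨m, rfl⟩)
  obtain ⟨T₂, hT2, -, hZ2⟩ := he2 1 ⟨0, by simp⟩ (fun i => by group)
  have heE1 : e ∈ ES Z0 T₁ := by rw [ES, hZ1]; exact hc1
  have heE2 : e ∈ ES Z0 T₂ := by rw [ES, hZ2]; exact hc2
  obtain ⟨r, hb⟩ := h.blk e hm1 ⟨T₁, hT1, heE1⟩
  have huF : u ∈ FF hb := by
    refine mem_FF_of hb hT1 heE1 hue fun w hw => ?_
    rw [hZ1] at hw
    obtain ⟨i, rfl⟩ := hw
    exact hcen1 u hu ⟨m, rfl⟩ i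
  obtain ⟨M, hM⟩ := (h.z0_nt S₂ h2).nonempty
  refine ⟨M, hM, ?_⟩
  by_contra hne
  have hM' : u * M * u⁻¹ ∈ Z0 S₂ := h.z0_fix h2 hM hu2
  have h5 := hconj2 u hu2 hue ⟨M, hM⟩ ⟨_, hM'⟩ rfl
  have h6 := huF.2 (f₂ ⟨M, hM⟩) ⟨T₂, hT2, heE2, by rw [hZ2]; exact ⟨_, rfl⟩⟩
  rw [← h5] at h6
  refine hb.orth _ _ h6 ((h.o_iff S₂ h2 M hM _ hM' _ (hf2P ⟨M, hM⟩) _ (hf2P ⟨_, hM'⟩) (hf2Z _) (hf2Z _)).2 ?_)
  exact fun e => hne (comm_of_conj e.symm)

/-- **STRONG CLOSURE** -/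
theorem closed (h1 : Syl S₁ ⊤) (h2 : Syl S₂ ⊤) {u : G} (hu : u ∈ TT Z0 P S₁) (hu2 : u ∈ S₂) : u ∈ TT Z0 P S₂ := by
  obtain ⟨M, hM, huM⟩ := h.exists_fixed h1 h2 hu hu2
  exact h.closed_of_fixed h1 h2 hu hu2 hM huM

/-- **STRONG CLOSURE** for the factors -/
theorem closed_part (h1 : Syl S₁ ⊤) (h2 : Syl S₂ ⊤) {u w : G} (hw : w ∈ Z0 S₁) (hu : u ∈ P S₁ w) (hu2 : u ∈ S₂) :
    ∃ w' ∈ Z0 S₂, u ∈ P S₂ w' := by
  obtain ⟨M, hM, huM⟩ := h.exists_fixed h1 h2 (p_le_tt hw hu) hu2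
  exact h.closed_part_of_fixed h1 h2 hw hu hu2 hM huM

end TP

end Cfsg.Agent.Cit.Nil.CV.TProd
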