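import Cfsg.Agent.Cit.Nil.CV.TProdC
import Cfsg.Agent.PermParts.Consumer

/-!
# The abstract T-type product theorem: the end

`TP.false`: there is no configuration `TP` in a group `G` with `O(G) = 1` which has a normal simple subgroup `X` with
`C_G(X) = 1`.
-/

set_option autoImplicit false
set_option linter.style.haveILetI false

namespace Cfsg.Agent.Cit.Nil.CV.TProd

open Subgroup Cfsg
open Cfsg.Agent.Cit
open Cfsg.Agent.TwoFusion.ClosedFam (fam IsClosedFam)

universe u v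

/-! ### The ambient group -/

/-- In a group with a normal simple subgroup `X` with `C_G(X) = 1` every nontrivial subgroup normalised by `X`
contains `X`. -/
theorem le_of_norm {G : Type u} [Group G] {X : Subgroup G} (hX : X.Normal) (hXs : IsSimpleGroup X)
    (hXc : centralizer (X : Set G) = ⊥) {K : Subgroup G} (hK : ∀ g ∈ X, ∀ k ∈ K, g * k * g⁻¹ ∈ K) (hne : K ≠ ⊥) :
    X ≤ K := by
  have h1 : (K.subgroupOf X).Normal := by
    refine ⟨fun n hn g => ?_⟩
    rw [mem_subgroupOf] at hn ⊢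
    exact hK g g.2 _ hn
  rcases IsSimpleGroup.eq_bot_or_eq_top_of_normal _ h1 with h | h
  · exfalso
    apply hne
    rw [eq_bot_iff, ← hXc]
    intro k hk
    rw [mem_centralizer_iff]
    intro x hx
    have h3 : x * k * x⁻¹ * k⁻¹ ∈ X := by
      have h5 : x * k * x⁻¹ * k⁻¹ = x * (k * x⁻¹ * k⁻¹) := by group
      rw [h5]
      exact X.mul_mem hx (hX.conj_mem _ (X.inv_mem hx) k)
    have h4 : (⟨x * k * x⁻¹ * k⁻¹, h3⟩ : X) ∈ K.subgroupOf X := by
      rw [mem_subgroupOf]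
      exact K.mul_mem (hK x hx k hk) (K.inv_mem hk)
    rw [h, mem_bot] at h4
    have h6 : x * k * x⁻¹ * k⁻¹ = 1 := congrArg Subtype.val h4
    calc x * k = (x * k * x⁻¹ * k⁻¹) * k * x := by group
      _ = k * x := by rw [h6, one_mul]
  · intro x hx
    have h3 : (⟨x, hx⟩ : X) ∈ K.subgroupOf X := by rw [h]; trivial
    rwa [mem_subgroupOf] at h3

/-- The permuted product theorem in a group with `O(G) = 1` with a normal simple subgroup `X` with `C_G(X) = 1`. -/
theorem parts_eq {G : Type u} [Group G] [Finite G] {ι : Type v} {𝒜 : Set G} {S : Sylow 2 G} {P : ι → Subgroup G}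
    (h : Cfsg.Agent.PermParts.OfProd.Data 𝒜 S P)
    (hr : ∀ i, ∀ x ∈ P i, orderOf x = 2 → ∃ y ∈ P i, orderOf y = 2 ∧ y ≠ x ∧ x * y = y * x)
    (hO : Cfsg.oddCore G = ⊥) {X : Subgroup G} (hX : X.Normal) (hXs : IsSimpleGroup X)
    (hXc : centralizer (X : Set G) = ⊥) {i j : ι} (hi : P i ≠ ⊥) (hj : P j ≠ ⊥) : i = j := by
  by_contra hij
  have hex : ∀ k, P k ≠ ⊥ → ∃ x ∈ P k, x ≠ 1 := fun k hk => by
    obtain ⟨⟨a, ha⟩, ha1⟩ := ne_bot_iff_exists_ne_one.1 hk
    exact ⟨a, ha, fun e => ha1 (Subtype.ext e)⟩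
  obtain ⟨x, hx, hx1⟩ := hex i hi
  obtain ⟨y, hy, hy1⟩ := hex j hj
  -- `X ≤ ⟨𝒜⟩`
  have hXA : X ≤ fam 𝒜 (⊤ : Subgroup G) := by
    refine le_of_norm hX hXs hXc ?_ ?_
    · intro g _ k hk
      have h1 : fam 𝒜 (⊤ : Subgroup G) ≤ (fam 𝒜 (⊤ : Subgroup G)).comap (MulAut.conj g).toMonoidHom := by
        unfold fam
        rw [closure_le]
        rintro a ⟨ha, -⟩
        exact subset_closure ⟨h.fam.conj_mem a ha g, trivial⟩
      exact h1 hk
    · intro h1
      have h2 : x ∈ fam 𝒜 (⊤ : Subgroup G) := subset_closure ⟨(h.le i x hx).1, trivial⟩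
      rw [h1, mem_bot] at h2
      exact hx1 h2
  have hcomm : ∀ g ∈ X, g * x * g⁻¹ * y = y * (g * x * g⁻¹) := by
    intro g hg
    have h1 := Cfsg.Agent.PermParts.Consumer.commutator_mem_of_data h hr hij hx hy (hXA hg)
    rw [hO, mem_bot] at h1
    calc g * x * g⁻¹ * y = (g * x * g⁻¹ * y * (g * x * g⁻¹)⁻¹ * y⁻¹) * y * (g * x * g⁻¹) := by group
      _ = y * (g * x * g⁻¹) := by rw [h1, one_mul]
  -- the subgroup generated by the conjugates of `x` under `X`
  set K : Subgroup G := closure {z | ∃ g ∈ X, z = g * x * g⁻¹} with hK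
  have hKX : X ≤ K := by
    refine le_of_norm hX hXs hXc ?_ ?_
    · intro g hg k hk
      have h1 : K ≤ K.comap (MulAut.conj g).toMonoidHom := by
        conv_lhs => rw [hK]
        rw [closure_le]
        rintro _ ⟨c, hc, rfl⟩
        refine subset_closure ⟨g * c, X.mul_mem hg hc, ?_⟩
        change g * (c * x * c⁻¹) * g⁻¹ = _
        group
      exact h1 hk
    · intro h1
      have h2 : x ∈ K := subset_closure ⟨1, X.one_mem, by group⟩
      rw [h1, mem_bot] at h2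
      exact hx1 h2
  have hKy : K ≤ centralizer {y} := by
    rw [hK, closure_le]
    rintro _ ⟨g, hg, rfl⟩
    rw [SetLike.mem_coe, mem_centralizer_singleton_iff]
    exact hcomm g hg
  have h1 : y ∈ centralizer (X : Set G) := by
    rw [mem_centralizer_iff]
    intro g hg
    exact mem_centralizer_singleton_iff.1 (hKy (hKX hg))
  rw [hXc, mem_bot] at h1
  exact hy1 h1

namespace TP

variable {G : Type u} [Group G] [Finite G] {Z : Set G} {Z0 : Subgroup G → Set G} {P : Subgroup G → G → Subgroup G}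
  {O : G → G → Prop} {L : G → G → Subgroup G} (h : TP Z Z0 P O L)

/-- the union of the `TT S` -/
def AA (Z0 : Subgroup G → Set G) (P : Subgroup G → G → Subgroup G) : Set G := {x | ∃ S, Syl S ⊤ ∧ x ∈ TT Z0 P S}

theorem syl_coe (S : Sylow 2 G) : Syl (S : Subgroup G) ⊤ := by
  haveI : Fact (Nat.Prime 2) := ⟨Nat.prime_two⟩
  refine ⟨le_top, S.isPGroup', ?_⟩
  rw [relIndex_top_right]
  exact S.not_dvd_index

theorem exists_syl_of_isPGroup {Q : Subgroup G} (hQ : IsPGroup 2 Q) : ∃ S, Syl S ⊤ ∧ Q ≤ S :=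
  exists_syl_ge hQ le_top

include h

theorem aa_iff {S : Subgroup G} (hS : Syl S ⊤) {x : G} (hx : x ∈ S) : x ∈ AA Z0 P ↔ x ∈ TT Z0 P S :=
  ⟨fun ⟨S', hS', h1⟩ => h.closed hS' hS h1 hx, fun h1 => ⟨S, hS, h1⟩⟩

theorem isClosedFam : IsClosedFam (AA Z0 P) where
  one_mem := by
    obtain ⟨S, hS, -⟩ := exists_syl_of_isPGroup (IsPGroup.of_bot (p := 2) (G := G))
    exact ⟨S, hS, one_mem _⟩
  conj_mem := by
    rintro x ⟨S, hS, hx⟩ g
    exact ⟨cj g S, syl_top_cj hS g, h.tt_conj hS hx g⟩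
  two := by
    rintro x ⟨S, hS, hx⟩
    exact pow_two_pow_eq_one hS.2.1 (h.tt_le hS hx)
  mul_mem := by
    intro Q hQ x hx y hy hx' hy'
    obtain ⟨S, hS, hQS⟩ := exists_syl_of_isPGroup hQ
    rw [h.aa_iff hS (hQS hx)] at hx'
    rw [h.aa_iff hS (hQS hy)] at hy'
    exact ⟨S, hS, mul_mem hx' hy'⟩

/-- the data of the permuted product theorem -/
theorem data (S : Sylow 2 G) : Cfsg.Agent.PermParts.OfProd.Data (AA Z0 P) S (PP Z0 P (S : Subgroup G)) where
  fam := h.isClosedFam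
  le := fun i x hx => ⟨⟨S, syl_coe S, p_le_tt i.2 hx⟩, h.p_le S (syl_coe S) i i.2 hx⟩
  norm := by
    intro i x hx q hq hqA
    rw [h.aa_iff (syl_coe S) hq] at hqA
    have h1 := h.p_fix (syl_coe S) i.2 hx hq
    rwa [conj_eq_self (h.tt_cen (syl_coe S) i.2 hqA)] at h1
  indep := fun i x hx hx' => h.p_indep S (syl_coe S) i x hx hx'
  closed := by
    intro i x hx g hg
    have h1 := syl_top_cj (syl_coe S) g
    have h2 : g * x * g⁻¹ ∈ P (cj g (S : Subgroup G)) (g * i * g⁻¹) := h.p_conj S (syl_coe S) i i.2 x hx g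
    obtain ⟨w, hw, h3⟩ := h.closed_part h1 (syl_coe S) (h.z0_conj S (syl_coe S) i i.2 g) h2 hg
    exact ⟨⟨w, hw⟩, h3⟩

/-- every involution of a factor is in a four-subgroup of the factor -/
theorem rich {S : Subgroup G} (hS : Syl S ⊤) {z x : G} (hz : z ∈ Z0 S) (hx : x ∈ P S z) (ho : orderOf x = 2) :
    ∃ y ∈ P S z, orderOf y = 2 ∧ y ≠ x ∧ x * y = y * x := by
  have hzo : orderOf z = 2 := orderOf_eq_prime (by rw [pow_two]; exact h.z_sq z (h.z0_sub S hS z hz))
    (h.z_ne z (h.z0_sub S hS z hz))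
  by_cases hxz : x = z
  · obtain ⟨y, hy, hyy, hy1, hyz⟩ := h.p_two S hS z hz
    exact ⟨y, hy, orderOf_eq_prime (by rw [pow_two]; exact hyy) hy1, by rw [hxz]; exact hyz, by
      rw [hxz]; exact (h.p_cen S hS z hz y hy).symm⟩
  · exact ⟨z, h.p_mem S hS z hz, hzo, Ne.symm hxz, h.p_cen S hS z hz x hx⟩

/-- **THE T-TYPE PRODUCT THEOREM** -/
theorem false (hO : Cfsg.oddCore G = ⊥) {X : Subgroup G} (hX : X.Normal) (hXs : IsSimpleGroup X)
    (hXc : centralizer (X : Set G) = ⊥) : False := by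
  haveI : Fact (Nat.Prime 2) := ⟨Nat.prime_two⟩
  obtain ⟨S⟩ : Nonempty (Sylow 2 G) := inferInstance
  have hS := syl_coe S
  obtain ⟨z, hz, w, hw, hne⟩ := h.z0_nt S hS
  have hP : ∀ i : Z0 (S : Subgroup G), PP Z0 P (S : Subgroup G) i ≠ ⊥ := by
    intro i e
    have h1 : (i : G) ∈ PP Z0 P (S : Subgroup G) i := h.p_mem S hS i i.2
    rw [e, mem_bot] at h1
    exact h.z_ne _ (h.z0_sub S hS i i.2) h1
  have h1 := parts_eq (h.data S) (fun i x hx ho => h.rich hS i.2 hx ho) hO hX hXs hXc (hP ⟨z, hz⟩) (hP ⟨w, hw⟩)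
  exact hne (congrArg Subtype.val h1)

end TP

end Cfsg.Agent.Cit.Nil.CV.TProd
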