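import Cfsg.Agent.Cit.Nil.CV.SecTwo

/-!
# (6b)(CV): transitivity on the roots, the three cases

* `CVW.exists_tr` : the pairs `(A, ± v)`, `v` a root of `A`, are conjugate (one class of members);
* `CVW.trich` : rank one, type `A2`, rank at least three.
-/

set_option autoImplicit false
set_option linter.style.haveILetI false
set_option linter.unusedSectionVars false

namespace Cfsg.Agent.Cit.CV

open Subgroup Cfsg Cit Tau

variable {G : Type*} [Group G] {Om : Set (Subgroup G)} {U : Subgroup G → Subgroup G} {A B K L N : Subgroup G}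
  {a b e f g s t u v w x y : G}

/-- no root is linked to another root -/
def RkOne (Om : Set (Subgroup G)) (U : Subgroup G → Subgroup G) (A : Subgroup G) : Prop :=
  ∀ v ∈ RR Om U A, ∀ w ∈ RR Om U A, ¬ Lk Om U v w

/-- every component is of type `A2` -/
def RkTwo (Om : Set (Subgroup G)) (U : Subgroup G → Subgroup G) (A : Subgroup G) : Prop :=
  ∀ v ∈ RR Om U A, ∃ w ∈ RR Om U A, Lk Om U v w ∧ ∀ u ∈ RR Om U A, Lk Om U v u →
    u = w ∨ u = w⁻¹ ∨ u = rf Om U v w ∨ u = (rf Om U v w)⁻¹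

namespace CVW

variable [Finite G]

theorem RR_cj' (h : CVW Om U) (hv : v ∈ RR Om U A) (g : G) : g * v * g⁻¹ ∈ RR Om U (cj g A) := (h.RR_cj g).1 hv

/-- equivariance of `al` -/
theorem al_cj' (h : CVW Om U) (hA : IsA Om U A) (hv : v ∈ RR Om U A) (ha : a ∈ A) (g : G) :
    al Om U (g * v * g⁻¹) (g * a * g⁻¹) = al Om U v a := by
  have hv' := h.RR_cj' hv g
  obtain ⟨hvA, hv4, K, hK, hvK⟩ := hv
  obtain ⟨y, hy, hyX⟩ := h.exists_y hK
  refine h.al_eq (h.isA_cj hA g) (h.hyp.conj K hK g) (h.vch.conj_mem hK hvK g) (orderOf_conj_four hv4 g) hv'.1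
    (conj_mem_cj hy) (fun hh => hyX ((Tau.conj_mem_XX (h.vch.cj K hK g)).mp hh)) (conj_mem_cj ha) ?_
  have h1 := h.al_spec hA hK hvK hv4 hvA hy hyX ha
  calc g * y * g⁻¹ * (g * a * g⁻¹) * (g * y * g⁻¹)⁻¹ = g * (y * a * y⁻¹) * g⁻¹ := by group
    _ = g * a * g⁻¹ * (g * pw v (-al Om U v a) * g⁻¹) := by rw [h1]; group
    _ = g * a * g⁻¹ * pw (g * v * g⁻¹) (-al Om U v a) := by rw [conj_pw]

theorem rf_cj (h : CVW Om U) (hA : IsA Om U A) (hv : v ∈ RR Om U A) (ha : a ∈ A) (g : G) :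
    rf Om U (g * v * g⁻¹) (g * a * g⁻¹) = g * rf Om U v a * g⁻¹ := by
  rw [rf, rf, h.al_cj' hA hv ha, ← conj_pw]
  group

/-- the pairs `(A, ± v)` are conjugate -/
theorem exists_tr (h : CVW Om U) (one : ∀ K ∈ Om, ∀ L ∈ Om, ∃ g, L = cj g K) (hA : IsA Om U A) (hB : IsA Om U B)
    (hv : v ∈ RR Om U A) (hw : w ∈ RR Om U B) : ∃ g, B = cj g A ∧ (w = g * v * g⁻¹ ∨ w = g * v⁻¹ * g⁻¹) := by
  obtain ⟨hvA, hv4, K, hK, hvK⟩ := id hv
  obtain ⟨hwB, hw4, L, hL, hwL⟩ := id hw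
  obtain ⟨g, rfl⟩ := one K hK L hL
  have h1 := h.eq_or_inv hL (h.vch.conj_mem hK hvK g) (orderOf_conj_four hv4 g) hwL hw4
  have h2 : w = g * v * g⁻¹ ∨ w = g * v⁻¹ * g⁻¹ := by
    rcases h1 with h1 | h1
    · exact Or.inl h1
    · right; rw [h1]; group
  -- both `cj g A` and `B` centralise `w`
  have h3 : w ∈ cj g A := by
    rcases h2 with h2 | h2
    · rw [h2]; exact conj_mem_cj hvA
    · rw [h2]; exact conj_mem_cj (A.inv_mem hvA)
  have hA' := h.isA_cj hA g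
  have h4 : cj g A ≤ centralizer {w} := fun x hx => mem_centralizer_singleton_iff.mpr (h.comm hA' hx h3)
  have h5 : B ≤ centralizer {w} := fun x hx => mem_centralizer_singleton_iff.mpr (h.comm hB hx hwB)
  obtain ⟨R1, hR1, hAR⟩ := LB.exists_syl_ge (isA_two hA') h4
  obtain ⟨R2, hR2, hBR⟩ := LB.exists_syl_ge (isA_two hB) h5
  obtain ⟨c, hc, hcR⟩ := hR1.exists_conj hR2
  have h6 : cj c (cj g A) = B := by
    rw [← h.WW_eq hA' hR1.2.1 hAR, ← h.WW_cj, hcR, h.WW_eq hB hR2.2.1 hBR]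
  rw [mem_centralizer_singleton_iff] at hc
  have h7 : c * w * c⁻¹ = w := by rw [hc, mul_inv_cancel_right]
  refine ⟨c * g, by rw [← h6, cj_mul], ?_⟩
  rcases h2 with h2 | h2
  · left
    rw [← h7, h2]; group
  · right
    rw [← h7, h2]; group

theorem exists_mem (h : CVW Om U) (hne : Om.Nonempty) : ∃ A, IsA Om U A ∧ ∃ v, v ∈ RR Om U A := by
  obtain ⟨K, hK⟩ := hne
  obtain ⟨v, hvK, hv4⟩ := h.exists_v hK
  obtain ⟨S, hKS⟩ := (h.two K hK).exists_le_sylow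
  exact ⟨WW Om U (S : Subgroup G), ⟨S, rfl⟩, v, subset_closure ⟨hKS (h.vch.le K hK hvK), hv4, K, hK, hvK⟩, hv4, K, hK, hvK⟩

theorem exists_mem' (h : CVW Om U) (hne : Om.Nonempty) (hA : IsA Om U A) : ∃ v, v ∈ RR Om U A := by
  obtain ⟨B, hB, v, hv⟩ := h.exists_mem hne
  obtain ⟨g, rfl⟩ := isA_conj hB h hA
  exact ⟨_, h.RR_cj' hv g⟩

theorem lk_inv_left (h : CVW Om U) (hA : IsA Om U A) (hv : v ∈ RR Om U A) (hw : w ∈ RR Om U A) :
    Lk Om U v⁻¹ w ↔ Lk Om U v w := by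
  rw [lk_iff, lk_iff, h.al_neg hA hv hw.1]
  generalize al Om U v w = i
  revert i
  decide

theorem rf_inv_left (h : CVW Om U) (hA : IsA Om U A) (hv : v ∈ RR Om U A) (hw : w ∈ RR Om U A) :
    rf Om U v⁻¹ w = rf Om U v w := by
  rw [rf, rf, h.al_neg hA hv hw.1, pw_inv hv.2.1, neg_neg]

/-- a property of the pairs `(A, v)` which is invariant under conjugation and under `v ↦ v⁻¹` holds everywhere if it holds
somewhere -/
theorem transport (h : CVW Om U) (one : ∀ K ∈ Om, ∀ L ∈ Om, ∃ g, L = cj g K) {P : Subgroup G → G → Prop}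
    (hP : ∀ A, IsA Om U A → ∀ v ∈ RR Om U A, P A v → P A v⁻¹)
    (hc : ∀ A, IsA Om U A → ∀ v ∈ RR Om U A, ∀ g, P A v → P (cj g A) (g * v * g⁻¹)) (hA : IsA Om U A)
    (hv : v ∈ RR Om U A) (h0 : P A v) : ∀ B, IsA Om U B → ∀ w ∈ RR Om U B, P B w := by
  intro B hB w hw
  obtain ⟨g, rfl, h1⟩ := h.exists_tr one hA hB hv hw
  rcases h1 with rfl | rfl
  · exact hc A hA v hv g h0
  · exact hc A hA v⁻¹ (RR_inv hv) g (hP A hA v hv h0)

/-- the roots of `cj g A` -/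
theorem exists_of_cj (h : CVW Om U) (hu : u ∈ RR Om U (cj g A)) : ∃ x ∈ RR Om U A, u = g * x * g⁻¹ := by
  refine ⟨g⁻¹ * u * g, ?_, by group⟩
  have h1 := h.RR_cj' hu g⁻¹
  rwa [cj_inv_cj, inv_inv] at h1

/-- **the three cases** -/
theorem trich (h : CVW Om U) (one : ∀ K ∈ Om, ∀ L ∈ Om, ∃ g, L = cj g K) (hne : Om.Nonempty) :
    (∀ A, IsA Om U A → RkOne Om U A) ∨ (∀ A, IsA Om U A → RkTwo Om U A) ∨ ∀ A, IsA Om U A → RkThree Om U A := by
  obtain ⟨A, hA, v, hv⟩ := h.exists_mem hne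
  by_cases h1 : ∃ w ∈ RR Om U A, Lk Om U v w
  swap
  · left
    push Not at h1
    refine h.transport one (P := fun A v => ∀ w ∈ RR Om U A, ¬ Lk Om U v w) ?_ ?_ hA hv h1
    · intro A hA v hv h2 w hw
      rw [h.lk_inv_left hA hv hw]
      exact h2 w hw
    · intro A hA v hv g h2 w hw
      obtain ⟨x, hx, rfl⟩ := h.exists_of_cj hw
      unfold Lk
      rw [h.al_cj' hA hv hx.1]
      exact h2 x hx
  obtain ⟨w, hw, hl⟩ := h1
  right
  by_cases h2 : ∀ u ∈ RR Om U A, Lk Om U v u → u = w ∨ u = w⁻¹ ∨ u = rf Om U v w ∨ u = (rf Om U v w)⁻¹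
  · left
    refine h.transport one (P := fun A v => ∃ w ∈ RR Om U A, Lk Om U v w ∧ ∀ u ∈ RR Om U A, Lk Om U v u →
      u = w ∨ u = w⁻¹ ∨ u = rf Om U v w ∨ u = (rf Om U v w)⁻¹) ?_ ?_ hA hv ⟨w, hw, hl, h2⟩
    · rintro A hA v hv ⟨w, hw, h3, h4⟩
      refine ⟨w, hw, (h.lk_inv_left hA hv hw).2 h3, fun u hu h5 => ?_⟩
      rw [h.rf_inv_left hA hv hw]
      exact h4 u hu ((h.lk_inv_left hA hv hu).1 h5)
    · rintro A hA v hv g ⟨w, hw, h3, h4⟩
      refine ⟨g * w * g⁻¹, h.RR_cj' hw g, ?_, fun u hu h5 => ?_⟩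
      · unfold Lk
        rw [h.al_cj' hA hv hw.1]
        exact h3
      · obtain ⟨x, hx, rfl⟩ := h.exists_of_cj hu
        unfold Lk at h5
        rw [h.al_cj' hA hv hx.1] at h5
        rw [h.rf_cj hA hv hw.1]
        rcases h4 x hx h5 with rfl | rfl | rfl | rfl
        · exact Or.inl rfl
        · right; left; group
        · right; right; left; rfl
        · right; right; right; group
  · right
    push Not at h2
    obtain ⟨u, hu, hl', n1, n2, n3, n4⟩ := h2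
    refine h.transport one (P := fun A v => ∃ w ∈ RR Om U A, ∃ u ∈ RR Om U A, Lk Om U v w ∧ Lk Om U v u ∧ u ≠ w ∧
      u ≠ w⁻¹ ∧ u ≠ rf Om U v w ∧ u ≠ (rf Om U v w)⁻¹) ?_ ?_ hA hv ⟨w, hw, u, hu, hl, hl', n1, n2, n3, n4⟩
    · rintro A hA v hv ⟨w, hw, u, hu, h3, h4, h5⟩
      refine ⟨w, hw, u, hu, (h.lk_inv_left hA hv hw).2 h3, (h.lk_inv_left hA hv hu).2 h4, ?_⟩
      rw [h.rf_inv_left hA hv hw]
      exact h5
    · rintro A hA v hv g ⟨w, hw, u, hu, h3, h4, n1, n2, n3, n4⟩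
      have inj : ∀ a b : G, g * a * g⁻¹ = g * b * g⁻¹ → a = b := fun a b hab => mul_left_cancel (mul_right_cancel hab)
      refine ⟨g * w * g⁻¹, h.RR_cj' hw g, g * u * g⁻¹, h.RR_cj' hu g, ?_, ?_, fun hh => n1 (inj _ _ hh),
        fun hh => n2 (inj _ _ ?_), fun hh => n3 (inj _ _ ?_), fun hh => n4 (inj _ _ ?_)⟩
      · unfold Lk
        rw [h.al_cj' hA hv hw.1]
        exact h3
      · unfold Lk
        rw [h.al_cj' hA hv hu.1]
        exact h4
      · rw [hh]; group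
      · rw [hh, h.rf_cj hA hv hw.1]
      · rw [hh, h.rf_cj hA hv hw.1]; group

end CVW

end Cfsg.Agent.Cit.CV
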